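import Groth.Agent.H21Diag.GaPts
import Mathlib

/-!
The additive group represents global functions.
-/

open CategoryTheory MonoidalCategory CartesianMonoidalCategory MonObj GrpObj AlgebraicGeometry
open CategoryTheory.Limits
open Groth.Agent.H21Diag (gval gval_injective gval_mul algZ bc_ext)

set_option linter.style.haveILetI false

universe u

namespace Groth.Agent.H27Witt.GaCoord

variable {S : Scheme.{u}}

theorem gaFn_comp {X Y : Over S} (f : Y ⟶ X) (x : X ⟶ Red.Ga S) :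
    Red.gaFn (f ≫ x) = f.left.appTop (Red.gaFn x) := by
  unfold Red.gaFn
  rfl

theorem gaFn_surjective {X : Over S} (a : Γ(X.left, ⊤)) : ∃ x : X ⟶ Red.Ga S, Red.gaFn x = a := by
  letI := algZ Γ(X.left, ⊤)
  letI : Module (ULift.{u} ℤ) Γ(X.left, ⊤) := Algebra.toModule
  let φ : SymmetricAlgebra (ULift.{u} ℤ) (ULift.{u} ℤ) →ₐ[ULift.{u} ℤ] Γ(X.left, ⊤) :=
    SymmetricAlgebra.lift
      { toFun := fun x => algebraMap (ULift.{u} ℤ) Γ(X.left, ⊤) x * a
        map_add' := fun x y => by simp [add_mul]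
        map_smul' := fun c x => by
          rw [smul_eq_mul, map_mul, RingHom.id_apply, Algebra.smul_def]
          exact mul_assoc _ _ _ }
  let f : X.left ⟶ Spec (CommRingCat.of (SymmetricAlgebra (ULift.{u} ℤ) (ULift.{u} ℤ))) :=
    X.left.toSpecΓ ≫ Spec.map (CommRingCat.ofHom φ.toRingHom)
  refine ⟨Over.homMk (pullback.lift f X.hom (specULiftZIsTerminal.hom_ext _ _))
    (pullback.lift_snd _ _ _), ?_⟩
  refine (congrArg (fun m => Scheme.Hom.appTop m Red.gaCoord)
    (pullback.lift_fst f X.hom (specULiftZIsTerminal.hom_ext _ _))).trans ?_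
  have h1 : φ (SymmetricAlgebra.ι (ULift.{u} ℤ) (ULift.{u} ℤ) (ULift.up 1)) = a := by
    rw [SymmetricAlgebra.lift_ι_apply]
    show algebraMap (ULift.{u} ℤ) Γ(X.left, ⊤) 1 * a = a
    rw [map_one]; exact _root_.one_mul _
  have h2 : (Scheme.ΓSpecIso (CommRingCat.of (SymmetricAlgebra (ULift.{u} ℤ) (ULift.{u} ℤ)))).inv ≫
      f.appTop = CommRingCat.ofHom φ.toRingHom := by
    simp [f]
  exact (ConcreteCategory.congr_hom h2
    (SymmetricAlgebra.ι (ULift.{u} ℤ) (ULift.{u} ℤ) (ULift.up 1))).trans h1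

theorem gval_eq {B : Type u} [CommRing B] {y : Spec (CommRingCat.of B) ⟶ S}
    (g : Over.mk y ⟶ Red.Ga S) :
    gval g = (Scheme.ΓSpecIso (CommRingCat.of B)).hom (Red.gaFn g) := by
  have key : ∀ q : CommRingCat.of (SymmetricAlgebra (ULift.{u} ℤ) (ULift.{u} ℤ)) ⟶ CommRingCat.of B,
      (Scheme.ΓSpecIso (CommRingCat.of B)).hom ((Spec.map q).appTop Red.gaCoord) =
        q (SymmetricAlgebra.ι (ULift.{u} ℤ) (ULift.{u} ℤ) (ULift.up 1)) := by
    intro q
    have := Scheme.ΓSpecIso_naturality q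
    exact (ConcreteCategory.congr_hom this Red.gaCoord).trans (congrArg q
      (Iso.inv_hom_id_apply (Scheme.ΓSpecIso _) _))
  refine (key _).symm.trans ?_
  refine congrArg (fun m => (Scheme.ΓSpecIso (CommRingCat.of B)).hom
    (Scheme.Hom.appTop m Red.gaCoord)) ?_
  exact Spec.map_preimage _

theorem ext_chart {X : Over S} {x y : X ⟶ Red.Ga S}
    (h : ∀ (B : Type u) [CommRing B] (t : Spec (CommRingCat.of B) ⟶ S) (j : Over.mk t ⟶ X),
      gval (j ≫ x) = gval (j ≫ y)) : x = y := by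
  ext : 1
  refine Scheme.hom_ext_of_forall _ _ fun p => ?_
  obtain ⟨U, hU, hpU, -⟩ := exists_isAffineOpen_mem_and_subset (X := X.left) (x := p) (U := ⊤) trivial
  refine ⟨U, hpU, ?_⟩
  have h1 := congrArg (fun z => z.left) (gval_injective
    (h Γ(X.left, U) (hU.fromSpec ≫ X.hom) (Over.homMk hU.fromSpec rfl)))
  have h2 : hU.fromSpec ≫ x.left = hU.fromSpec ≫ y.left := h1
  rw [← hU.isoSpec_inv_ι, Category.assoc, Category.assoc] at h2
  exact (cancel_epi _).mp h2

theorem gaFn_injective {X : Over S} {x y : X ⟶ Red.Ga S} (h : Red.gaFn x = Red.gaFn y) : x = y :=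
  ext_chart fun B _ t j => by rw [gval_eq, gval_eq, gaFn_comp, gaFn_comp, h]

theorem gaFn_mul {X : Over S} (x y : X ⟶ Red.Ga S) :
    Red.gaFn (x * y) = Red.gaFn x + Red.gaFn y := by
  obtain ⟨z, hz⟩ := gaFn_surjective (X := X) (Red.gaFn x + Red.gaFn y)
  rw [← hz]
  congr 1
  refine ext_chart fun B _ t j => ?_
  rw [MonObj.comp_mul, gval_mul, gval_eq, gval_eq, gval_eq, gaFn_comp, gaFn_comp, gaFn_comp, hz,
    map_add, map_add]

theorem gaFn_one {X : Over S} : Red.gaFn (1 : X ⟶ Red.Ga S) = 0 := by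
  have := gaFn_mul (1 : X ⟶ Red.Ga S) 1
  have h2 := @_root_.one_mul (X ⟶ Red.Ga S) Monoid.toMulOneClass (1 : X ⟶ Red.Ga S)
  rw [h2] at this
  exact left_eq_add.mp this

end Groth.Agent.H27Witt.GaCoord
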