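import Groth.Agent.H27Witt.Fn
import Groth.Agent.H21Diag.Diag
import Groth.Agent.H21Diag.BaseChange
import Groth.Agent.H21Diag.Conj
import Mathlib

/-!
# Functions on diagonalisable groups over a field
-/

set_option autoImplicit false
set_option linter.style.haveILetI false
universe u

open CategoryTheory MonoidalCategory CartesianMonoidalCategory MonObj AlgebraicGeometry TensorProduct

noncomputable section

namespace Groth.Agent.H27Witt

variable {k : Type u} [Field k] (M : Type) [AddCommGroup M]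

/-- group algebra as functions -/
def diagFn : MonoidAlgebra k (Multiplicative M) ≃ₐ[k] Fn (Red.diag k M) :=
  Fn.specAlg (k := k) (MonoidAlgebra k (Multiplicative M))

variable {M}

theorem diagFn_mul {T : Over (Sk k)} (a b : T ⟶ Red.diag k M) (m : Multiplicative M) :
    Fn.pull (a * b) (diagFn M (MonoidAlgebra.single m 1)) =
      Fn.pull a (diagFn M (MonoidAlgebra.single m 1)) * Fn.pull b (diagFn M (MonoidAlgebra.single m 1)) := by
  let A := MonoidAlgebra k (Multiplicative M)
  let D := Red.diag k M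
  let s : A := MonoidAlgebra.single m 1
  have hnat : ∀ {P Q : CommRingCat.{u}} (f : P ⟶ Q) (z : P),
      (Spec.map f).appTop ((Scheme.ΓSpecIso P).inv z) = (Scheme.ΓSpecIso Q).inv (f z) := fun f z =>
    congr($(Scheme.ΓSpecIso_inv_naturality f).hom z).symm
  have hμ : Fn.pull μ[D] (diagFn M s) = Fn.pull (fst D D) (diagFn M s) * Fn.pull (snd D D) (diagFn M s) := by
    let w : (D ⊗ D).left ⟶ Spec (CommRingCat.of (A ⊗[k] A)) := (pullbackSpecIso k A A).hom
    let L : A ⊗[k] A →+* Γ((D ⊗ D).left, ⊤) := w.appTop.hom.comp (Scheme.ΓSpecIso (CommRingCat.of (A ⊗[k] A))).inv.hom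
    have key : ∀ (f : A →+* A ⊗[k] A) (g : (D ⊗ D).left ⟶ Spec (CommRingCat.of A)),
        g = w ≫ Spec.map (CommRingCat.ofHom f) → g.appTop ((Scheme.ΓSpecIso (CommRingCat.of A)).inv s) = L (f s) := by
      rintro f g rfl
      rw [Scheme.Hom.comp_appTop]
      exact congrArg w.appTop (hnat (CommRingCat.ofHom f) s)
    have hl : (Fn.pull (fst D D) (diagFn M s) : Γ((D ⊗ D).left, ⊤)) = L (s ⊗ₜ 1) := by
      exact key (Algebra.TensorProduct.includeLeftRingHom : A →+* A ⊗[k] A) (fst D D).left (pullbackSpecIso_hom_fst k A A).symm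
    have hr : (Fn.pull (snd D D) (diagFn M s) : Γ((D ⊗ D).left, ⊤)) = L (1 ⊗ₜ s) := by
      exact key (Algebra.TensorProduct.includeRight : A →ₐ[k] A ⊗[k] A).toRingHom (snd D D).left (pullbackSpecIso_hom_snd k A A).symm
    have hm : (Fn.pull μ[D] (diagFn M s) : Γ((D ⊗ D).left, ⊤)) = L (s ⊗ₜ s) := by
      refine (key (Bialgebra.comulAlgHom k A : A →+* A ⊗[k] A) (μ[D]).left mul_spec_asOver_spec_left).trans ?_
      congr 1
      simp [s, A]
    exact hm.trans ((congrArg L (by rw [Algebra.TensorProduct.tmul_mul_tmul, _root_.mul_one, _root_.one_mul])).trans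
      ((map_mul L _ _).trans (congrArg₂ (· * ·) hl.symm hr.symm)))
  rw [Hom.mul_def, Fn.pull_comp, AlgHom.comp_apply, hμ, map_mul, Fn.pull_pull, Fn.pull_pull, lift_fst, lift_snd]

/-- diagonalisable groups with free character groups are tori -/
theorem isTorus_DS (S : Scheme.{u}) (r : ℕ) : Red.IsTorus (Red.DS S (Fin r → ℤ)) := by
  refine ⟨S, 𝟙 S, inferInstance, inferInstance, fun V hV => ⟨V, hV.isCompact, by simp⟩,
    fun s => ⟨⊤, trivial, r, ⟨H21Diag.bcDSIso _ _⟩⟩⟩

theorem not_isTrivialGrp_DS {r : ℕ} (hr : r ≠ 0) : ¬ Red.IsTrivialGrp (Red.DS (Sk k) (Fin r → ℤ)) := by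
  intro h
  haveI : IsIso (Red.DS (Sk k) (Fin r → ℤ)).hom := h
  haveI : IsIso (Red.diag k (Fin r → ℤ)).hom := by
    haveI := H21Diag.isIso_diagToDS k (Fin r → ℤ)
    haveI : IsIso (H21Diag.diagToDS k (Fin r → ℤ)).left :=
      inferInstanceAs (IsIso ((Over.forget _).map (H21Diag.diagToDS k (Fin r → ℤ))))
    rw [← Over.w (H21Diag.diagToDS k (Fin r → ℤ))]
    infer_instance
  have hs : Function.Surjective (algebraMap k (MonoidAlgebra k (Multiplicative (Fin r → ℤ)))) := by
    haveI : IsIso (CommRingCat.ofHom (algebraMap k (MonoidAlgebra k (Multiplicative (Fin r → ℤ))))) :=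
      (isIso_SpecMap_iff.mp (inferInstanceAs (IsIso (Red.diag k (Fin r → ℤ)).hom)) |> fun h => (ConcreteCategory.isIso_iff_bijective _).mpr h)
    exact ((ConcreteCategory.isIso_iff_bijective
      (CommRingCat.ofHom (algebraMap k (MonoidAlgebra k (Multiplicative (Fin r → ℤ)))))).mp inferInstance).2
  obtain ⟨c, hc⟩ := hs (MonoidAlgebra.single (Multiplicative.ofAdd (fun _ => 1)) 1)
  have hne : (Multiplicative.ofAdd (fun _ : Fin r => (1 : ℤ))) ≠ 1 := by
    intro h1
    have h2 := congrFun (congrArg Multiplicative.toAdd h1) ⟨0, Nat.pos_of_ne_zero hr⟩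
    simp at h2
  have h3 := congrArg (fun z => z.coeff (Multiplicative.ofAdd (fun _ : Fin r => (1 : ℤ)))) hc
  simp [hne] at h3

end Groth.Agent.H27Witt
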