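import Groth.Agent.H27Witt.Fn
import Mathlib

/-!
# Translations on the functions of an affine group
-/

set_option autoImplicit false
set_option linter.style.haveILetI false
universe u

open CategoryTheory MonoidalCategory CartesianMonoidalCategory MonObj AlgebraicGeometry

noncomputable section

namespace Groth.Agent.H27Witt

variable {k : Type u} [Field k]

/-- the map to the base point -/
def toT0 (X : Over (Sk k)) : X ⟶ T0 k := Over.homMk X.hom

theorem comp_toT0 {X : Over (Sk k)} (y : T0 k ⟶ X) : y ≫ toT0 X = 𝟙 (T0 k) :=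
  Over.OverMorphism.ext (Over.w y)

namespace Fn

variable {G : Over (Sk k)} [GrpObj G]

/-- translation by a rational point -/
def transHom (x : T0 k ⟶ G) : G ⟶ G := 𝟙 G * (toT0 G ≫ x)

theorem comp_transHom (x y : T0 k ⟶ G) : y ≫ transHom x = y * x := by
  rw [transHom, MonObj.comp_mul, Category.comp_id, ← Category.assoc, comp_toT0, Category.id_comp]

/-- translation of functions -/
def R (x : T0 k ⟶ G) : Fn G →ₐ[k] Fn G := pull (transHom x)

theorem ev_R (x y : T0 k ⟶ G) (a : Fn G) : ev y (R x a) = ev (y * x) a := by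
  rw [R, ev_pull, comp_transHom]

theorem ev_one_R (x : T0 k ⟶ G) (a : Fn G) : ev 1 (R x a) = ev x a := by rw [ev_R, _root_.one_mul]

theorem pull_point (x : T0 k ⟶ G) (a : Fn G) : pull x a = algebraMap k (Fn (T0 k)) (ev x a) :=
  (struct_gamma _).symm

theorem exists_decomp_mul [IsAffine G.left] (a : Fn G) :
    ∃ (n : ℕ) (b c : Fin n → Fn G), ∀ (T : Over (Sk k)) (P Q : T ⟶ G),
      pull (P * Q) a = ∑ i, pull P (b i) * pull Q (c i) := by
  obtain ⟨n, b, c, h⟩ := exists_decomp (pull μ[G] a)
  refine ⟨n, b, c, fun T P Q => ?_⟩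
  rw [Hom.mul_def, pull_comp, AlgHom.comp_apply, h, map_sum]
  refine Finset.sum_congr rfl fun i _ => ?_
  rw [map_mul, pull_pull, pull_pull, lift_fst, lift_snd]

theorem R_eq_sum [IsAffine G.left] (a : Fn G) :
    ∃ (n : ℕ) (b c : Fin n → Fn G), ∀ x : T0 k ⟶ G, R x a = ∑ i, ev x (c i) • b i := by
  obtain ⟨n, b, c, h⟩ := exists_decomp_mul a
  refine ⟨n, b, c, fun x => ?_⟩
  rw [R, transHom, h G (𝟙 G) (toT0 G ≫ x)]
  refine Finset.sum_congr rfl fun i _ => ?_
  rw [pull_id, AlgHom.id_apply, pull_comp, AlgHom.comp_apply, pull_point, AlgHom.commutes,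
    Algebra.smul_def, _root_.mul_comm]

theorem R_one : R (1 : T0 k ⟶ G) = AlgHom.id k (Fn G) := by
  rw [R, transHom, MonObj.comp_one, _root_.mul_one, pull_id]

theorem R_mul (x y : T0 k ⟶ G) : R (x * y) = (R x).comp (R y) := by
  rw [R, R, R, ← pull_comp]
  congr 1
  rw [transHom, transHom, transHom, MonObj.comp_mul, MonObj.comp_mul, ← Category.assoc (𝟙 G * toT0 G ≫ x),
    show (𝟙 G * toT0 G ≫ x) ≫ toT0 G = toT0 G from Over.OverMorphism.ext (Over.w _)]
  exact (_root_.mul_assoc _ _ _).symm.trans (congrArg (· * toT0 G ≫ y) (Category.comp_id _).symm)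

/-- a finite-dimensional space of generators stable under translations -/
theorem exists_stable [IsAffine G.left] [LocallyOfFiniteType G.hom] :
    ∃ V : Submodule k (Fn G), FiniteDimensional k V ∧ Algebra.adjoin k (V : Set (Fn G)) = ⊤ ∧
      ∀ (x : T0 k ⟶ G), ∀ v ∈ V, R x v ∈ V := by
  classical
  haveI := finiteType G
  obtain ⟨s, hs⟩ := (Algebra.FiniteType.out : (⊤ : Subalgebra k (Fn G)).FG)
  choose n b c h using fun a : Fn G => R_eq_sum (G := G) a
  let V : Submodule k (Fn G) := Submodule.span k (⋃ a ∈ s, Set.range fun x : T0 k ⟶ G => R x a)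
  let W : Submodule k (Fn G) := Submodule.span k (⋃ a ∈ s, Set.range (b a))
  haveI : FiniteDimensional k W :=
    FiniteDimensional.span_of_finite k (s.finite_toSet.biUnion fun a _ => Set.finite_range _)
  have hVW : V ≤ W := by
    refine Submodule.span_le.mpr (Set.iUnion₂_subset fun a ha => ?_)
    rintro _ ⟨x, rfl⟩
    change R x a ∈ W
    rw [h a x]
    exact Submodule.sum_mem _ fun i _ => Submodule.smul_mem _ _
      (Submodule.subset_span (Set.mem_iUnion₂.mpr ⟨a, ha, i, rfl⟩))
  refine ⟨V, Submodule.finiteDimensional_of_le hVW, top_le_iff.mp ?_, fun x v hv => ?_⟩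
  · rw [← hs]
    refine Algebra.adjoin_mono fun a ha => Submodule.subset_span (Set.mem_iUnion₂.mpr ⟨a, ha, 1, ?_⟩)
    change R 1 a = a
    rw [R_one, AlgHom.id_apply]
  · have hle : V ≤ V.comap (R x).toLinearMap := by
      refine Submodule.span_le.mpr (Set.iUnion₂_subset fun a ha => ?_)
      rintro _ ⟨y, rfl⟩
      change R x (R y a) ∈ V
      rw [← AlgHom.comp_apply, ← R_mul]
      exact Submodule.subset_span (Set.mem_iUnion₂.mpr ⟨a, ha, _, rfl⟩)
    exact hle hv

end Fn

end Groth.Agent.H27Witt
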