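import Mathlib

/-!
# Symmetric additive two-cocycles in characteristic `p` (Lazard)
-/

set_option autoImplicit false
universe u

open Finset

noncomputable section

namespace Groth.Agent.H27Witt.Lazard

variable {p : ℕ} [hp : Fact p.Prime] {k : Type u} [Field k]

/-- the polynomial `((s + t)^p - s^p - t^p) / p` -/
def lz (p : ℕ) {R : Type*} [CommSemiring R] (s t : R) : R :=
  ∑ m ∈ Ioo 0 p, ((p.choose m / p : ℕ) : R) * s ^ m * t ^ (p - m)

theorem map_lz {R R' : Type*} [CommSemiring R] [CommSemiring R'] (f : R →+* R') (s t : R) :
    f (lz p s t) = lz p (f s) (f t) := by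
  simp [lz, map_sum]

theorem lz_mul {R : Type*} [CommSemiring R] (b s t : R) : lz p (b * s) (b * t) = b ^ p * lz p s t := by
  rw [lz, lz, Finset.mul_sum]
  refine Finset.sum_congr rfl fun m hm => ?_
  have hm' := Finset.mem_Ioo.mp hm
  rw [mul_pow, mul_pow, show b ^ p = b ^ m * b ^ (p - m) by rw [← pow_add]; congr 1; omega]
  ring

theorem lz_pow_char [CharP k p] (l : ℕ) (s t : k) : lz p (s ^ p ^ l) (t ^ p ^ l) = lz p s t ^ p ^ l := by
  rw [← iterateFrobenius_def p l (lz p s t), map_lz, iterateFrobenius_def, iterateFrobenius_def]

theorem prime_mul_lz {R : Type*} [CommSemiring R] (s t : R) :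
    s ^ p + t ^ p + (p : R) * lz p s t = (s + t) ^ p := by
  have hp2 := hp.out.two_le
  rw [add_pow]
  have hr : Finset.range (p + 1) = insert 0 (insert p (Ioo 0 p)) := by
    ext m; simp; omega
  rw [hr, Finset.sum_insert (by simp; omega), Finset.sum_insert (by simp)]
  simp only [Nat.choose_zero_right, Nat.choose_self, Nat.cast_one, pow_zero, one_mul, mul_one, Nat.sub_zero,
    Nat.sub_self, lz, Finset.mul_sum]
  rw [← add_assoc, add_comm (t ^ p)]
  congr 1
  refine Finset.sum_congr rfl fun m hm => ?_
  have hm' := Finset.mem_Ioo.mp hm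
  obtain ⟨c, hc⟩ := hp.out.dvd_choose_self (by omega : m ≠ 0) hm'.2
  rw [hc, Nat.mul_div_cancel_left _ hp.out.pos, Nat.cast_mul]
  ring

/-- a homogeneous component -/
def comp (d : ℕ) (v : ℕ → k) (s t : k) : k := ∑ m ∈ Ioo 0 d, v m * s ^ m * t ^ (d - m)

theorem comp_binom (d : ℕ) (hd : 0 < d) (γ : k) (s t : k) :
    comp d (fun m => γ * (d.choose m : k)) s t = -γ * s ^ d + -γ * t ^ d - -γ * (s + t) ^ d := by
  rw [add_pow]
  have hr : Finset.range (d + 1) = insert 0 (insert d (Ioo 0 d)) := by
    ext m; simp; omega
  rw [hr, Finset.sum_insert (by simp; omega), Finset.sum_insert (by simp)]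
  simp only [Nat.choose_zero_right, Nat.choose_self, Nat.cast_one, pow_zero, one_mul, mul_one, Nat.sub_zero,
    Nat.sub_self]
  rw [comp, mul_add, mul_add, Finset.mul_sum]
  have : ∑ m ∈ Ioo 0 d, γ * (d.choose m : k) * s ^ m * t ^ (d - m) =
      -∑ m ∈ Ioo 0 d, -γ * (s ^ m * t ^ (d - m) * (d.choose m : k)) := by
    rw [← Finset.sum_neg_distrib]
    exact Finset.sum_congr rfl fun m _ => by ring
  rw [this]
  ring

variable [CharP k p]

/-- a symmetric cocycle component is a coboundary plus a multiple of a power of `lz` -/
theorem comp_eq [PerfectRing k p] : ∀ (d : ℕ) (v : ℕ → k),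
    (∀ m, 0 < m → m < d → v (d - m) = v m) →
    (∀ a b e, 0 < a → 0 < b → 0 < e → a + b + e = d →
      ((a + b).choose a : k) * v (a + b) = ((b + e).choose b : k) * v a) →
    ∃ (γ a : k) (l : ℕ), ∀ s t,
      comp d v s t = γ * s ^ d + γ * t ^ d - γ * (s + t) ^ d + a * lz p s t ^ p ^ l := by
  intro d
  induction d using Nat.strong_induction_on with
  | _ d ih =>
    intro v hsym hrel
    have hp2 := hp.out.two_le
    rcases le_or_gt d 1 with hd1 | hd1
    · refine ⟨0, 0, 0, fun s t => ?_⟩
      rw [comp, show Ioo 0 d = ∅ from Finset.eq_empty_of_forall_notMem fun x hx => by simp at hx; omega]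
      simp
    have hkey : ∀ m, 0 < m → m < d → (m : k) * v m = ((d - 1).choose (m - 1) : k) * v 1 := by
      intro m hm0 hm
      rcases eq_or_lt_of_le (Nat.succ_le_of_lt hm0) with h | h
      · rw [← h]; simp
      · have := hrel 1 (m - 1) (d - m) one_pos (by omega) (by omega) (by omega)
        rwa [show 1 + (m - 1) = m by omega, Nat.choose_one_right, show m - 1 + (d - m) = d - 1 by omega] at this
    by_cases hpd : p ∣ d
    · obtain ⟨e, rfl⟩ := hpd
      rcases eq_or_ne e 1 with he | he
      · subst he
        rw [mul_one] at *
        refine ⟨0, v 1, 0, fun s t => ?_⟩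
        rw [pow_zero, pow_one, lz, Finset.mul_sum]
        simp only [zero_mul, add_zero, sub_zero, zero_add]
        refine Finset.sum_congr rfl fun m hm => ?_
        have hm' := Finset.mem_Ioo.mp hm
        have hmk : (m : k) ≠ 0 := fun h => by
          have := Nat.le_of_dvd hm'.1 ((CharP.cast_eq_zero_iff k p m).mp h)
          omega
        have hnat : m * (p.choose m / p) = (p - 1).choose (m - 1) := by
          obtain ⟨c, hc⟩ := hp.out.dvd_choose_self (by omega : m ≠ 0) hm'.2
          have h1 := Nat.add_one_mul_choose_eq (p - 1) (m - 1)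
          rw [show p - 1 + 1 = p by omega, show m - 1 + 1 = m by omega, hc] at h1
          rw [hc, Nat.mul_div_cancel_left _ hp.out.pos]
          exact Nat.eq_of_mul_eq_mul_left hp.out.pos (by rw [h1]; ring)
        have hv : v m = v 1 * ((p.choose m / p : ℕ) : k) := by
          refine mul_left_cancel₀ hmk ?_
          rw [hkey m hm'.1 hm'.2, ← hnat, Nat.cast_mul]
          ring
        rw [hv]
        ring
      · have he0 : 2 ≤ e := by
          rcases e with _ | _ | e
          · omega
          · exact absurd rfl he
          · omega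
        have hbig : p < p * e := lt_mul_of_one_lt_right hp.out.pos (by omega)
        have hv1 : v 1 = 0 := by
          have h := hkey p hp.out.pos hbig
          have hl := @Choose.choose_modEq_choose_mod_mul_choose_div_nat (p * e - 1) (p - 1) p hp
          have hmul : p * e = p * (e - 1) + p := by rw [← Nat.mul_succ]; congr 1; omega
          rw [show p * e - 1 = (p - 1) + p * (e - 1) by omega] at hl h
          rw [Nat.add_mul_mod_self_left, Nat.mod_eq_of_lt (by omega : p - 1 < p), Nat.add_mul_div_left _ _ hp.out.pos,
            Nat.div_eq_of_lt (by omega : p - 1 < p), Nat.choose_self, zero_add, Nat.choose_zero_right, mul_one] at hl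
          rw [(CharP.natCast_eq_natCast k p).mpr hl, CharP.cast_eq_zero, zero_mul, Nat.cast_one, one_mul] at h
          exact h.symm
        have hvan : ∀ m, 0 < m → m < p * e → ¬ p ∣ m → v m = 0 := by
          intro m hm0 hm hpm
          have h := hkey m hm0 hm
          rw [hv1, mul_zero, mul_eq_zero] at h
          exact h.resolve_left fun h0 => hpm ((CharP.cast_eq_zero_iff k p m).mp h0)
        let w : ℕ → k := fun l => (frobeniusEquiv k p).symm (v (p * l))
        have hw : ∀ l, w l ^ p = v (p * l) := fun l => frobenius_apply_frobeniusEquiv_symm k p _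
        have hchoose : ∀ a b, (((p * a + p * b).choose (p * a) : ℕ) : k) = ((a + b).choose a : k) := by
          intro a b
          refine (CharP.natCast_eq_natCast k p).mpr ?_
          have hl := @Choose.choose_modEq_choose_mod_mul_choose_div_nat (p * a + p * b) (p * a) p hp
          rwa [← mul_add, Nat.mul_mod_right, Nat.mul_mod_right, Nat.choose_self, one_mul,
            Nat.mul_div_cancel_left _ hp.out.pos, Nat.mul_div_cancel_left _ hp.out.pos, mul_add] at hl
        have hfix : ∀ N : ℕ, (N : k) ^ p = N := fun N => map_natCast (frobenius k p) N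
        obtain ⟨γ, a, l, hl⟩ := ih e (lt_mul_of_one_lt_left (by omega) hp.out.one_lt) w
          (fun m hm0 hm => by
            refine frobenius_inj k p ?_
            rw [frobenius_def, frobenius_def, hw, hw, Nat.mul_sub]
            exact hsym _ (Nat.mul_pos hp.out.pos hm0) (Nat.mul_lt_mul_of_pos_left hm hp.out.pos))
          (fun a b e' ha hb he' habe => by
            refine frobenius_inj k p ?_
            rw [frobenius_def, frobenius_def, mul_pow, mul_pow, hw, hw, hfix, hfix, mul_add, ← hchoose a b,
              ← hchoose b e']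
            exact hrel _ _ _ (Nat.mul_pos hp.out.pos ha) (Nat.mul_pos hp.out.pos hb) (Nat.mul_pos hp.out.pos he')
              (by rw [← mul_add, ← mul_add, habe]))
        refine ⟨γ ^ p, a ^ p, l + 1, fun s t => ?_⟩
        have hcomp : comp (p * e) v s t = comp e w s t ^ p := by
          have hs : comp e w s t ^ p = ∑ j ∈ Ioo 0 e, v (p * j) * s ^ (p * j) * t ^ (p * e - p * j) := by
            rw [comp, ← frobenius_def, map_sum]
            refine Finset.sum_congr rfl fun j _ => ?_
            rw [map_mul, map_mul, map_pow, map_pow]
            simp only [frobenius_def]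
            rw [hw, ← pow_mul, ← pow_mul, Nat.mul_sub]
          rw [hs, comp, ← Finset.sum_filter_of_ne (p := fun m => p ∣ m) (s := Ioo 0 (p * e))]
          · refine (Finset.sum_bij (fun j _ => p * j) ?_ ?_ ?_ ?_).symm
            · intro j hj
              have hj' := Finset.mem_Ioo.mp hj
              exact Finset.mem_filter.mpr ⟨Finset.mem_Ioo.mpr ⟨Nat.mul_pos hp.out.pos hj'.1,
                Nat.mul_lt_mul_of_pos_left hj'.2 hp.out.pos⟩, dvd_mul_right p j⟩
            · intro j _ j' _ h
              exact Nat.eq_of_mul_eq_mul_left hp.out.pos h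
            · intro m hm
              obtain ⟨hm1, ⟨j, rfl⟩⟩ := Finset.mem_filter.mp hm
              have hm' := Finset.mem_Ioo.mp hm1
              exact ⟨j, Finset.mem_Ioo.mpr ⟨Nat.pos_of_mul_pos_left hm'.1, Nat.lt_of_mul_lt_mul_left hm'.2⟩, rfl⟩
            · intro j _
              rfl
          · intro m hm hne
            by_contra hpm
            have hm' := Finset.mem_Ioo.mp hm
            rw [hvan m hm'.1 hm'.2 hpm, zero_mul, zero_mul] at hne
            exact hne rfl
        rw [hcomp, hl, ← frobenius_def]
        simp only [map_add, map_sub, map_mul, map_pow]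
        simp only [frobenius_def]
        simp only [← pow_mul, pow_succ']
        rw [← add_pow_char s t p, ← pow_mul]
    · refine ⟨-(v 1 / d), 0, 0, fun s t => ?_⟩
      have hdk : (d : k) ≠ 0 := fun h => hpd ((CharP.cast_eq_zero_iff k p d).mp h)
      have hv : ∀ m, 0 < m → m < d → ¬ p ∣ m → v m = v 1 / d * (d.choose m : k) := by
        intro m hm0 hm hpm
        have hmk : (m : k) ≠ 0 := fun h => hpm ((CharP.cast_eq_zero_iff k p m).mp h)
        have h1 := Nat.add_one_mul_choose_eq (d - 1) (m - 1)
        rw [show d - 1 + 1 = d by omega, show m - 1 + 1 = m by omega] at h1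
        have h2 : (d : k) * ((d - 1).choose (m - 1) : k) = (d.choose m : k) * (m : k) := by
          have := congrArg (Nat.cast : ℕ → k) h1
          push_cast at this
          exact this
        refine mul_left_cancel₀ hmk ?_
        rw [hkey m hm0 hm]
        field_simp
        linear_combination (v 1) * h2
      have hall : ∀ m ∈ Ioo 0 d, v m = v 1 / d * (d.choose m : k) := by
        intro m hm
        have hm' := Finset.mem_Ioo.mp hm
        by_cases hpm : p ∣ m
        · have hdm : ¬ p ∣ d - m := fun h => hpd (by
            have := Nat.dvd_add h hpm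
            rwa [Nat.sub_add_cancel hm'.2.le] at this)
          rw [← hsym m hm'.1 hm'.2, hv _ (by omega) (by omega) hdm, Nat.choose_symm hm'.2.le]
        · exact hv m hm'.1 hm'.2 hpm
      have : comp d v s t = comp d (fun m => v 1 / d * (d.choose m : k)) s t :=
        Finset.sum_congr rfl fun m hm => by rw [hall m hm]
      rw [this, comp_binom d (by omega), zero_mul, add_zero]

/-- induction principle for symmetric polynomial cocycles on the additive group -/
theorem induction [PerfectRing k p] [Infinite k] (Q : (k → k → k) → Prop)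
    (hzero : Q fun _ _ => 0) (hadd : ∀ f g, Q f → Q g → Q fun s t => f s t + g s t)
    (hbd : ∀ g : Polynomial k, g.eval 0 = 0 → Q fun s t => g.eval s + g.eval t - g.eval (s + t))
    (hlz : ∀ (a : k) (l : ℕ), Q fun s t => a * lz p s t ^ p ^ l)
    (f : k → k → k) (P : MvPolynomial (Fin 2) k) (hP : ∀ s t, f s t = MvPolynomial.eval ![s, t] P)
    (hsymm : ∀ s t, f s t = f t s) (hcoc : ∀ s t u, f s t + f (s + t) u = f t u + f s (t + u)) (h0 : f 0 0 = 0) :
    Q f := by
  classical
  let PP : Polynomial (Polynomial k) :=
    MvPolynomial.aeval ![Polynomial.C Polynomial.X, (Polynomial.X : Polynomial (Polynomial k))] P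
  let c : ℕ → ℕ → k := fun i j => (PP.coeff j).coeff i
  obtain ⟨N, hN⟩ : ∃ N, (∀ j, N ≤ j → PP.coeff j = 0) ∧ ∀ i j, N ≤ i → c i j = 0 := by
    refine ⟨max (PP.natDegree + 1) (PP.support.sup (fun j => (PP.coeff j).natDegree) + 1), fun j hj => ?_, fun i j hi => ?_⟩
    · exact Polynomial.coeff_eq_zero_of_natDegree_lt (lt_of_lt_of_le (Nat.lt_succ_self _) ((le_max_left _ _).trans hj))
    · by_cases hj : j ∈ PP.support
      · refine Polynomial.coeff_eq_zero_of_natDegree_lt (lt_of_lt_of_le (Nat.lt_succ_of_le ?_) ((le_max_right _ _).trans hi))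
        exact Finset.le_sup (f := fun j => (PP.coeff j).natDegree) hj
      · simp [c, Polynomial.notMem_support_iff.mp hj]
  have hexp : ∀ s t, f s t = ∑ j ∈ range N, ∑ i ∈ range N, c i j * s ^ i * t ^ j := by
    intro s t
    have h1 : f s t = (PP.eval (Polynomial.C t)).eval s := by
      rw [hP, ← Polynomial.coe_evalRingHom, ← Polynomial.coe_evalRingHom, ← RingHom.comp_apply]
      simp only [PP, MvPolynomial.aeval_def, MvPolynomial.eval₂_comp_left]
      refine congrArg₂ (fun a b => MvPolynomial.eval₂ a b P) (RingHom.ext fun x => ?_) (funext fun i => ?_)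
      · simp
      · fin_cases i <;> simp
    rw [h1, Polynomial.eval_eq_sum_range' (n := N + 1)
      (Nat.lt_succ_of_le (Polynomial.natDegree_le_iff_coeff_eq_zero.mpr fun j hj => hN.1 j (le_of_lt hj))),
      Polynomial.eval_finsetSum, Finset.sum_range_succ, hN.1 N le_rfl, zero_mul, Polynomial.eval_zero, add_zero]
    refine Finset.sum_congr rfl fun j _ => ?_
    rw [Polynomial.eval_mul, Polynomial.eval_pow, Polynomial.eval_C, Polynomial.eval_eq_sum_range' (n := N + 1)
      (Nat.lt_succ_of_le (Polynomial.natDegree_le_iff_coeff_eq_zero.mpr fun i hi => hN.2 i j (le_of_lt hi))),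
      Finset.sum_range_succ, show (PP.coeff j).coeff N = 0 from hN.2 N j le_rfl, zero_mul, add_zero, Finset.sum_mul]
  -- identities of polynomials
  have heval2 : ∀ s t, (PP.eval (Polynomial.C t)).eval s = f s t := by
    intro s t
    rw [hP, ← Polynomial.coe_evalRingHom, ← Polynomial.coe_evalRingHom, ← RingHom.comp_apply]
    simp only [PP, MvPolynomial.aeval_def, MvPolynomial.eval₂_comp_left]
    refine congrArg₂ (fun a b => MvPolynomial.eval₂ a b P) (RingHom.ext fun x => ?_) (funext fun i => ?_)
    · simp
    · fin_cases i <;> simp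
  have hf0 : ∀ s, f s 0 = 0 := fun s => by
    have h := hcoc s 0 0
    rw [add_zero, add_zero, h0] at h
    linear_combination h
  have hc0 : ∀ i, c i 0 = 0 := by
    intro i
    have : PP.coeff 0 = 0 := Polynomial.funext fun s => by
      rw [Polynomial.coeff_zero_eq_eval_zero, Polynomial.eval_zero]
      have := heval2 s 0
      rw [map_zero] at this
      rw [this, hf0]
    simp [c, this]
  -- coefficients of two-variable expansions
  have hext2 : ∀ (A B : Polynomial (Polynomial k)),
      (∀ s t, (A.eval (Polynomial.C t)).eval s = (B.eval (Polynomial.C t)).eval s) → A = B := by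
    intro A B h
    haveI : Infinite (Polynomial k) := inferInstance
    refine Polynomial.eq_of_infinite_eval_eq A B (Set.Infinite.mono ?_ (Set.infinite_range_of_injective
      (Polynomial.C_injective (R := k))))
    rintro _ ⟨t, rfl⟩
    exact Polynomial.funext fun s => h s t
  have hcs : ∀ i j, c i j = c j i := by
    intro i j
    let SS : Polynomial (Polynomial k) :=
      ∑ j ∈ range N, ∑ i ∈ range N, Polynomial.C (Polynomial.C (c i j) * Polynomial.X ^ j) * Polynomial.X ^ i
    have hS : PP = SS := hext2 _ _ fun s t => by
      rw [heval2, hsymm, hexp]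
      simp only [SS, Polynomial.eval_finsetSum, Polynomial.eval_mul, Polynomial.eval_C, Polynomial.eval_pow,
        Polynomial.eval_X]
      exact Finset.sum_congr rfl fun j _ => Finset.sum_congr rfl fun i _ => by ring
    have h1 : (SS.coeff j).coeff i = if j < N ∧ i < N then c j i else 0 := by
      simp only [SS, Polynomial.finsetSum_coeff, Polynomial.coeff_C_mul, Polynomial.coeff_X_pow, mul_ite, mul_one,
        mul_zero, Finset.sum_ite_eq, Finset.mem_range, apply_ite (fun q : Polynomial k => q.coeff i),
        Polynomial.coeff_zero]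
      by_cases hj : j < N
      · by_cases hi : i < N
        · simp [hj, hi, Polynomial.coeff_X_pow]
        · simp [hj, hi, Polynomial.coeff_X_pow]
      · simp [hj]
    conv_lhs => simp only [c]
    rw [hS, h1]
    split_ifs with h
    · rfl
    · rw [not_and_or, not_lt, not_lt] at h
      rcases h with h | h
      · exact (hN.2 j i h).symm
      · change 0 = (PP.coeff i).coeff j
        rw [hN.1 i h, Polynomial.coeff_zero]
  have hrel : ∀ a b e, 0 < a → 0 < b → 0 < e →
      ((a + b).choose a : k) * c (a + b) e = ((b + e).choose b : k) * c a (b + e) := by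
    intro a b e ha hb he
    let ev : k → k → k → (Polynomial (Polynomial (Polynomial k))) →+* k := fun s t u => ((Polynomial.evalRingHom s).comp
      (Polynomial.evalRingHom (Polynomial.C t))).comp (Polynomial.evalRingHom (Polynomial.C (Polynomial.C u)))
    let S : (Polynomial (Polynomial (Polynomial k))) := Polynomial.C (Polynomial.C Polynomial.X)
    let T : (Polynomial (Polynomial (Polynomial k))) := Polynomial.C Polynomial.X
    let U : (Polynomial (Polynomial (Polynomial k))) := Polynomial.X
    let F : (Polynomial (Polynomial (Polynomial k))) → (Polynomial (Polynomial (Polynomial k))) → (Polynomial (Polynomial (Polynomial k))) := fun A B =>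
      ∑ j ∈ range N, ∑ i ∈ range N, Polynomial.C (Polynomial.C (Polynomial.C (c i j))) * A ^ i * B ^ j
    have hev : ∀ s t u A B, ev s t u (F A B) = f (ev s t u A) (ev s t u B) := by
      intro s t u A B
      rw [hexp]
      simp only [F, map_sum, map_mul, map_pow]
      refine Finset.sum_congr rfl fun j _ => Finset.sum_congr rfl fun i _ => ?_
      congr 2
      simp [ev, Polynomial.coe_evalRingHom]
    have hid : F S T + F (S + T) U = F T U + F S (T + U) := by
      have hx : ∀ A B : (Polynomial (Polynomial (Polynomial k))), (∀ s t u, ev s t u A = ev s t u B) → A = B := by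
        intro A B h
        haveI : Infinite (Polynomial (Polynomial k)) := inferInstance
        refine Polynomial.eq_of_infinite_eval_eq A B (Set.Infinite.mono ?_ (Set.infinite_range_of_injective
          ((Polynomial.C_injective (R := Polynomial k)).comp (Polynomial.C_injective (R := k)))))
        rintro _ ⟨u, rfl⟩
        exact hext2 _ _ fun s t => h s t u
      refine hx _ _ fun s t u => ?_
      simp only [map_add, hev]
      simpa [ev, S, T, U, Polynomial.coe_evalRingHom] using hcoc s t u
    have hT1 : ∀ A B : Polynomial (Polynomial k), (F (Polynomial.C A) (Polynomial.C B)).coeff e = 0 := by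
      intro A B
      simp only [F, Polynomial.finsetSum_coeff, ← map_pow, ← map_mul, Polynomial.coeff_C, if_neg he.ne']
      simp
    have hT2 : ((F (S + T) U).coeff e |>.coeff b).coeff a = ((a + b).choose a : k) * c (a + b) e := by
      simp only [F, S, T, U, ← map_add, ← map_pow, ← map_mul, Polynomial.finsetSum_coeff,
        Polynomial.coeff_C_mul, Polynomial.coeff_X_pow, mul_ite, mul_one, mul_zero]
      rw [Finset.sum_comm]
      simp only [apply_ite (fun q : Polynomial (Polynomial k) => (q.coeff b).coeff a), Polynomial.coeff_zero,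
        Finset.sum_ite_eq, Finset.mem_range]
      by_cases hei : e < N
      · simp only [hei, if_true, Polynomial.finsetSum_coeff, Polynomial.coeff_C_mul, add_comm (Polynomial.C Polynomial.X),
          Polynomial.coeff_X_add_C_pow, Polynomial.coeff_mul_natCast, Polynomial.coeff_X_pow, ite_mul, one_mul,
          zero_mul, mul_ite, mul_zero]
        rw [Finset.sum_eq_single (a + b)]
        · rw [if_pos (by omega), add_comm a b, Nat.choose_symm_add]
          ring
        · intro i _ hi
          split_ifs with h
          · rcases Nat.lt_or_ge i b with h' | h'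
            · rw [Nat.choose_eq_zero_of_lt h']; simp
            · exact absurd (by omega : i = a + b) hi
          · rfl
        · intro hab
          rw [show c (a + b) e = 0 from hN.2 _ _ (by simpa using hab)]
          simp
      · rw [show c (a + b) e = 0 by simp [c, hN.1 e (not_lt.mp hei)]]
        simp [hei]
    have hT4 : ((F S (T + U)).coeff e |>.coeff b).coeff a = ((b + e).choose b : k) * c a (b + e) := by
      have hcoeff : ∀ j, ((((Polynomial.C Polynomial.X + Polynomial.X : (Polynomial (Polynomial (Polynomial k)))) ^ j).coeff e).coeff b) =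
          if b = j - e then ((j.choose e : ℕ) : Polynomial k) else 0 := by
        intro j
        rw [add_comm, Polynomial.coeff_X_add_C_pow, Polynomial.coeff_mul_natCast, Polynomial.coeff_X_pow, ite_mul,
          one_mul, zero_mul]
      simp only [F, S, T, U, ← map_pow, ← map_mul, Polynomial.finsetSum_coeff, Polynomial.coeff_C_mul, hcoeff,
        mul_ite, mul_zero, apply_ite (fun q : Polynomial k => q.coeff a), Polynomial.coeff_zero,
        Polynomial.coeff_mul_natCast, Polynomial.coeff_C_mul, Polynomial.coeff_X_pow, mul_one, ite_mul, zero_mul]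
      rw [Finset.sum_eq_single (b + e)]
      · rw [Finset.sum_eq_single a]
        · rw [if_pos (by omega), if_pos rfl, Nat.choose_symm_add]
          ring
        · intro i _ hi
          simp [Ne.symm hi]
        · intro hia
          rw [show c a (b + e) = 0 from hN.2 _ _ (by simpa using hia)]
          simp
      · intro j _ hj
        refine Finset.sum_eq_zero fun i _ => ?_
        split_ifs with h h'
        · rcases Nat.lt_or_ge j e with hlt | hge
          · rw [Nat.choose_eq_zero_of_lt hlt]; simp
          · exact absurd (by omega : j = b + e) hj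
        all_goals rfl
      · intro hbe
        refine Finset.sum_eq_zero fun i _ => ?_
        rw [show c i (b + e) = 0 by simp [c, hN.1 (b + e) (by simpa using hbe)]]
        simp
    have hT3 : ((F T U).coeff e |>.coeff b).coeff a = 0 := by
      simp only [F, T, U, ← map_pow, ← map_mul, Polynomial.finsetSum_coeff, Polynomial.coeff_C_mul,
        Polynomial.coeff_X_pow, mul_ite, mul_one, mul_zero, apply_ite (fun q : Polynomial (Polynomial k) => q.coeff b),
        apply_ite (fun q : Polynomial k => q.coeff a), Polynomial.coeff_zero, Polynomial.coeff_C, if_neg ha.ne']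
      simp
    have h := congrArg (fun Z : (Polynomial (Polynomial (Polynomial k))) => ((Z.coeff e).coeff b).coeff a) hid
    simp only [Polynomial.coeff_add] at h
    rw [hT2, hT3, hT4, zero_add, show F S T = F (Polynomial.C (Polynomial.C Polynomial.X)) (Polynomial.C Polynomial.X)
      from rfl, hT1] at h
    simpa using h
  -- decomposition into components
  have hsum : ∀ s t, f s t = ∑ d ∈ range (2 * N), comp d (fun m => c m (d - m)) s t := by
    intro s t
    have h1 : f s t = ∑ x ∈ (range N ×ˢ range N).filter (fun x => 0 < x.1 ∧ 0 < x.2),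
        c x.1 x.2 * s ^ x.1 * t ^ x.2 := by
      rw [Finset.sum_filter_of_ne, Finset.sum_product, Finset.sum_comm, hexp]
      rintro ⟨i, j⟩ _ hne
      constructor
      · rcases Nat.eq_zero_or_pos i with rfl | h
        · exact absurd (by rw [hcs, hc0, zero_mul, zero_mul]) hne
        · exact h
      · rcases Nat.eq_zero_or_pos j with rfl | h
        · exact absurd (by rw [hc0, zero_mul, zero_mul]) hne
        · exact h
    rw [h1]
    simp only [comp]
    rw [Finset.sum_sigma']
    refine Finset.sum_bij_ne_zero (fun x _ _ => ⟨x.1 + x.2, x.1⟩) ?_ ?_ ?_ ?_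
    · rintro ⟨i, j⟩ hx _
      simp only [Finset.mem_filter, Finset.mem_product, Finset.mem_range] at hx
      simp only [Finset.mem_sigma, Finset.mem_range, Finset.mem_Ioo]
      omega
    · rintro ⟨i, j⟩ _ _ ⟨i', j'⟩ _ _ h
      simp only [Sigma.mk.injEq, heq_eq_eq] at h
      ext <;> simp <;> omega
    · rintro ⟨d, m⟩ hx hne
      simp only [Finset.mem_sigma, Finset.mem_range, Finset.mem_Ioo] at hx
      have hm : m < N := by
        by_contra h
        exact hne (by simp [hN.2 m (d - m) (not_lt.mp h)])
      have hdm : d - m < N := by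
        by_contra h
        exact hne (by simp [c, hN.1 (d - m) (not_lt.mp h)])
      refine ⟨(m, d - m), ?_, hne, ?_⟩
      · simp only [Finset.mem_filter, Finset.mem_product, Finset.mem_range]
        omega
      · simp only [Sigma.mk.injEq, heq_eq_eq, and_true]
        omega
    · rintro ⟨i, j⟩ _ _
      simp
  have hfun : f = fun s t => ∑ d ∈ range (2 * N), comp d (fun m => c m (d - m)) s t := funext₂ hsum
  rw [hfun]
  refine Finset.induction_on (range (2 * N)) ?_ ?_
    (motive := fun s' => Q fun s t => ∑ d ∈ s', comp d (fun m => c m (d - m)) s t)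
  · simpa using hzero
  · intro d s' hd ih
    simp only [Finset.sum_insert hd]
    refine hadd _ _ ?_ ih
    rcases Nat.eq_zero_or_pos d with rfl | hdpos
    · rw [show comp 0 (fun m => c m (0 - m)) = fun _ _ => (0 : k) from funext₂ fun s t => by simp [comp]]
      exact hzero
    obtain ⟨γ, a, l, hl⟩ := comp_eq (p := p) d (fun m => c m (d - m))
      (fun m hm0 hm => by rw [show d - (d - m) = m by omega, hcs])
      (fun a b e ha hb he habe => by
        rw [show d - (a + b) = e by omega, show d - a = b + e by omega]
        exact hrel a b e ha hb he)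
    rw [show comp d (fun m => c m (d - m)) =
      fun s t => (γ * s ^ d + γ * t ^ d - γ * (s + t) ^ d) + a * lz p s t ^ p ^ l from funext₂ hl]
    refine hadd _ _ ?_ (hlz a l)
    have := hbd (Polynomial.C γ * Polynomial.X ^ d) (by simp [hdpos.ne'])
    simpa using this

end Groth.Agent.H27Witt.Lazard
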