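import Groth.Agent.H27Witt.AlgMap
import Groth.Agent.H27Witt.Lazard
import Mathlib

/-!
# Extensions of Witt groups by Witt groups, as cocycles on rational points
-/

set_option autoImplicit false
universe u

open MvPolynomial

noncomputable section

namespace Groth.Agent.H27Witt

variable {p : ℕ} [hp : Fact p.Prime] {k : Type u} [Field k] {n m r r' : ℕ}

/-- a polynomial function of two Witt vectors -/
def IsAlgMap2 (c : TruncatedWittVector p n k → TruncatedWittVector p m k → TruncatedWittVector p r k) : Prop :=
  ∃ P : TruncatedWittVector p r (MvPolynomial (Fin n ⊕ Fin m) k),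
    ∀ a b, c a b = WittGrp.truncMap p r
      (MvPolynomial.eval (Sum.elim (fun i => a.coeff i) fun i => b.coeff i)) P

theorem IsAlgMap2.add {c d : TruncatedWittVector p n k → TruncatedWittVector p m k → TruncatedWittVector p r k}
    (hc : IsAlgMap2 c) (hd : IsAlgMap2 d) : IsAlgMap2 fun a b => c a b + d a b := by
  obtain ⟨P, hP⟩ := hc
  obtain ⟨Q, hQ⟩ := hd
  exact ⟨P + Q, fun a b => by rw [map_add, ← hP, ← hQ]⟩

theorem IsAlgMap2.sub {c d : TruncatedWittVector p n k → TruncatedWittVector p m k → TruncatedWittVector p r k}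
    (hc : IsAlgMap2 c) (hd : IsAlgMap2 d) : IsAlgMap2 fun a b => c a b - d a b := by
  obtain ⟨P, hP⟩ := hc
  obtain ⟨Q, hQ⟩ := hd
  exact ⟨P - Q, fun a b => by rw [map_sub, ← hP, ← hQ]⟩

theorem isAlgMap2_fst : IsAlgMap2 fun (a : TruncatedWittVector p n k) (_ : TruncatedWittVector p m k) => a :=
  ⟨TruncatedWittVector.mk p fun i => MvPolynomial.X (Sum.inl i), fun a b => TruncatedWittVector.ext fun i => by
    simp [TruncatedWittVector.coeff_mk]⟩

theorem isAlgMap2_snd : IsAlgMap2 fun (_ : TruncatedWittVector p n k) (b : TruncatedWittVector p m k) => b :=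
  ⟨TruncatedWittVector.mk p fun i => MvPolynomial.X (Sum.inr i), fun a b => TruncatedWittVector.ext fun i => by
    simp [TruncatedWittVector.coeff_mk]⟩

theorem IsAlgMap2.comp {c : TruncatedWittVector p n k → TruncatedWittVector p m k → TruncatedWittVector p r k}
    {φ : TruncatedWittVector p r k → TruncatedWittVector p r' k}
    (hφ : IsAlgMap φ) (hc : IsAlgMap2 c) : IsAlgMap2 fun a b => φ (c a b) := by
  obtain ⟨P, hP⟩ := hc
  obtain ⟨Q, hQ⟩ := hφ.coeff_spec
  refine ⟨TruncatedWittVector.mk p fun i => MvPolynomial.bind₁ (fun j => P.coeff j) (Q i),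
    fun a b => TruncatedWittVector.ext fun i => ?_⟩
  rw [hQ, WittGrp.coeff_truncMap, TruncatedWittVector.coeff_mk, hP]
  simp only [WittGrp.coeff_truncMap]
  exact (MvPolynomial.eval₂Hom_bind₁ (RingHom.id k) _ _ (Q i)).symm

theorem IsAlgMap2.comp₂ {n' m' : ℕ}
    {c : TruncatedWittVector p n k → TruncatedWittVector p m k → TruncatedWittVector p r k}
    {f : TruncatedWittVector p n' k → TruncatedWittVector p n k}
    {g : TruncatedWittVector p m' k → TruncatedWittVector p m k}
    (hc : IsAlgMap2 c) (hf : IsAlgMap f) (hg : IsAlgMap g) : IsAlgMap2 fun a b => c (f a) (g b) := by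
  obtain ⟨P, hP⟩ := hc
  obtain ⟨F, hF⟩ := hf.coeff_spec
  obtain ⟨G, hG⟩ := hg.coeff_spec
  refine ⟨TruncatedWittVector.mk p fun i => MvPolynomial.bind₁
    (Sum.elim (fun j => MvPolynomial.rename Sum.inl (F j)) fun j => MvPolynomial.rename Sum.inr (G j)) (P.coeff i),
    fun a b => TruncatedWittVector.ext fun i => ?_⟩
  dsimp only
  rw [hP, WittGrp.coeff_truncMap, WittGrp.coeff_truncMap, TruncatedWittVector.coeff_mk]
  refine Eq.trans ?_ (MvPolynomial.eval₂Hom_bind₁ (RingHom.id k) _ _ (P.coeff i)).symm
  refine congrArg (fun v => MvPolynomial.eval v (P.coeff i)) (funext fun j => ?_)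
  rcases j with j | j
  · simp only [Sum.elim_inl, hF]
    exact ((MvPolynomial.eval_rename Sum.inl (Sum.elim (fun i => a.coeff i) fun i => b.coeff i) (F j))).symm
  · simp only [Sum.elim_inr, hG]
    exact ((MvPolynomial.eval_rename Sum.inr (Sum.elim (fun i => a.coeff i) fun i => b.coeff i) (G j))).symm

theorem IsAlgMap2.sndConst {c : TruncatedWittVector p n k → TruncatedWittVector p m k → TruncatedWittVector p r k}
    {f : TruncatedWittVector p r' k → TruncatedWittVector p n k}
    {g : TruncatedWittVector p r' k → TruncatedWittVector p m k}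
    (hc : IsAlgMap2 c) (hf : IsAlgMap f) (hg : IsAlgMap g) : IsAlgMap fun a => c (f a) (g a) := by
  obtain ⟨P, hP⟩ := hc
  obtain ⟨F, hF⟩ := hf.coeff_spec
  obtain ⟨G, hG⟩ := hg.coeff_spec
  refine IsAlgMap.of_coeff (fun i => MvPolynomial.bind₁ (Sum.elim F G) (P.coeff i)) fun a i => ?_
  rw [hP, WittGrp.coeff_truncMap]
  refine Eq.trans ?_ (MvPolynomial.eval₂Hom_bind₁ (RingHom.id k) _ _ (P.coeff i)).symm
  refine congrArg (fun v => MvPolynomial.eval v (P.coeff i)) (funext fun j => ?_)
  rcases j with j | j
  · simp only [Sum.elim_inl, hF]; rfl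
  · simp only [Sum.elim_inr, hG]; rfl

theorem isAlgMap_id : IsAlgMap (fun a : TruncatedWittVector p n k => a) :=
  IsAlgMap.of_coeff (fun i => MvPolynomial.X i) fun a i => by simp

/-- coboundary -/
def cobd {G : Type*} [AddCommGroup G] (g : TruncatedWittVector p n k → G)
    (a b : TruncatedWittVector p n k) : G :=
  g a + g b - g (a + b)

theorem isAlgMap2_cobd {g : TruncatedWittVector p n k → TruncatedWittVector p r k} (hg : IsAlgMap g) :
    IsAlgMap2 (cobd g) :=
  ((IsAlgMap2.comp hg isAlgMap2_fst).add (IsAlgMap2.comp hg isAlgMap2_snd)).sub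
    (IsAlgMap2.comp hg (isAlgMap2_fst.add isAlgMap2_snd))

/-- symmetric normalised polynomial cocycle -/
structure IsCocycle (c : TruncatedWittVector p n k → TruncatedWittVector p n k → TruncatedWittVector p r k) :
    Prop where
  alg : IsAlgMap2 c
  symm : ∀ a b, c a b = c b a
  assoc : ∀ a b e, c a b + c (a + b) e = c b e + c a (b + e)
  zero : c 0 0 = 0

theorem IsCocycle.zero_right {c : TruncatedWittVector p n k → TruncatedWittVector p n k → TruncatedWittVector p r k}
    (hc : IsCocycle c) (a : TruncatedWittVector p n k) : c a 0 = 0 := by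
  have h := hc.assoc a 0 0
  rw [add_zero, add_zero, hc.zero, zero_add] at h
  exact left_eq_add.mp h.symm

theorem IsCocycle.zero_left {c : TruncatedWittVector p n k → TruncatedWittVector p n k → TruncatedWittVector p r k}
    (hc : IsCocycle c) (a : TruncatedWittVector p n k) : c 0 a = 0 := by
  rw [hc.symm, hc.zero_right]

theorem IsCocycle.add {c d : TruncatedWittVector p n k → TruncatedWittVector p n k → TruncatedWittVector p r k}
    (hc : IsCocycle c) (hd : IsCocycle d) : IsCocycle fun a b => c a b + d a b :=
  ⟨hc.alg.add hd.alg, fun a b => by rw [hc.symm, hd.symm],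
    fun a b e => by rw [add_add_add_comm, hc.assoc, hd.assoc, add_add_add_comm],
    by rw [hc.zero, hd.zero, add_zero]⟩

theorem IsCocycle.sub {c d : TruncatedWittVector p n k → TruncatedWittVector p n k → TruncatedWittVector p r k}
    (hc : IsCocycle c) (hd : IsCocycle d) : IsCocycle fun a b => c a b - d a b :=
  ⟨hc.alg.sub hd.alg, fun a b => by rw [hc.symm, hd.symm],
    fun a b e => by rw [sub_add_sub_comm, hc.assoc, hd.assoc, ← sub_add_sub_comm],
    by rw [hc.zero, hd.zero, sub_zero]⟩

theorem isCocycle_cobd {g : TruncatedWittVector p n k → TruncatedWittVector p r k} (hg : IsAlgMap g)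
    (h0 : g 0 = 0) : IsCocycle (cobd g) :=
  ⟨isAlgMap2_cobd hg, fun a b => by simp only [cobd, add_comm b a, add_comm (g b)],
    fun a b e => by simp only [cobd, add_assoc a b e]; abel,
    by simp [cobd, h0]⟩

theorem IsCocycle.map {c : TruncatedWittVector p n k → TruncatedWittVector p n k → TruncatedWittVector p r k}
    (hc : IsCocycle c) (φ : TruncatedWittVector p r k →+ TruncatedWittVector p r' k) (hφ : IsAlgMap φ) :
    IsCocycle fun a b => φ (c a b) :=
  ⟨IsAlgMap2.comp hφ hc.alg, fun a b => by rw [hc.symm], fun a b e => by rw [← map_add, ← map_add, hc.assoc],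
    by rw [hc.zero, map_zero]⟩

theorem IsCocycle.comap {c : TruncatedWittVector p n k → TruncatedWittVector p n k → TruncatedWittVector p r k}
    (hc : IsCocycle c) (φ : TruncatedWittVector p m k →+ TruncatedWittVector p n k) (hφ : IsAlgMap φ) :
    IsCocycle fun a b => c (φ a) (φ b) :=
  ⟨hc.alg.comp₂ hφ hφ, fun a b => hc.symm _ _, fun a b e => by simp only [map_add]; exact hc.assoc _ _ _,
    by simp only [map_zero]; exact hc.zero⟩

/-! ### The carry -/

theorem coeff_add_disjoint (a b : TruncatedWittVector p n k) (h : ∀ i, a.coeff i = 0 ∨ b.coeff i = 0) (i : Fin n) :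
    (a + b).coeff i = a.coeff i + b.coeff i := by
  let A : WittVector p k := WittVector.mk p fun j => if hj : j < n then a.coeff ⟨j, hj⟩ else 0
  let B : WittVector p k := WittVector.mk p fun j => if hj : j < n then b.coeff ⟨j, hj⟩ else 0
  have hA : WittVector.truncate n A = a := TruncatedWittVector.ext fun j => by
    simp [A, WittVector.coeff_truncate, WittVector.coeff_mk]
  have hB : WittVector.truncate n B = b := TruncatedWittVector.ext fun j => by
    simp [B, WittVector.coeff_truncate, WittVector.coeff_mk]
  rw [← hA, ← hB, ← map_add, WittVector.coeff_truncate, WittVector.coeff_truncate, WittVector.coeff_truncate,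
    WittVector.coeff_add_of_disjoint]
  intro j
  simp only [A, B, WittVector.coeff_mk]
  by_cases hj : j < n
  · simpa [hj] using h ⟨j, hj⟩
  · simp [hj]

theorem split_eq (hr : r ≤ n) (hr' : r' ≤ n) (h : r + r' = n) (z : TruncatedWittVector p n k) :
    padEnd (TruncatedWittVector.truncate hr z) + WittGrp.shift p hr' (unshift hr' z) = z := by
  have hp' : ∀ i : Fin n, (padEnd (TruncatedWittVector.truncate hr z) : TruncatedWittVector p n k).coeff i =
      if (i : ℕ) < r then z.coeff i else 0 := fun i => by
    rw [padEnd, TruncatedWittVector.coeff_mk]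
    split_ifs with hi
    · rw [TruncatedWittVector.coeff_truncate]; rfl
    · rfl
  have hs : ∀ i : Fin n, (WittGrp.shift p hr' (unshift hr' z)).coeff i = if (i : ℕ) < r then 0 else z.coeff i := fun i => by
    rw [WittGrp.coeff_shift]
    split_ifs with hi hi' hi'
    · omega
    · rw [unshift, TruncatedWittVector.coeff_mk]
      exact congrArg (fun j : Fin n => z.coeff j) (Fin.ext (by simp; omega))
    · rfl
    · omega
  refine TruncatedWittVector.ext fun i => ?_
  rw [coeff_add_disjoint _ _ fun j => by rw [hp', hs]; split_ifs <;> simp, hp', hs]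
  split_ifs <;> simp

theorem truncate_shift_eq_zero (hr : r ≤ n) (hr' : r' ≤ n) (h : r + r' ≤ n) (x : TruncatedWittVector p r' k) :
    TruncatedWittVector.truncate hr (WittGrp.shift p hr' x) = 0 :=
  TruncatedWittVector.ext fun i => by
    rw [TruncatedWittVector.coeff_truncate, WittGrp.coeff_shift, TruncatedWittVector.coeff_zero,
      dif_neg (by simp; omega)]

theorem padEnd_zero : (padEnd (0 : TruncatedWittVector p r k) : TruncatedWittVector p n k) = 0 :=
  TruncatedWittVector.ext fun i => by
    rw [padEnd, TruncatedWittVector.coeff_mk, TruncatedWittVector.coeff_zero]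
    split_ifs <;> simp

theorem unshift_zero (hr : r ≤ n) : unshift hr (0 : TruncatedWittVector p n k) = 0 :=
  TruncatedWittVector.ext fun i => by
    rw [unshift, TruncatedWittVector.coeff_mk, TruncatedWittVector.coeff_zero, TruncatedWittVector.coeff_zero]

/-- the part of `pad a + pad b` in the kernel of the restriction -/
def carry (n r' : ℕ) (a b : TruncatedWittVector p n k) : TruncatedWittVector p r' k :=
  unshift (Nat.le_add_left r' n) ((padEnd a : TruncatedWittVector p (n + r') k) + padEnd b)

theorem carry_spec (a b : TruncatedWittVector p n k) :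
    (padEnd a : TruncatedWittVector p (n + r') k) + padEnd b =
      padEnd (a + b) + WittGrp.shift p (Nat.le_add_left r' n) (carry n r' a b) := by
  conv_lhs => rw [← split_eq (Nat.le_add_right n r') (Nat.le_add_left r' n) rfl (padEnd a + padEnd b)]
  rw [map_add, truncate_padEnd, truncate_padEnd]
  rfl

theorem shift_carry (a b : TruncatedWittVector p n k) :
    WittGrp.shift p (Nat.le_add_left r' n) (carry n r' a b) =
      (padEnd a : TruncatedWittVector p (n + r') k) + padEnd b - padEnd (a + b) := by
  rw [carry_spec, add_sub_cancel_left]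

theorem isCocycle_carry : IsCocycle (carry (p := p) (k := k) n r') := by
  refine ⟨?_, fun a b => shift_injective' (Nat.le_add_left r' n) ?_,
    fun a b e => shift_injective' (Nat.le_add_left r' n) ?_, ?_⟩
  · exact IsAlgMap2.comp (isAlgMap_unshift (Nat.le_add_left r' n))
      ((IsAlgMap2.comp isAlgMap_padEnd isAlgMap2_fst).add (IsAlgMap2.comp isAlgMap_padEnd isAlgMap2_snd))
  · rw [shift_carry, shift_carry, add_comm a b, add_comm (padEnd a : TruncatedWittVector p (n + r') k)]
  · simp only [map_add, shift_carry, add_assoc a b e]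
    abel
  · rw [carry, padEnd_zero, add_zero, unshift_zero]

theorem carry_add_add (a a' b b' : TruncatedWittVector p n k) :
    carry n r' (a + a') (b + b') =
      carry n r' a b + carry n r' a' b' - carry n r' a a' - carry n r' b b' + carry n r' (a + b) (a' + b') :=
  shift_injective' (Nat.le_add_left r' n) (by
    simp only [map_add, map_sub, shift_carry, add_add_add_comm a a' b b']
    abel)

/-! ### The base case -/

section Base

variable [CharP k p]

/-- the scalar behind a vector of length one -/
abbrev one (p : ℕ) [Fact p.Prime] (t : k) : TruncatedWittVector p 1 k := TruncatedWittVector.mk p fun _ => t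

theorem one_coeff (a : TruncatedWittVector p 1 k) : one p (a.coeff 0) = a :=
  TruncatedWittVector.ext fun i => by rw [TruncatedWittVector.coeff_mk, Subsingleton.elim i 0]

theorem one_add (s t : k) : one p (s + t) = one p s + one p t :=
  TruncatedWittVector.ext fun i => by
    rw [Subsingleton.elim i 0, coeff_zero_add]
    simp [TruncatedWittVector.coeff_mk]

theorem carry_one (s t : k) : (carry 1 1 (one p s) (one p t)).coeff 0 = -Lazard.lz p s t := by
  let R := MvPolynomial (Fin 2) ℤ
  let S : R := MvPolynomial.X 0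
  let T : R := MvPolynomial.X 1
  let A : WittVector p R := WittVector.teichmuller p S + WittVector.teichmuller p T
  have h1 : A.coeff 1 = -Lazard.lz p S T := by
    have hg := congrArg (WittVector.ghostComponent 1) (rfl : A = _)
    simp only [A, map_add, WittVector.ghostComponent_teichmuller, pow_one] at hg
    have hA : WittVector.ghostComponent 1 A = A.coeff 0 ^ p + (p : R) * A.coeff 1 := by
      rw [WittVector.ghostComponent_apply, wittPolynomial_eq_sum_C_mul_X_pow, Finset.sum_range_succ,
        Finset.sum_range_one, map_add]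
      simp
    have hA0 : A.coeff 0 = S + T := by
      rw [WittVector.add_coeff_zero, WittVector.teichmuller_coeff_zero, WittVector.teichmuller_coeff_zero]
    have hB : WittVector.ghostComponent 1 A = S ^ p + T ^ p := by
      simp only [A, map_add, WittVector.ghostComponent_teichmuller, pow_one]
    rw [hB, hA0, ← Lazard.prime_mul_lz] at hA
    have hp0 : (p : R) ≠ 0 := Nat.cast_ne_zero.mpr hp.out.ne_zero
    refine mul_left_cancel₀ hp0 ?_
    linear_combination -hA
  let ev : R →+* k := MvPolynomial.eval₂Hom (Int.castRingHom k) ![s, t]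
  have hS : ev S = s := MvPolynomial.eval₂Hom_X' _ _ _
  have hT : ev T = t := MvPolynomial.eval₂Hom_X' _ _ _
  have hpad : ∀ x : k, (padEnd (one p x) : TruncatedWittVector p (1 + 1) k) =
      WittVector.truncate (1 + 1) (WittVector.teichmuller p x) := fun x => TruncatedWittVector.ext fun i => by
    rw [padEnd, TruncatedWittVector.coeff_mk, WittVector.coeff_truncate]
    by_cases hi : (i : ℕ) < 1
    · rw [dif_pos hi, TruncatedWittVector.coeff_mk, Nat.lt_one_iff.mp hi, WittVector.teichmuller_coeff_zero]
    · rw [dif_neg hi, WittVector.teichmuller_coeff_pos p _ _ (by omega)]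
  rw [carry, unshift, TruncatedWittVector.coeff_mk, hpad, hpad, ← map_add, WittVector.coeff_truncate,
    show WittVector.teichmuller p s + WittVector.teichmuller p t = WittVector.map ev A by
      simp only [A, map_add, WittVector.map_teichmuller, hS, hT], WittVector.map_coeff]
  change ev (A.coeff 1) = _
  rw [h1, map_neg, Lazard.map_lz, hS, hT]

variable [PerfectRing k p] [Infinite k]

/-- induction principle for symmetric cocycles on the line -/
theorem cocycle_one_induction
    (Q : (TruncatedWittVector p 1 k → TruncatedWittVector p 1 k → TruncatedWittVector p 1 k) → Prop)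
    (hadd : ∀ f g, Q f → Q g → Q fun a b => f a b + g a b)
    (hbd : ∀ g, IsAlgMap g → g 0 = 0 → Q (cobd g))
    (hcarry : ∀ (a : k) (l : ℕ), Q fun x y => one p (a * (carry 1 1 x y).coeff 0 ^ p ^ l))
    (c : TruncatedWittVector p 1 k → TruncatedWittVector p 1 k → TruncatedWittVector p 1 k) (hc : IsCocycle c) :
    Q c := by
  obtain ⟨P, hP⟩ := hc.alg
  let f : k → k → k := fun s t => (c (one p s) (one p t)).coeff 0
  have hmain : ∀ Φ : k → k → k, (fun f : k → k → k => Q fun x y => one p (f (x.coeff 0) (y.coeff 0))) Φ →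
      Q fun x y => one p (Φ (x.coeff 0) (y.coeff 0)) := fun Φ h => h
  have hQf : Q fun x y => one p (f (x.coeff 0) (y.coeff 0)) := by
    refine Lazard.induction (p := p) (fun f : k → k → k => Q fun x y => one p (f (x.coeff 0) (y.coeff 0)))
      ?_ ?_ ?_ ?_ f (MvPolynomial.rename (Sum.elim (fun _ => (0 : Fin 2)) fun _ => 1) (P.coeff 0)) ?_ ?_ ?_ ?_
    · have h := hbd (fun _ => 0) (isAlgMap_const 0) rfl
      rw [show (fun x y : TruncatedWittVector p 1 k => one p (0 : k)) = cobd (fun _ => 0) from funext₂ fun x y => by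
        simp only [cobd, add_zero, sub_zero]
        exact TruncatedWittVector.ext fun i => by simp [TruncatedWittVector.coeff_mk]]
      exact h
    · intro f g hf hg
      have h := hadd _ _ hf hg
      simpa only [← one_add] using h
    · intro g hg
      have h := hbd (fun x => one p (g.eval (x.coeff 0)))
        (IsAlgMap.of_coeff (fun _ => Polynomial.aeval (MvPolynomial.X 0) g) fun a i => by
          rw [TruncatedWittVector.coeff_mk, Polynomial.aeval_def, Polynomial.hom_eval₂, MvPolynomial.eval_X]
          rw [show (MvPolynomial.eval fun j => a.coeff j).comp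
            (algebraMap k (MvPolynomial (Fin 1) k)) = RingHom.id k from RingHom.ext fun c => by simp]
          rfl)
        (TruncatedWittVector.ext fun i => by simp [TruncatedWittVector.coeff_mk, hg])
      have e : (fun x y : TruncatedWittVector p 1 k => one p (g.eval (x.coeff 0) + g.eval (y.coeff 0) -
          g.eval (x.coeff 0 + y.coeff 0))) = cobd (fun x => one p (g.eval (x.coeff 0))) := funext₂ fun x y => by
        simp only [cobd, coeff_zero_add]
        rw [eq_sub_iff_add_eq, ← one_add, ← one_add, sub_add_cancel]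
      rw [e]; exact h
    · intro a l
      have e : (fun x y : TruncatedWittVector p 1 k => one p (a * Lazard.lz p (x.coeff 0) (y.coeff 0) ^ p ^ l)) =
          fun x y => one p ((a * (-1) ^ p ^ l) * (carry 1 1 x y).coeff 0 ^ p ^ l) := funext₂ fun x y => by
        conv_rhs => rw [← one_coeff x, ← one_coeff y, carry_one]
        rw [_root_.mul_assoc, ← mul_pow, neg_mul_neg, _root_.one_mul]
      rw [e]; exact hcarry _ l
    · intro s t
      change (c (one p s) (one p t)).coeff 0 = _
      rw [hP, WittGrp.coeff_truncMap, MvPolynomial.eval_rename]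
      refine congrArg (fun v => MvPolynomial.eval v (P.coeff 0)) (funext fun j => ?_)
      rcases j with j | j <;> simp [TruncatedWittVector.coeff_mk]
    · intro s t
      exact congrArg (TruncatedWittVector.coeff (0 : Fin 1)) (hc.symm _ _)
    · intro s t w
      simp only [f, one_add, ← coeff_zero_add]
      rw [hc.assoc]
    · change (c (one p 0) (one p 0)).coeff 0 = 0
      rw [show one p (0 : k) = 0 from TruncatedWittVector.ext fun i => by simp [TruncatedWittVector.coeff_mk],
        hc.zero, TruncatedWittVector.coeff_zero]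
  rw [show c = fun x y => one p (f (x.coeff 0) (y.coeff 0)) from funext₂ fun x y => by
    simp only [f, one_coeff]]
  exact hQf

theorem isAlgMap_scale (a : k) (l : ℕ) :
    IsAlgMap fun z : TruncatedWittVector p 1 k => one p (a * z.coeff 0 ^ p ^ l) :=
  IsAlgMap.of_coeff (fun _ => MvPolynomial.C a * MvPolynomial.X 0 ^ p ^ l) fun z i => by
    simp [TruncatedWittVector.coeff_mk]

theorem scale_add (a : k) (l : ℕ) (x y : TruncatedWittVector p 1 k) :
    one p (a * (x + y).coeff 0 ^ p ^ l) = one p (a * x.coeff 0 ^ p ^ l) + one p (a * y.coeff 0 ^ p ^ l) := by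
  rw [coeff_zero_add, add_pow_char_pow, mul_add, one_add]

/-- the classes of extensions of `G_a` by `G_a`, outer form -/
theorem cocycle_one_outer
    (c : TruncatedWittVector p 1 k → TruncatedWittVector p 1 k → TruncatedWittVector p 1 k) (hc : IsCocycle c) :
    ∃ (g : TruncatedWittVector p 1 k → TruncatedWittVector p 1 k)
      (φ : TruncatedWittVector p 1 k →+ TruncatedWittVector p 1 k),
      IsAlgMap g ∧ g 0 = 0 ∧ IsAlgMap φ ∧ ∀ a b, c a b = cobd g a b + φ (carry 1 1 a b) := by
  refine cocycle_one_induction (fun c => ∃ (g : TruncatedWittVector p 1 k → TruncatedWittVector p 1 k)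
      (φ : TruncatedWittVector p 1 k →+ TruncatedWittVector p 1 k),
      IsAlgMap g ∧ g 0 = 0 ∧ IsAlgMap φ ∧ ∀ a b, c a b = cobd g a b + φ (carry 1 1 a b)) ?_ ?_ ?_ c hc
  · rintro f g ⟨u, φ, hu, hu0, hφ, e⟩ ⟨u', φ', hu', hu0', hφ', e'⟩
    refine ⟨fun a => u a + u' a, φ + φ', hu.add hu', by simp only [hu0, hu0', add_zero], hφ.add hφ', fun a b => ?_⟩
    simp only [e, e', cobd, AddMonoidHom.add_apply]
    abel
  · intro g hg h0
    exact ⟨g, 0, hg, h0, isAlgMap_const 0, fun a b => by simp⟩
  · intro a l
    exact ⟨fun _ => 0, AddMonoidHom.mk' (fun z => one p (a * z.coeff 0 ^ p ^ l)) (scale_add a l),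
      isAlgMap_const 0, rfl, isAlgMap_scale a l, fun x y => by simp [cobd]⟩

/-- the classes of extensions of `G_a` by `G_a`, inner form -/
theorem cocycle_one_inner
    (c : TruncatedWittVector p 1 k → TruncatedWittVector p 1 k → TruncatedWittVector p 1 k) (hc : IsCocycle c) :
    ∃ (g : TruncatedWittVector p 1 k → TruncatedWittVector p 1 k)
      (ψ : TruncatedWittVector p 1 k →+ TruncatedWittVector p 1 k),
      IsAlgMap g ∧ g 0 = 0 ∧ IsAlgMap ψ ∧ ∀ a b, c a b = cobd g a b + carry 1 1 (ψ a) (ψ b) := by
  refine cocycle_one_induction (fun c => ∃ (g : TruncatedWittVector p 1 k → TruncatedWittVector p 1 k)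
      (ψ : TruncatedWittVector p 1 k →+ TruncatedWittVector p 1 k),
      IsAlgMap g ∧ g 0 = 0 ∧ IsAlgMap ψ ∧ ∀ a b, c a b = cobd g a b + carry 1 1 (ψ a) (ψ b)) ?_ ?_ ?_ c hc
  · rintro f g ⟨u, ψ, hu, hu0, hψ, e⟩ ⟨u', ψ', hu', hu0', hψ', e'⟩
    refine ⟨fun a => u a + u' a + carry 1 1 (ψ a) (ψ' a), ψ + ψ',
      (hu.add hu').add ((isCocycle_carry.alg).sndConst hψ hψ'),
      by simp [hu0, hu0', isCocycle_carry.zero], hψ.add hψ', fun a b => ?_⟩
    simp only [e, e', cobd, AddMonoidHom.add_apply, map_add]
    rw [carry_add_add (ψ a) (ψ' a) (ψ b) (ψ' b)]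
    abel
  · intro g hg h0
    exact ⟨g, 0, hg, h0, isAlgMap_const 0, fun a b => by simp [isCocycle_carry.zero]⟩
  · intro a l
    let b : k := (frobeniusEquiv k p).symm a
    refine ⟨fun _ => 0, AddMonoidHom.mk' (fun z => one p (b * z.coeff 0 ^ p ^ l)) (scale_add b l),
      isAlgMap_const 0, rfl, isAlgMap_scale b l, fun x y => ?_⟩
    simp only [cobd, add_zero, sub_zero, zero_add, AddMonoidHom.mk'_apply]
    refine TruncatedWittVector.ext fun i => ?_
    rw [Subsingleton.elim i 0, carry_one, TruncatedWittVector.coeff_mk, Lazard.lz_mul, Lazard.lz_pow_char]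
    conv_lhs => rw [← one_coeff x, ← one_coeff y, carry_one]
    rw [show b ^ p = a from frobenius_apply_frobeniusEquiv_symm k p a, neg_pow,
      show ((-1 : k) ^ p ^ l) = -1 from (iterateFrobenius_def p l (-1 : k)).symm.trans (by simp)]
    ring

end Base

/-! ### Induction on the length -/

theorem shift_shift (h : m ≤ n) (h' : n ≤ r) (x : TruncatedWittVector p m k) :
    WittGrp.shift p h' (WittGrp.shift p h x) = WittGrp.shift p (h.trans h') x :=
  TruncatedWittVector.ext fun i => by
    simp only [WittGrp.coeff_shift]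
    split_ifs with h1 h2 h3 h4 <;> first
      | rfl
      | omega
      | exact congrArg (fun j : Fin m => x.coeff j) (Fin.ext (by simp; omega))

theorem padEnd_shift (h : m ≤ n) (h' : m + r ≤ n + r) (x : TruncatedWittVector p m k) :
    (padEnd (WittGrp.shift p h x) : TruncatedWittVector p (n + r) k) =
      WittGrp.shift p h' (padEnd x : TruncatedWittVector p (m + r) k) :=
  TruncatedWittVector.ext fun i => by
    simp only [padEnd, TruncatedWittVector.coeff_mk, WittGrp.coeff_shift]
    split_ifs with h1 h2 h3 h4 <;> first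
      | rfl
      | omega
      | exact congrArg (fun j : Fin m => x.coeff j) (Fin.ext (by simp; omega))

theorem carry_shift (h : m ≤ n) (a b : TruncatedWittVector p m k) :
    carry n r (WittGrp.shift p h a) (WittGrp.shift p h b) = carry m r a b := by
  have h' : m + r ≤ n + r := Nat.add_le_add_right h r
  refine shift_injective' (Nat.le_add_left r n) ?_
  rw [shift_carry, ← map_add, padEnd_shift h h', padEnd_shift h h', padEnd_shift h h', ← map_add, ← map_sub,
    ← shift_carry, shift_shift]

theorem truncate_carry (h : r ≤ r') (h' : n + r ≤ n + r') (a b : TruncatedWittVector p n k) :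
    TruncatedWittVector.truncate h (carry n r' a b) = carry n r a b := by
  refine shift_injective' (Nat.le_add_left r n) ?_
  have hcomm : ∀ x : TruncatedWittVector p r' k,
      WittGrp.shift p (Nat.le_add_left r n) (TruncatedWittVector.truncate h x) =
        TruncatedWittVector.truncate h' (WittGrp.shift p (Nat.le_add_left r' n) x) := fun x =>
    TruncatedWittVector.ext fun i => by
      simp only [WittGrp.coeff_shift, TruncatedWittVector.coeff_truncate]
      split_ifs with h1 h2 h3 <;> first
        | rfl
        | exact congrArg (fun j : Fin r' => x.coeff j) (Fin.ext (by simp))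
        | exact congrArg (fun j : Fin r' => x.coeff j) (Fin.ext (by simp; omega))
        | (exfalso; simp at *; omega)
        | (exfalso; omega)
  have hpad : ∀ x : TruncatedWittVector p n k, TruncatedWittVector.truncate h'
      (padEnd x : TruncatedWittVector p (n + r') k) = padEnd x := fun x =>
    TruncatedWittVector.ext fun i => by
      simp [TruncatedWittVector.coeff_truncate, padEnd, TruncatedWittVector.coeff_mk]
  rw [hcomm, shift_carry, shift_carry, map_sub, map_add, hpad, hpad, hpad]

section Main

variable [CharP k p] [PerfectRing k p] [Infinite k]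

/-- `carry` to the line is a coboundary above level one -/
theorem exists_cobd_carry_one (n : ℕ) :
    ∃ u : TruncatedWittVector p (n + 2) k → TruncatedWittVector p 1 k, IsAlgMap u ∧ u 0 = 0 ∧
      ∀ a b, cobd u a b = -carry 1 1 (TruncatedWittVector.truncate (Nat.le_add_left 1 (n + 1)) a)
        (TruncatedWittVector.truncate (Nat.le_add_left 1 (n + 1)) b) := by
  have h2 : 1 + 1 ≤ n + 2 := by omega
  have h1 : (1 : ℕ) ≤ 1 + 1 := Nat.le_add_right 1 1
  let u : TruncatedWittVector p (n + 2) k → TruncatedWittVector p 1 k := fun a =>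
    unshift (Nat.le_add_left 1 1) (TruncatedWittVector.truncate h2 a)
  refine ⟨u, (isAlgMap_unshift _).comp (isAlgMap_truncate h2),
    by simp only [u, map_zero]; exact unshift_zero _, fun a b => shift_injective' (Nat.le_add_left 1 1) ?_⟩
  have hsp : ∀ z, WittGrp.shift p (Nat.le_add_left 1 1) (u z) = TruncatedWittVector.truncate h2 z -
      padEnd (TruncatedWittVector.truncate (Nat.le_add_left 1 (n + 1)) z) := fun z => by
    rw [eq_sub_iff_add_eq']
    have := split_eq h1 (Nat.le_add_left 1 1) rfl (TruncatedWittVector.truncate h2 z)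
    rw [TruncatedWittVector.truncate_truncate] at this
    exact this
  rw [cobd, map_sub, map_add, map_neg, hsp, hsp, hsp, shift_carry, map_add, map_add]
  abel

/-- cocycles on `W_n` with values in the line -/
theorem cocycle_outer : ∀ (n : ℕ) (c : TruncatedWittVector p (n + 1) k → TruncatedWittVector p (n + 1) k →
      TruncatedWittVector p 1 k), IsCocycle c →
    ∃ (g : TruncatedWittVector p (n + 1) k → TruncatedWittVector p 1 k)
      (φ : TruncatedWittVector p 1 k →+ TruncatedWittVector p 1 k),
      IsAlgMap g ∧ g 0 = 0 ∧ IsAlgMap φ ∧ ∀ a b, c a b = cobd g a b + φ (carry (n + 1) 1 a b)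
  | 0, c, hc => cocycle_one_outer c hc
  | n + 1, c, hc => by
    have hV : n + 1 ≤ n + 1 + 1 := Nat.le_succ _
    have hT : 1 ≤ n + 1 + 1 := Nat.le_add_left 1 (n + 1)
    obtain ⟨g, φ, hg, hg0, hφ, e⟩ := cocycle_outer n _
      (hc.comap (WittGrp.shift p hV) (isAlgMap_shift hV))
    let g' := fun a => g (unshift hV a)
    have hg'0 : g' 0 = 0 := by simp only [g', unshift_zero, hg0]
    have hg' : IsAlgMap g' := hg.comp (isAlgMap_unshift hV)
    let c₁ := fun a b => c a b - cobd g' a b - φ (carry (n + 1 + 1) 1 a b)
    have hc₁ : IsCocycle c₁ := (hc.sub (isCocycle_cobd hg' hg'0)).sub (isCocycle_carry.map φ hφ)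
    have hc₁V : ∀ v w, c₁ (WittGrp.shift p hV v) (WittGrp.shift p hV w) = 0 := by
      intro v w
      simp only [c₁, cobd, g', ← map_add, unshift_shift, carry_shift, e]
      abel
    let P : TruncatedWittVector p (n + 1 + 1) k → TruncatedWittVector p (n + 1 + 1) k := fun z =>
      padEnd (TruncatedWittVector.truncate hT z)
    let q : TruncatedWittVector p (n + 1 + 1) k → TruncatedWittVector p (n + 1 + 1) k := fun z =>
      WittGrp.shift p hV (unshift hV z)
    have hPq : ∀ z, P z + q z = z := fun z => split_eq hT hV (by omega) z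
    have hP : IsAlgMap P := isAlgMap_padEnd.comp (isAlgMap_truncate hT)
    let g₁ := fun z => c₁ (P z) (q z)
    have hg₁ : IsAlgMap g₁ := hc₁.alg.sndConst hP ((isAlgMap_shift hV).comp (isAlgMap_unshift hV))
    have hg₁0 : g₁ 0 = 0 := by
      simp only [g₁, P, q, map_zero, padEnd_zero, unshift_zero]
      exact hc₁.zero
    let c₂ := fun a b => c₁ a b + cobd g₁ a b
    have hc₂ : IsCocycle c₂ := hc₁.add (isCocycle_cobd hg₁ hg₁0)
    have hc₂V : ∀ z w, c₂ z (WittGrp.shift p hV w) = 0 := by
      intro z w
      have hPw : P (z + WittGrp.shift p hV w) = P z := by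
        simp only [P, map_add, truncate_shift_eq_zero hT hV (by omega), add_zero]
      have hqw : q (z + WittGrp.shift p hV w) = q z + WittGrp.shift p hV w := by
        have := hPq (z + WittGrp.shift p hV w)
        rw [hPw] at this
        linear_combination (norm := abel) this - hPq z
      have hw : g₁ (WittGrp.shift p hV w) = 0 := by
        simp only [g₁, P, truncate_shift_eq_zero hT hV (by omega), padEnd_zero]
        exact hc₁.zero_left _
      have h := hc₁.assoc (P z) (q z) (WittGrp.shift p hV w)
      rw [hPq, show c₁ (q z) (WittGrp.shift p hV w) = 0 from hc₁V _ _, zero_add] at h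
      simp only [c₂, cobd, hw, add_zero]
      simp only [g₁, hPw, hqw, ← h]
      abel
    have hdesc : ∀ a w b, c₂ (a + WittGrp.shift p hV w) b = c₂ a b := by
      intro a w b
      have h := hc₂.assoc (WittGrp.shift p hV w) a b
      have h0 : ∀ y, c₂ (WittGrp.shift p hV w) y = 0 := fun y => by rw [hc₂.symm, hc₂V]
      rw [h0, h0, zero_add, add_zero, add_comm _ a] at h
      exact h
    have hfac : ∀ a b, c₂ a b = c₂ (P a) (P b) := fun a b => by
      conv_lhs => rw [← hPq a, ← hPq b]
      simp only [q]
      rw [hdesc, hc₂.symm, hdesc, hc₂.symm]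
    let pad1 : TruncatedWittVector p 1 k → TruncatedWittVector p (n + 1 + 1) k := padEnd
    let d := fun s t => c₂ (pad1 s) (pad1 t)
    have hpadd : ∀ s t, ∀ y, c₂ (pad1 (s + t)) y = c₂ (pad1 s + pad1 t) y := by
      intro s t y
      rw [hfac (pad1 s + pad1 t), hfac (pad1 (s + t))]
      simp only [P, pad1, map_add, truncate_padEnd]
    have hd : IsCocycle d :=
      ⟨hc₂.alg.comp₂ isAlgMap_padEnd isAlgMap_padEnd, fun s t => hc₂.symm _ _,
        fun s t w => by
          simp only [d]
          rw [hpadd, hc₂.symm (pad1 s) (pad1 (t + w)), hpadd, hc₂.symm _ (pad1 s)]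
          exact hc₂.assoc _ _ _,
        by simp only [d, pad1, padEnd_zero]; exact hc₂.zero⟩
    obtain ⟨h, ψ, hh, hh0, hψ, eh⟩ := cocycle_one_outer d hd
    obtain ⟨u, hu, hu0, eu⟩ := exists_cobd_carry_one (p := p) (k := k) n
    refine ⟨fun a => g' a - g₁ a + (h (TruncatedWittVector.truncate hT a) - ψ (u a)), φ,
      (hg'.sub hg₁).add ((hh.comp (isAlgMap_truncate hT)).sub (hψ.comp hu)),
      by simp [hg'0, hg₁0, hh0, hu0], hφ, fun a b => ?_⟩
    have e2 : c₂ a b = cobd h (TruncatedWittVector.truncate hT a) (TruncatedWittVector.truncate hT b) +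
        ψ (carry 1 1 (TruncatedWittVector.truncate hT a) (TruncatedWittVector.truncate hT b)) := by
      rw [hfac, ← eh]
    have e3 : ψ (cobd u a b) =
        -ψ (carry 1 1 (TruncatedWittVector.truncate hT a) (TruncatedWittVector.truncate hT b)) := by
      rw [eu, map_neg]
    simp only [c₂, c₁, cobd] at e2
    simp only [cobd, map_add, map_sub] at e3 ⊢
    linear_combination (norm := abel) e2 + e3

/-- cocycles on the line with values in `W_n` -/
theorem cocycle_inner : ∀ (n : ℕ) (c : TruncatedWittVector p 1 k → TruncatedWittVector p 1 k →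
      TruncatedWittVector p (n + 1) k), IsCocycle c →
    ∃ (g : TruncatedWittVector p 1 k → TruncatedWittVector p (n + 1) k)
      (ψ : TruncatedWittVector p 1 k →+ TruncatedWittVector p 1 k),
      IsAlgMap g ∧ g 0 = 0 ∧ IsAlgMap ψ ∧ ∀ a b, c a b = cobd g a b + carry 1 (n + 1) (ψ a) (ψ b)
  | 0, c, hc => cocycle_one_inner c hc
  | n + 1, c, hc => by
    have hT : n + 1 ≤ n + 1 + 1 := Nat.le_succ _
    have h1 : 1 ≤ n + 1 + 1 := Nat.le_add_left 1 (n + 1)
    obtain ⟨g, ψ, hg, hg0, hψ, e⟩ := cocycle_inner n _
      (hc.map (TruncatedWittVector.truncate hT : TruncatedWittVector p (n + 1 + 1) k →+* _).toAddMonoidHom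
        (isAlgMap_truncate hT))
    let g' : TruncatedWittVector p 1 k → TruncatedWittVector p (n + 1 + 1) k := fun a => padEnd (g a)
    have hg'0 : g' 0 = 0 := by simp only [g', hg0, padEnd_zero]
    have hg' : IsAlgMap g' := isAlgMap_padEnd.comp hg
    let c₁ := fun a b => c a b - cobd g' a b - carry 1 (n + 1 + 1) (ψ a) (ψ b)
    have hc₁ : IsCocycle c₁ := (hc.sub (isCocycle_cobd hg' hg'0)).sub (isCocycle_carry.comap ψ hψ)
    have hzero : ∀ a b, TruncatedWittVector.truncate hT (c₁ a b) = 0 := by
      intro a b
      have := e a b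
      change TruncatedWittVector.truncate hT (c a b) = _ at this
      simp only [c₁, cobd, g', map_sub, map_add, truncate_padEnd, truncate_carry hT (Nat.add_le_add_left hT 1), this]
      abel
    let d := fun a b => unshift h1 (c₁ a b)
    have hd' : ∀ a b, WittGrp.shift p h1 (d a b) = c₁ a b := fun a b => by
      have := split_eq hT h1 (by omega) (c₁ a b)
      rwa [hzero, padEnd_zero, zero_add] at this
    have hd : IsCocycle d :=
      ⟨IsAlgMap2.comp (isAlgMap_unshift h1) hc₁.alg, fun a b => by simp only [d, hc₁.symm a b],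
        fun a b w => shift_injective' h1 (by rw [map_add, map_add, hd', hd', hd', hd', hc₁.assoc]),
        by simp only [d, hc₁.zero, unshift_zero]⟩
    obtain ⟨h, ψ', hh, hh0, hψ', eh⟩ := cocycle_one_inner d hd
    have h2 : 1 + 1 ≤ n + 1 + 1 := by omega
    let w : TruncatedWittVector p 1 k → TruncatedWittVector p (n + 1 + 1) k := fun a =>
      WittGrp.shift p h2 (padEnd (ψ' a))
    refine ⟨fun a => g' a + WittGrp.shift p h1 (h a) + w a, ψ,
      (hg'.add ((isAlgMap_shift h1).comp hh)).add (((isAlgMap_shift h2).comp isAlgMap_padEnd).comp hψ'),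
      by simp [hg'0, hh0, w, padEnd_zero], hψ, fun a b => ?_⟩
    have e1 : cobd w a b = WittGrp.shift p h1 (carry 1 1 (ψ' a) (ψ' b)) := by
      simp only [cobd, w]
      rw [← map_add, ← map_sub, map_add ψ', ← shift_carry, shift_shift]
    have e2 : c₁ a b = cobd (fun a => WittGrp.shift p h1 (h a)) a b +
        WittGrp.shift p h1 (carry 1 1 (ψ' a) (ψ' b)) := by
      rw [← hd', eh, cobd, cobd, map_add, map_sub, map_add]
    simp only [c₁, cobd] at e2 e1 ⊢
    linear_combination (norm := abel) e2 - e1

end Main

end Groth.Agent.H27Witt
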