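import Groth.Prelude.Def_WittGrp
import Mathlib

set_option autoImplicit false

namespace Groth.Agent.H27Witt

variable {p : ℕ} [hp : Fact p.Prime]

/-- truncated Witt vectors in characteristic `p` have no torsion of invertible order -/
theorem eq_zero_of_nsmul_eq_zero {n : ℕ} {R : Type*} [CommRing R] (hpR : (p : R) = 0) {ℓ : ℕ}
    (hℓ : IsUnit (ℓ : R)) {v : TruncatedWittVector p n R} (hv : ℓ • v = 0) : v = 0 := by
  rcases subsingleton_or_nontrivial R with hR | hR
  · exact TruncatedWittVector.ext fun i => Subsingleton.elim _ _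
  haveI : CharP R p := (CharP.charP_iff_prime_eq_zero hp.out).mpr hpR
  have hcop : Nat.Coprime (p ^ n) ℓ := by
    refine Nat.Coprime.pow_left n ((hp.out.coprime_iff_not_dvd).mpr fun hd => ?_)
    rw [(CharP.cast_eq_zero_iff R p ℓ).mpr hd] at hℓ
    exact not_isUnit_zero hℓ
  have hpn : p ^ n • v = 0 := by
    obtain ⟨X, rfl⟩ := WittVector.truncate_surjective p n R v
    rw [← map_nsmul, ← RingHom.mem_ker, WittVector.mem_ker_truncate]
    intro i hi
    rw [nsmul_eq_mul, mul_comm, Nat.cast_pow]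
    exact WittVector.mul_pow_charP_coeff_zero _ hi
  have h1 : addOrderOf v ∣ Nat.gcd (p ^ n) ℓ :=
    Nat.dvd_gcd (addOrderOf_dvd_of_nsmul_eq_zero hpn) (addOrderOf_dvd_of_nsmul_eq_zero hv)
  rw [hcop] at h1
  exact AddMonoid.addOrderOf_eq_one_iff.mp (Nat.dvd_one.mp h1)

end Groth.Agent.H27Witt
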