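import Groth.Agent.H27Witt.Isogeny
import Groth.Agent.S12170
import Groth.Agent.S12182
import Groth.Agent.S0348
import Groth.Agent.H19Grp.PointsEqClosed
import Groth.Agent.H05EGA4.GenericImage
import Mathlib

/-!
# Rational points of subgroup schemes of `W_n`
-/

set_option autoImplicit false
set_option linter.style.haveILetI false
universe u

open CategoryTheory MonoidalCategory CartesianMonoidalCategory MonObj AlgebraicGeometry

noncomputable section

namespace Groth.Agent.H27Witt

variable {p : ℕ} [hp : Fact p.Prime] {k : Type u} [Field k]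

/-- the terminal object in the form used by the density lemmas -/
abbrev T1 (k : Type u) [Field k] : Over (Sk k) := Over.mk (Spec.map (CommRingCat.ofHom (algebraMap k k)))

theorem t1_hom : Spec.map (CommRingCat.ofHom (algebraMap k k)) = 𝟙 (Sk k) := by
  rw [← Spec.map_id]; rfl

/-- the two terminal objects agree -/
def t01 (k : Type u) [Field k] : T0 k ≅ T1 k :=
  Over.isoMk (Iso.refl _) (by
    change 𝟙 _ ≫ Spec.map (CommRingCat.ofHom (algebraMap k k)) = 𝟙 (Sk k)
    rw [Category.id_comp, t1_hom])

theorem pt_surjective {n : ℕ} (x : T0 k ⟶ WittGrp.W p n (Sk k)) : ∃ a, pt a = x :=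
  ⟨act (𝟙 _) (WittGrp.truncMap p n (gamma k) (WittGrp.pts p (T0 k) (Additive.ofMul x))), by
    rw [act_id]
    refine WittGrp.pts_injective p _ ?_
    dsimp only
    rw [pts_pt, truncMap_struct_gamma]⟩

theorem pt_zero {n : ℕ} : pt (p := p) (k := k) (0 : TruncatedWittVector p n k) = 1 := by
  refine WittGrp.pts_injective p _ ?_
  dsimp only
  rw [pts_pt, map_zero, WittGrp.pts_one]

theorem pt_injective {n : ℕ} : Function.Injective (pt : TruncatedWittVector p n k → _) := by
  intro a b h
  rw [← act_id a, ← act_id b, act, act, h]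

/-- the group of rational points -/
def kPoints {n : ℕ} {H : Over (Sk k)} [GrpObj H] (j : H ⟶ WittGrp.W p n (Sk k)) [IsMonHom j] :
    AddSubmonoid (TruncatedWittVector p n k) where
  carrier := {a | ∃ h : T0 k ⟶ H, h ≫ j = pt a}
  zero_mem' := ⟨1, by rw [MonObj.one_comp, pt_zero]⟩
  add_mem' := by
    rintro a b ⟨h, e⟩ ⟨h', e'⟩
    exact ⟨h * h', by rw [MonObj.mul_comp, e, e', pt_add]⟩

section AlgClosed

variable [IsAlgClosed k]

instance : Unique (T0 k).left := inferInstanceAs (Unique (PrimeSpectrum k))

theorem closedPoint_eq_of_hom {W : Over (Sk k)} [LocallyOfFiniteType W.hom] (f g : T0 k ⟶ W)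
    (h : f.left (IsLocalRing.closedPoint k) = g.left (IsLocalRing.closedPoint k)) : f = g :=
  Over.OverMorphism.ext (AlgebraicGeometry.ext_of_apply_closedPoint_eq W.hom (Over.w f) (Over.w g) h)

theorem exists_rational_point {W : Over (Sk k)} [LocallyOfFiniteType W.hom] {x : W.left}
    (hx : IsClosed ({x} : Set W.left)) : ∃ h : T0 k ⟶ W, h.left (IsLocalRing.closedPoint k) = x :=
  ⟨Over.homMk (pointOfClosedPoint W.hom x hx) (pointOfClosedPoint_comp W.hom x hx),
    pointOfClosedPoint_apply W.hom x hx _⟩

/-- a connected group scheme mapping additively to the line hits nothing or everything -/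
theorem values_eq_univ {H : Over (Sk k)} [GrpObj H] [Smooth H.hom] [ConnectedSpace H.left] [CharP k p]
    (q : H ⟶ WittGrp.W p 1 (Sk k))
    (hzero : ∃ h : T0 k ⟶ H, h ≫ q = pt 0) (hne : ∃ (h : T0 k ⟶ H) (a : TruncatedWittVector p 1 k), a ≠ 0 ∧ h ≫ q = pt a)
    (hadd : ∀ a b, (∃ h : T0 k ⟶ H, h ≫ q = pt a) → (∃ h : T0 k ⟶ H, h ≫ q = pt b) →
      ∃ h : T0 k ⟶ H, h ≫ q = pt (a + b)) :
    ∀ a : TruncatedWittVector p 1 k, ∃ h : T0 k ⟶ H, h ≫ q = pt a := by
  classical
  haveI : IrreducibleSpace H.left := Groth.Agent.S0348.result k H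
  haveI : Smooth (WittGrp.W p 1 (Sk k)).hom := (Groth.Agent.S12182.result p k 1).1
  haveI : JacobsonSpace H.left := LocallyOfFiniteType.jacobsonSpace H.hom
  haveI : IrreducibleSpace (WittGrp.W p 1 (Sk k)).left :=
    inferInstanceAs (IrreducibleSpace 𝔸(ULift.{u} (Fin 1); Sk k))
  have hqft : LocallyOfFiniteType q.left := by
    haveI : LocallyOfFiniteType (q.left ≫ (WittGrp.W p 1 (Sk k)).hom) := by rw [Over.w q]; infer_instance
    exact locallyOfFiniteType_of_comp q.left (WittGrp.W p 1 (Sk k)).hom
  let val : TruncatedWittVector p 1 k → MvPolynomial (Fin 1) k → k := fun a G =>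
    MvPolynomial.eval (fun i => a.coeff i) G
  have hbasic : ∀ (a : TruncatedWittVector p 1 k) (G : MvPolynomial (Fin 1) k),
      (pt a).left (IsLocalRing.closedPoint k) ∈ (WittGrp.W p 1 (Sk k)).left.basicOpen (polyFn p k 1 G) ↔
        val a G ≠ 0 := by
    intro a G
    change (IsLocalRing.closedPoint k : (T0 k).left) ∈
      (pt a).left ⁻¹ᵁ (WittGrp.W p 1 (Sk k)).left.basicOpen (polyFn p k 1 G) ↔ _
    rw [Scheme.preimage_basicOpen]
    change (IsLocalRing.closedPoint k : (T0 k).left) ∈ (T0 k).left.basicOpen ((pt a).left.appTop (polyFn p k 1 G)) ↔ _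
    have hv : (pt a).left.appTop (polyFn p k 1 G) = struct (T0 k) (val a G) := by
      rw [← struct_gamma ((pt a).left.appTop (polyFn p k 1 G))]
      exact congrArg (struct (T0 k)) (RingHom.congr_fun (gamma_appTop_polyFn a) G)
    rw [hv]
    constructor
    · intro hy h0
      rw [h0, map_zero, Scheme.basicOpen_zero] at hy
      exact hy
    · intro h0
      rw [Scheme.basicOpen_of_isUnit _ ((isUnit_iff_ne_zero.mpr h0).map _)]
      trivial
  have hroots : ∀ G : MvPolynomial (Fin 1) k, G ≠ 0 → {a : TruncatedWittVector p 1 k | val a G = 0}.Finite := by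
    intro G hG
    let Q : Polynomial k := MvPolynomial.aeval (fun _ => Polynomial.X) G
    have hQ : ∀ t : k, Q.eval t = MvPolynomial.eval (fun _ => t) G := fun t => by
      rw [← Polynomial.coe_evalRingHom]
      simp only [Q, MvPolynomial.aeval_def, MvPolynomial.eval₂_comp_left]
      exact congrArg₂ (fun f g => MvPolynomial.eval₂ f g G) (RingHom.ext fun c => by simp)
        (funext fun j => by simp)
    have hQ0 : Q ≠ 0 := fun h => hG (MvPolynomial.funext fun v => by
      rw [map_zero, show v = fun _ => v 0 from funext fun i => by rw [Subsingleton.elim i 0], ← hQ, h,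
        Polynomial.eval_zero])
    refine (Q.finite_setOf_isRoot hQ0).preimage
      (f := fun a : TruncatedWittVector p 1 k => a.coeff 0) (fun a _ b _ hab => ?_) |>.subset fun a ha => ?_
    · exact TruncatedWittVector.ext fun i => by rw [Subsingleton.elim i 0]; exact hab
    · change Q.eval (a.coeff 0) = 0
      rw [hQ, ← show (fun i => a.coeff i) = fun _ : Fin 1 => a.coeff 0 from
        funext fun i => by rw [Subsingleton.elim i 0]]
      exact ha
  have haffW : IsAffineOpen (⊤ : (WittGrp.W p 1 (Sk k)).left.Opens) := isAffineOpen_top _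
  -- the image is dense
  have hdense : Dense (Set.range q.left) := by
    rw [dense_iff_inter_open]
    intro U hU hUne
    by_contra hempty
    rw [Set.not_nonempty_iff_eq_empty, Set.eq_empty_iff_forall_notMem] at hempty
    obtain ⟨x, hx⟩ := hUne
    obtain ⟨g, hgU, hxg⟩ := haffW.exists_basicOpen_le (V := ⟨U, hU⟩) ⟨x, hx⟩ trivial
    obtain ⟨G, hG⟩ := polyFn_surjective (p := p) (k := k) g
    subst hG
    have hG0 : G ≠ 0 := fun h => by
      rw [h, map_zero, Scheme.basicOpen_zero] at hxg
      exact hxg
    have hvan : ∀ (h : T0 k ⟶ H) (a : TruncatedWittVector p 1 k), h ≫ q = pt a → val a G = 0 := by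
      intro h a e
      by_contra hne'
      have := (hbasic a G).mpr hne'
      refine hempty _ ⟨hgU this, ?_⟩
      rw [← e]
      exact ⟨h.left (IsLocalRing.closedPoint k), rfl⟩
    let s := (hroots G hG0).toFinset
    let Z : TruncatedWittVector p 1 k → Set H.left := fun a =>
      q.left ⁻¹' {(pt a).left (IsLocalRing.closedPoint k)}
    have hZ : ∀ a, IsClosed (Z a) := fun a => by
      refine IsClosed.preimage q.left.continuous ?_
      haveI : IsClosedImmersion (pt a).left := isClosedImmersion_of_comp_eq_id _ _ (Over.w (pt a))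
      have := (pt a).left.isClosedEmbedding.isClosed_range
      rwa [Set.range_eq_singleton (y := (pt a).left (IsLocalRing.closedPoint k)) fun y =>
        congr((pt a).left $(Subsingleton.elim _ _))] at this
    have hcover : (Set.univ : Set H.left) ⊆ ⋃ a ∈ s, Z a := by
      rintro y -
      by_contra hy
      obtain ⟨z, hz, hzc⟩ := nonempty_inter_closedPoints (Z := (⋃ a ∈ s, Z a)ᶜ) ⟨y, hy⟩
        (isClosed_biUnion_finset fun a _ => hZ a).isOpen_compl.isLocallyClosed
      obtain ⟨h, rfl⟩ := exists_rational_point (W := H) hzc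
      obtain ⟨a, ha⟩ := pt_surjective (h ≫ q)
      refine hz (Set.mem_biUnion (x := a) ((hroots G hG0).mem_toFinset.mpr (hvan h a ha.symm)) ?_)
      change q.left (h.left _) = _
      rw [ha]
      rfl
    obtain ⟨h1, hh1⟩ := hzero
    obtain ⟨h2, a, ha0, hh2⟩ := hne
    obtain ⟨Z', hZ', hsub⟩ := isIrreducible_iff_sUnion_isClosed.mp (IrreducibleSpace.isIrreducible_univ H.left)
      (s.image Z) (by simpa using fun a _ => hZ a) (by simpa using hcover)
    obtain ⟨b, -, rfl⟩ := Finset.mem_image.mp hZ'
    have key : ∀ (h : T0 k ⟶ H) (c : TruncatedWittVector p 1 k), h ≫ q = pt c → c = b := by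
      intro h c e
      refine pt_injective (closedPoint_eq_of_hom _ _ ?_)
      rw [← e]
      exact hsub (Set.mem_univ _)
    exact ha0 ((key h2 a hh2).trans (key h1 0 hh1).symm)
  have hη : genericPoint (WittGrp.W p 1 (Sk k)).left ∈ Set.range q.left := by
    refine ⟨genericPoint H.left, ?_⟩
    have h1 : IsGenericPoint (q.left (genericPoint H.left)) Set.univ := by
      have := (genericPoint_spec H.left).image q.left.continuous
      rwa [Set.image_univ, hdense.closure_eq] at this
    exact h1.eq (genericPoint_spec _)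
  have hopen : ∃ G : MvPolynomial (Fin 1) k, G ≠ 0 ∧
      ∀ a, val a G ≠ 0 → ∃ h : T0 k ⟶ H, h ≫ q = pt a := by
    have hint := Groth.Agent.H05EGA4.GenericImage.genericPoint_mem_interior q.left hη
    obtain ⟨g, hgU, hxg⟩ := haffW.exists_basicOpen_le (V := ⟨_, isOpen_interior⟩) ⟨_, hint⟩ trivial
    obtain ⟨G, rfl⟩ := polyFn_surjective (p := p) (k := k) g
    refine ⟨G, fun h => by rw [h, map_zero, Scheme.basicOpen_zero] at hxg; exact hxg, fun a ha => ?_⟩
    obtain ⟨y, hy⟩ := interior_subset (hgU ((hbasic a G).mpr ha))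
    haveI : IsClosedImmersion (pt a).left := isClosedImmersion_of_comp_eq_id _ _ (Over.w (pt a))
    have hpc : IsClosed ({(pt a).left (IsLocalRing.closedPoint k)} : Set _) := by
      have := (pt a).left.isClosedEmbedding.isClosed_range
      rwa [Set.range_eq_singleton (y := (pt a).left (IsLocalRing.closedPoint k)) fun y =>
        congr((pt a).left $(Subsingleton.elim _ _))] at this
    obtain ⟨z, hz, hzc⟩ := nonempty_inter_closedPoints
      (Z := q.left ⁻¹' {(pt a).left (IsLocalRing.closedPoint k)}) ⟨y, hy⟩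
      (hpc.preimage q.left.continuous).isLocallyClosed
    obtain ⟨h, rfl⟩ := exists_rational_point (W := H) hzc
    exact ⟨h, closedPoint_eq_of_hom _ _ hz⟩
  obtain ⟨G, hG, hGS⟩ := hopen
  intro a
  have hfin : ({b : TruncatedWittVector p 1 k | val b G = 0} ∪
      {b : TruncatedWittVector p 1 k | val (a - b) G = 0}).Finite :=
    (hroots G hG).union ((hroots G hG).preimage (f := fun b => a - b) (sub_right_injective.injOn))
  haveI : Infinite (TruncatedWittVector p 1 k) :=
    Infinite.of_injective (fun t : k => (TruncatedWittVector.mk p fun _ => t : TruncatedWittVector p 1 k))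
      fun t t' h => by simpa [TruncatedWittVector.coeff_mk] using congrArg (TruncatedWittVector.coeff (0 : Fin 1)) h
  obtain ⟨b, hb⟩ := hfin.exists_notMem
  simp only [Set.mem_union, Set.mem_setOf_eq, not_or] at hb
  have := hadd b (a - b) (hGS b hb.1) (hGS _ hb.2)
  rwa [add_sub_cancel] at this

end AlgClosed

end Groth.Agent.H27Witt
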