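import Groth.Agent.H27Witt.Torsor
import Groth.Agent.H27Witt.Cocycle
import Groth.Agent.H27Witt.Subgroup
import Groth.Agent.S12182
import Groth.Agent.H19Grp.PointsEq
import Mathlib

/-!
# Extensions of Witt groups over an algebraically closed field on rational points
-/

set_option autoImplicit false
set_option linter.style.haveILetI false
universe u

open CategoryTheory MonoidalCategory CartesianMonoidalCategory MonObj AlgebraicGeometry

noncomputable section

namespace Groth.Agent.H27Witt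

variable {p : ℕ} [hp : Fact p.Prime] {k : Type u} [Field k] [IsAlgClosed k] [CharP k p] {n m a b : ℕ}

/-- every polynomial map of rational points comes from a morphism -/
theorem exists_mor (φ : TruncatedWittVector p n k → TruncatedWittVector p m k) (hφ : IsAlgMap φ) :
    ∃ f : WittGrp.W p n (Sk k) ⟶ WittGrp.W p m (Sk k), ∀ x, pt x ≫ f = pt (φ x) := by
  obtain ⟨P, hP⟩ := hφ
  let f : WittGrp.W p n (Sk k) ⟶ WittGrp.W p m (Sk k) :=
    (WittGrp.ptsMul p _).symm (Multiplicative.ofAdd (WittGrp.truncMap p m (polyFn p k n) P))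
  refine ⟨f, fun x => ?_⟩
  rw [← pt_act]
  congr 1
  have hf : WittGrp.pts p _ (Additive.ofMul f) = WittGrp.truncMap p m (polyFn p k n) P := by
    change Multiplicative.toAdd (WittGrp.ptsMul p _ f) = _
    rw [MulEquiv.apply_symm_apply, toAdd_ofAdd]
  rw [act, WittGrp.pts_comp, hf, ← RingHom.comp_apply, ← WittGrp.truncMap_comp, ← RingHom.comp_apply,
    ← WittGrp.truncMap_comp, hP, RingHom.comp_assoc, gamma_appTop_polyFn]

/-- morphisms out of a smooth scheme agree when they agree on rational points -/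
theorem hom_ext_pts {X Y : Over (Sk k)} [Smooth X.hom] [IsSeparated Y.hom] {f g : X ⟶ Y}
    (h : ∀ x : T0 k ⟶ X, x ≫ f = x ≫ g) : f = g := by
  refine H19Grp.PointsDense.hom_eq (K := k) f g fun w => ?_
  rw [← cancel_epi (t01 k).hom, ← Category.assoc, ← Category.assoc, h]

theorem isMonHom_of_pts {X Y : Over (Sk k)} [GrpObj X] [GrpObj Y] [Smooth X.hom] [IsSeparated Y.hom] (f : X ⟶ Y)
    (h : ∀ x y : T0 k ⟶ X, (x * y) ≫ f = (x ≫ f) * (y ≫ f)) : IsMonHom f := by
  haveI := H19Grp.PointsDense.smooth_tensor X X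
  have hone : (1 : T0 k ⟶ X) ≫ f = 1 := by
    have := h 1 1
    rw [_root_.mul_one] at this
    exact left_eq_mul.mp this
  refine ⟨?_, hom_ext_pts fun w => ?_⟩
  · have h1 : ∀ {G : Over (Sk k)} [GrpObj G], (1 : T0 k ⟶ G) = η[G] := fun {G} _ => by
      rw [Hom.one_def, toUnit_unique (toUnit (T0 k)) (𝟙 _)]
      exact Category.id_comp _
    rw [h1, h1] at hone
    exact hone
  · have e1 : w ≫ μ[X] = (w ≫ fst X X) * (w ≫ snd X X) := by
      rw [Hom.mul_def, ← comp_lift, lift_fst_snd, Category.comp_id]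
    have e2 : w ≫ (f ⊗ₘ f) ≫ μ[Y] = (w ≫ fst X X ≫ f) * (w ≫ snd X X ≫ f) := by
      rw [Hom.mul_def, ← comp_lift, Category.assoc, lift_fst_comp_snd_comp]
    rw [← Category.assoc, e1, h, e2, Category.assoc, Category.assoc]

variable {E : Over (Sk k)} [GrpObj E] [IsCommMonObj E] [Smooth E.hom] [QuasiCompact E.hom]
  (i : WittGrp.W p a (Sk k) ⟶ E) [IsMonHom i] [IsClosedImmersion i.left]
  (π : E ⟶ WittGrp.W p b (Sk k)) [IsMonHom π] [Surjective π.left] [Flat π.left]

/-- coordinates on an extension -/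
structure Model where
  /-- a section -/
  σ : WittGrp.W p b (Sk k) ⟶ E
  /-- the retraction -/
  ρ : E ⟶ WittGrp.W p a (Sk k)
  /-- the cocycle -/
  c : TruncatedWittVector p b k → TruncatedWittVector p b k → TruncatedWittVector p a k
  σ_π : σ ≫ π = 𝟙 _
  σ_zero : pt 0 ≫ σ = 1
  decomp : (ρ ≫ i) * (π ≫ σ) = 𝟙 E
  ρ_spec : ∀ u x, ((pt u ≫ i) * (pt x ≫ σ)) ≫ ρ = pt u
  π_spec : ∀ u x, ((pt u ≫ i) * (pt x ≫ σ)) ≫ π = pt x
  isCocycle : IsCocycle c
  mul : ∀ x y, (pt x ≫ σ) * (pt y ≫ σ) = (pt (c x y) ≫ i) * (pt (x + y) ≫ σ)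

variable {i π}

/-- the point with given coordinates -/
def Model.ep (M : Model i π) (u : TruncatedWittVector p a k) (x : TruncatedWittVector p b k) : T0 k ⟶ E :=
  (pt u ≫ i) * (pt x ≫ M.σ)

theorem Model.ep_zero (M : Model i π) (u : TruncatedWittVector p a k) : M.ep u 0 = pt u ≫ i := by
  rw [Model.ep, M.σ_zero, _root_.mul_one]

theorem Model.ep_mul (M : Model i π) (u v : TruncatedWittVector p a k) (x y : TruncatedWittVector p b k) :
    M.ep u x * M.ep v y = M.ep (u + v + M.c x y) (x + y) := by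
  rw [Model.ep, Model.ep, Model.ep, _root_.mul_mul_mul_comm, M.mul, pt_add (u + v), pt_add u, MonObj.mul_comp, MonObj.mul_comp,
    _root_.mul_assoc (pt u ≫ i * (pt v ≫ i))]

theorem Model.ep_surjective (M : Model i π) (e : T0 k ⟶ E) :
    ∃ u x, e ≫ M.ρ = pt u ∧ e ≫ π = pt x ∧ e = M.ep u x := by
  obtain ⟨u, hu⟩ := pt_surjective (e ≫ M.ρ)
  obtain ⟨x, hx⟩ := pt_surjective (e ≫ π)
  refine ⟨u, x, hu.symm, hx.symm, ?_⟩
  conv_lhs => rw [← Category.comp_id e, ← M.decomp, MonObj.comp_mul, ← Category.assoc, ← Category.assoc, ← hu, ← hx]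
  rfl

theorem exists_model (hker : AlgGrp.IsKernel i π) : Nonempty (Model i π) := by
  haveI : IsSeparated E.hom := H19Grp.PointsDense.isSeparated_grp E
  haveI : Mono i := (Over.forget _).mono_of_mono_map (inferInstanceAs (Mono i.left))
  haveI : CompactSpace (Sk k) := inferInstance
  haveI : CompactSpace E.left := QuasiCompact.compactSpace_of_compactSpace E.hom
  haveI : IsAffine (WittGrp.W p b (Sk k)).left := inferInstanceAs (IsAffine 𝔸(ULift.{u} (Fin b); Sk k))
  obtain ⟨s, hs⟩ := exists_section i π hker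
  have hiπ : i ≫ π = 1 := by rw [hker.w]; exact Hom.one_def.symm
  let e₀ : T0 k ⟶ E := pt 0 ≫ s
  let σ : WittGrp.W p b (Sk k) ⟶ E := s * (toUnit _ ≫ e₀)⁻¹
  have he₀ : e₀ ≫ π = 1 := by
    simp only [e₀, Category.assoc, hs, Category.comp_id, pt_zero]
  have hσπ : σ ≫ π = 𝟙 _ := by
    simp only [σ, MonObj.mul_comp, GrpObj.inv_comp, Category.assoc, hs, he₀, MonObj.comp_one, inv_one,
      _root_.mul_one]
  have hσ0 : pt 0 ≫ σ = 1 := by
    simp only [σ, MonObj.comp_mul, GrpObj.comp_inv, ← Category.assoc]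
    rw [toUnit_unique (pt (p := p) (k := k) (n := b) 0 ≫ toUnit _) (𝟙 _), Category.id_comp]
    exact mul_inv_cancel e₀
  have w : (𝟙 E * (π ≫ σ)⁻¹) ≫ π = toUnit E ≫ η := by
    rw [MonObj.mul_comp, GrpObj.inv_comp, Category.id_comp, Category.assoc, hσπ, Category.comp_id,
      mul_inv_cancel]
    exact Hom.one_def
  obtain ⟨ρ, hρ⟩ : ∃ ρ : E ⟶ WittGrp.W p a (Sk k), ρ ≫ i = 𝟙 E * (π ≫ σ)⁻¹ :=
    ⟨hker.lift _ (toUnit E) w, hker.lift_fst _ _ w⟩
  have hdec : (ρ ≫ i) * (π ≫ σ) = 𝟙 E := by rw [hρ, inv_mul_cancel_right]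
  have hπs : ∀ u x, ((pt u ≫ i) * (pt x ≫ σ)) ≫ π = pt x := fun u x => by
    rw [MonObj.mul_comp, Category.assoc, Category.assoc, hiπ, hσπ, MonObj.comp_one, Category.comp_id,
      _root_.one_mul]
  have hρs : ∀ u x, ((pt u ≫ i) * (pt x ≫ σ)) ≫ ρ = pt u := fun u x => by
    rw [← cancel_mono i, Category.assoc, hρ, MonObj.comp_mul, GrpObj.comp_inv, Category.comp_id,
      ← Category.assoc, hπs, mul_inv_cancel_right]
  obtain ⟨μb, hμb⟩ : ∃ μb : WittGrp.W p b (Sk k) ⊗ WittGrp.W p b (Sk k) ⟶ E,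
      μb = (fst _ _ ≫ σ) * (snd _ _ ≫ σ) * ((fst _ _ * snd _ _) ≫ σ)⁻¹ := ⟨_, rfl⟩
  let c : TruncatedWittVector p b k → TruncatedWittVector p b k → TruncatedWittVector p a k := fun x y =>
    WittGrp.truncMap p a (gamma k)
      (WittGrp.pts p (T0 k) (Additive.ofMul (lift (pt x) (pt y) ≫ μb ≫ ρ)))
  have hpt : ∀ z : T0 k ⟶ WittGrp.W p a (Sk k),
      pt (WittGrp.truncMap p a (gamma k) (WittGrp.pts p (T0 k) (Additive.ofMul z))) = z := fun z => by
    refine WittGrp.pts_injective p _ ?_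
    dsimp only
    rw [pts_pt, truncMap_struct_gamma]
  have hmul : ∀ x y, (pt x ≫ σ) * (pt y ≫ σ) = (pt (c x y) ≫ i) * (pt (x + y) ≫ σ) := by
    intro x y
    have hz : (lift (pt x) (pt y) ≫ μb) ≫ π = 1 := by
      simp only [hμb, MonObj.comp_mul, GrpObj.comp_inv, MonObj.mul_comp, GrpObj.inv_comp, Category.assoc, hσπ,
        Category.comp_id, lift_fst, lift_snd, mul_inv_cancel]
    have : (lift (pt x) (pt y) ≫ μb ≫ ρ) ≫ i = lift (pt x) (pt y) ≫ μb := by
      rw [Category.assoc, Category.assoc, hρ, ← Category.assoc, MonObj.comp_mul, GrpObj.comp_inv,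
        Category.comp_id, ← Category.assoc, hz, ← pt_zero, hσ0, inv_one, _root_.mul_one]
    rw [hpt, this, hμb, pt_add]
    simp only [MonObj.comp_mul, GrpObj.comp_inv, MonObj.mul_comp, ← Category.assoc, lift_fst, lift_snd,
      inv_mul_cancel_right]
  have hinj : Function.Injective fun u : TruncatedWittVector p a k => pt u ≫ i := fun u v h =>
    pt_injective ((cancel_mono i).mp h)
  have hepi : ∀ u x v y, (pt u ≫ i) * (pt x ≫ σ) = (pt v ≫ i) * (pt y ≫ σ) → u = v := by
    intro u x v y h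
    have := congrArg (· ≫ ρ) h
    simp only [hρs] at this
    exact pt_injective this
  refine ⟨⟨σ, ρ, c, hσπ, hσ0, hdec, hρs, hπs, ⟨?_, ?_, ?_, ?_⟩, hmul⟩⟩
  · obtain ⟨P, hP⟩ : ∃ P : Fin a → MvPolynomial (Fin b ⊕ Fin b) k, ∀ i' x y,
        (c x y).coeff i' = MvPolynomial.eval (Sum.elim (fun j => x.coeff j) fun j => y.coeff j) (P i') := by
      have hb : b ≤ b + b := Nat.le_add_right b b
      have hb' : b ≤ b + b := Nat.le_add_left b b
      obtain ⟨f₁, hf₁⟩ := exists_mor (p := p) (k := k) _ (isAlgMap_truncate (p := p) (k := k) hb)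
      obtain ⟨f₂, hf₂⟩ := exists_mor (p := p) (k := k) _ (isAlgMap_unshift (p := p) (k := k) hb')
      let M : WittGrp.W p (b + b) (Sk k) ⟶ WittGrp.W p a (Sk k) := lift f₁ f₂ ≫ μb ≫ ρ
      obtain ⟨Q, hQ⟩ := (isAlgMap_act M).coeff_spec
      let J : Fin (b + b) → MvPolynomial (Fin b ⊕ Fin b) k :=
        fun j => MvPolynomial.X (finSumFinEquiv.symm j)
      refine ⟨fun i' => MvPolynomial.bind₁ J (Q i'), fun i' x y => ?_⟩
      let z : TruncatedWittVector p (b + b) k :=
        TruncatedWittVector.mk p (Fin.append (fun j => x.coeff j) fun j => y.coeff j)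
      have hz1 : TruncatedWittVector.truncate hb z = x := TruncatedWittVector.ext fun j => by
        rw [TruncatedWittVector.coeff_truncate, TruncatedWittVector.coeff_mk]
        exact Fin.append_left _ _ j
      have hz2 : unshift hb' z = y := TruncatedWittVector.ext fun j => by
        rw [unshift, TruncatedWittVector.coeff_mk, TruncatedWittVector.coeff_mk,
          show (⟨(j : ℕ) + (b + b - b), by omega⟩ : Fin (b + b)) = Fin.natAdd b j from Fin.ext (by simp [add_comm])]
        exact Fin.append_right _ _ j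
      have hc : c x y = act M z := by
        simp only [c, M, act, ← Category.assoc, comp_lift, hf₁, hf₂, hz1, hz2]
      rw [hc, hQ]
      refine Eq.trans ?_ (MvPolynomial.eval₂Hom_bind₁ (RingHom.id k) _ _ (Q i')).symm
      refine congrArg (fun v => MvPolynomial.eval v (Q i')) (funext fun j => ?_)
      simp only [z, J, TruncatedWittVector.coeff_mk, MvPolynomial.eval₂Hom_X']
      induction j using Fin.addCases with
      | left j => rw [Fin.append_left, finSumFinEquiv_symm_apply_castAdd]; rfl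
      | right j => rw [Fin.append_right, finSumFinEquiv_symm_apply_natAdd]; rfl
    exact ⟨TruncatedWittVector.mk p P, fun x y => TruncatedWittVector.ext fun i' => by
      rw [hP i' x y, WittGrp.coeff_truncMap, TruncatedWittVector.coeff_mk]⟩
  · intro x y
    refine hepi _ (x + y) _ (y + x) ?_
    rw [← hmul, ← hmul, mul_comm]
  · intro x y z
    refine hepi _ (x + y + z) _ (x + (y + z)) ?_
    rw [pt_add (c x y), pt_add (c y z), MonObj.mul_comp, MonObj.mul_comp, _root_.mul_assoc, ← hmul, ← _root_.mul_assoc, ← hmul,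
      _root_.mul_assoc (pt (c y z) ≫ i), ← hmul, mul_left_comm, ← hmul, _root_.mul_assoc]
  · refine hinj ?_
    change pt (c 0 0) ≫ i = pt 0 ≫ i
    have := hmul 0 0
    rw [add_zero, hσ0, _root_.mul_one, _root_.mul_one] at this
    rw [← this, pt_zero, MonObj.one_comp]

/-- homomorphisms into an extension from coordinates -/
theorem Model.exists_hom_to (M : Model i π) (A : TruncatedWittVector p n k → TruncatedWittVector p a k)
    (B : TruncatedWittVector p n k →+ TruncatedWittVector p b k) (hA : IsAlgMap A) (hB : IsAlgMap B)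
    (hAB : ∀ z w, A (z + w) = A z + A w + M.c (B z) (B w)) :
    ∃ g : WittGrp.W p n (Sk k) ⟶ E, IsMonHom g ∧ ∀ z, pt z ≫ g = M.ep (A z) (B z) := by
  haveI : IsSeparated E.hom := H19Grp.PointsDense.isSeparated_grp E
  haveI : Smooth (WittGrp.W p n (Sk k)).hom := (Groth.Agent.S12182.result p k n).1
  obtain ⟨fA, hfA⟩ := exists_mor A hA
  obtain ⟨fB, hfB⟩ := exists_mor B hB
  refine ⟨(fA ≫ i) * (fB ≫ M.σ), ?_, fun z => ?_⟩
  · refine isMonHom_of_pts _ fun x y => ?_
    obtain ⟨z, rfl⟩ := pt_surjective x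
    obtain ⟨w, rfl⟩ := pt_surjective y
    rw [← pt_add]
    simp only [MonObj.comp_mul, ← Category.assoc, hfA, hfB]
    change M.ep _ _ = M.ep _ _ * M.ep _ _
    rw [M.ep_mul, map_add, hAB]
  · simp only [MonObj.comp_mul, ← Category.assoc, hfA, hfB]
    rfl

/-- homomorphisms out of an extension from coordinates -/
theorem Model.exists_hom_from (M : Model i π) (A : TruncatedWittVector p a k →+ TruncatedWittVector p n k)
    (B : TruncatedWittVector p b k → TruncatedWittVector p n k) (hA : IsAlgMap A) (hB : IsAlgMap B)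
    (hAB : ∀ x y, B x + B y = A (M.c x y) + B (x + y)) :
    ∃ h : E ⟶ WittGrp.W p n (Sk k), IsMonHom h ∧ ∀ u x, M.ep u x ≫ h = pt (A u + B x) := by
  haveI : IsSeparated (WittGrp.W p n (Sk k)).hom := H19Grp.PointsDense.isSeparated_grp _
  obtain ⟨fA, hfA⟩ := exists_mor A hA
  obtain ⟨fB, hfB⟩ := exists_mor B hB
  have hh : ∀ u x, M.ep u x ≫ ((M.ρ ≫ fA) * (π ≫ fB)) = pt (A u + B x) := fun u x => by
    rw [MonObj.comp_mul, ← Category.assoc, ← Category.assoc, Model.ep, M.ρ_spec, M.π_spec, hfA, hfB, pt_add]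
  refine ⟨_, isMonHom_of_pts _ fun e e' => ?_, hh⟩
  obtain ⟨u, x, -, -, rfl⟩ := M.ep_surjective e
  obtain ⟨v, y, -, -, rfl⟩ := M.ep_surjective e'
  rw [M.ep_mul, hh, hh, hh, ← pt_add]
  congr 1
  rw [map_add, map_add, add_add_add_comm (A u) (B x), hAB, _root_.add_assoc]

end Groth.Agent.H27Witt
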