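import Groth.Agent.H27Witt.KPts
import Groth.Agent.H19Grp.PointsDense
import Groth.Agent.S0348
import Mathlib

/-!
# Functions and rational points of affine schemes over an algebraically closed field
-/

set_option autoImplicit false
set_option linter.style.haveILetI false
universe u

open CategoryTheory MonoidalCategory CartesianMonoidalCategory MonObj AlgebraicGeometry TensorProduct

noncomputable section

namespace Groth.Agent.H27Witt

variable {k : Type u} [Field k]

/-- global functions on a scheme over `k` -/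
def Fn (X : Over (Sk k)) : Type u := Γ(X.left, ⊤)

namespace Fn

instance (X : Over (Sk k)) : CommRing (Fn X) := inferInstanceAs (CommRing Γ(X.left, ⊤))

instance (X : Over (Sk k)) : Algebra k (Fn X) := (struct X : k →+* Fn X).toAlgebra

/-- pulling back functions -/
def pull {X Y : Over (Sk k)} (f : X ⟶ Y) : Fn Y →ₐ[k] Fn X :=
  { (f.left.appTop.hom : Fn Y →+* Fn X) with
    commutes' := fun c => RingHom.congr_fun (struct_comp f) c }

theorem pull_id (X : Over (Sk k)) : pull (𝟙 X) = AlgHom.id k (Fn X) := by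
  refine AlgHom.ext fun a => ?_
  change (𝟙 X.left : X.left ⟶ X.left).appTop.hom a = a
  rw [Scheme.Hom.id_appTop]
  rfl

theorem pull_comp {X Y Z : Over (Sk k)} (f : X ⟶ Y) (g : Y ⟶ Z) : pull (f ≫ g) = (pull f).comp (pull g) := rfl

theorem pull_pull {X Y Z : Over (Sk k)} (f : X ⟶ Y) (g : Y ⟶ Z) (a : Fn Z) : pull f (pull g a) = pull (f ≫ g) a := rfl

/-- functions on the base are scalars -/
def gammaAlg : Fn (T0 k) →ₐ[k] k :=
  { (gamma k : Fn (T0 k) →+* k) with commutes' := fun c => gamma_struct c }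

/-- the value of a function at a rational point -/
def ev {X : Over (Sk k)} (x : T0 k ⟶ X) : Fn X →ₐ[k] k := gammaAlg.comp (pull x)

theorem ev_pull {X Y : Over (Sk k)} (x : T0 k ⟶ X) (f : X ⟶ Y) (a : Fn Y) : ev x (pull f a) = ev (x ≫ f) a := rfl

theorem hom_ext {X Y : Over (Sk k)} [IsAffine Y.left] {f g : X ⟶ Y} (h : pull f = pull g) : f = g := by
  refine Over.OverMorphism.ext (ext_of_isAffine ?_)
  exact CommRingCat.hom_ext (RingHom.ext fun a => AlgHom.congr_fun h a)

theorem isUnit_smul_one {X : Over (Sk k)} {c : k} (hc : c ≠ 0) : IsUnit (algebraMap k (Fn X) c) :=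
  (isUnit_iff_ne_zero.mpr hc).map _

theorem exists_appTop {X Y : Scheme.{u}} [IsAffine Y] (ψ : Γ(Y, ⊤) ⟶ Γ(X, ⊤)) : ∃ f : X ⟶ Y, f.appTop = ψ := by
  refine ⟨X.toSpecΓ ≫ Spec.map ψ ≫ Y.isoSpec.inv, ?_⟩
  have e : (X.toSpecΓ ≫ Spec.map ψ ≫ Y.isoSpec.inv) ≫ Y.toSpecΓ = X.toSpecΓ ≫ Spec.map ψ := by
    simp [← Scheme.isoSpec_hom]
  have e' := congrArg (fun g : X ⟶ Spec Γ(Y, ⊤) => (Scheme.ΓSpecIso Γ(Y, ⊤)).inv ≫ g.appTop) e
  simp only [Scheme.Hom.comp_appTop, Scheme.toSpecΓ_appTop, Iso.inv_hom_id_assoc] at e'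
  simp only [Scheme.Hom.comp_appTop]
  rw [Scheme.toSpecΓ_appTop, e', ← Category.assoc, ← Scheme.ΓSpecIso_inv_naturality, Category.assoc, Iso.inv_hom_id, Category.comp_id]

theorem exists_hom {X Y : Over (Sk k)} [IsAffine Y.left] (φ : Fn Y →ₐ[k] Fn X) : ∃ f : X ⟶ Y, pull f = φ := by
  obtain ⟨f₀, h1⟩ := exists_appTop (X := X.left) (Y := Y.left) (CommRingCat.ofHom φ.toRingHom)
  refine ⟨Over.homMk f₀ ?_, AlgHom.ext fun a => ?_⟩
  · refine ext_of_isAffine ?_
    rw [Scheme.Hom.comp_appTop, h1]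
    refine CommRingCat.hom_ext (RingHom.ext fun c => ?_)
    obtain ⟨d, rfl⟩ := (Scheme.ΓSpecIso (CommRingCat.of k)).commRingCatIsoToRingEquiv.symm.surjective c
    exact φ.commutes d
  · change f₀.appTop.hom a = φ a
    rw [h1]
    rfl

theorem exists_point {X : Over (Sk k)} [IsAffine X.left] (φ : Fn X →ₐ[k] k) : ∃ x : T0 k ⟶ X, ev x = φ := by
  obtain ⟨x, hx⟩ := exists_hom (X := T0 k) ((Algebra.ofId k (Fn (T0 k))).comp φ)
  refine ⟨x, AlgHom.ext fun a => ?_⟩
  change gammaAlg (pull x a) = φ a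
  rw [hx]
  exact gamma_struct _

theorem point_ext {X : Over (Sk k)} [IsAffine X.left] {x y : T0 k ⟶ X} (h : ev x = ev y) : x = y := by
  refine hom_ext (AlgHom.ext fun a => ?_)
  have := congrArg (struct (T0 k)) (AlgHom.congr_fun h a)
  rwa [show struct (T0 k) (ev x a) = pull x a from struct_gamma _,
    show struct (T0 k) (ev y a) = pull y a from struct_gamma _] at this

theorem finiteType (X : Over (Sk k)) [IsAffine X.left] [LocallyOfFiniteType X.hom] :
    Algebra.FiniteType k (Fn X) := by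
  have h := HasRingHomProperty.appTop (P := @LocallyOfFiniteType) X.hom inferInstance
  have h' : RingHom.FiniteType (struct X) :=
    h.comp (RingHom.FiniteType.of_surjective _
      (Scheme.ΓSpecIso (CommRingCat.of k)).commRingCatIsoToRingEquiv.symm.surjective)
  exact h'

theorem smooth (X : Over (Sk k)) [IsAffine X.left] [Smooth X.hom] : Algebra.Smooth k (Fn X) := by
  have h := HasRingHomProperty.appTop (P := @Smooth) X.hom inferInstance
  have h' : RingHom.Smooth (struct X) :=
    RingHom.Smooth.stableUnderComposition _ _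
      (RingHom.Smooth.of_bijective (Scheme.ΓSpecIso (CommRingCat.of k)).commRingCatIsoToRingEquiv.symm.bijective) h
  exact RingHom.smooth_algebraMap.mp h'

theorem isReduced (X : Over (Sk k)) [IsAffine X.left] [Smooth X.hom] : _root_.IsReduced (Fn X) := by
  haveI := smooth X
  exact H02CA.isReduced_of_smooth k (Fn X)

/-- functions on a smooth affine scheme are determined by their values on rational points -/
theorem ext_points [IsAlgClosed k] {X : Over (Sk k)} [IsAffine X.left] [Smooth X.hom] {a b : Fn X}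
    (h : ∀ x : T0 k ⟶ X, ev x a = ev x b) : a = b := by
  haveI := smooth X
  haveI := isReduced X
  by_contra hne
  obtain ⟨φ, hφ⟩ := H19Grp.PointsDense.exists_algHom_ne_zero (k := k) (K := k) (sub_ne_zero.mpr hne)
  obtain ⟨x, rfl⟩ := exists_point φ
  exact hφ (by rw [map_sub, h, sub_self])

theorem isDomain [IsAlgClosed k] (G : Over (Sk k)) [GrpObj G] [IsAffine G.left] [Smooth G.hom]
    [ConnectedSpace G.left] : IsDomain (Fn G) := by
  haveI : IrreducibleSpace G.left := Groth.Agent.S0348.result k G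
  haveI : _root_.IsReduced Γ(G.left, ⊤) := isReduced G
  haveI : AlgebraicGeometry.IsReduced (Spec Γ(G.left, ⊤)) := inferInstance
  haveI : AlgebraicGeometry.IsReduced G.left := isReduced_of_isOpenImmersion G.left.isoSpec.hom
  haveI := isIntegral_of_irreducibleSpace_of_isReduced G.left
  haveI : Nonempty (⊤ : G.left.Opens) := ⟨⟨Classical.arbitrary _, trivial⟩⟩
  exact inferInstanceAs (IsDomain Γ(G.left, ⊤))

/-- functions on `Spec` -/
def specAlg (A : Type u) [CommRing A] [Algebra k A] :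
    A ≃ₐ[k] Fn (Over.mk (Spec.map (CommRingCat.ofHom (algebraMap k A))) : Over (Sk k)) :=
  AlgEquiv.ofRingEquiv (f := ((Scheme.ΓSpecIso (CommRingCat.of A)).commRingCatIsoToRingEquiv.symm :
      A ≃+* Fn (Over.mk (Spec.map (CommRingCat.ofHom (algebraMap k A))) : Over (Sk k)))) fun c => by
    exact congr($(Scheme.ΓSpecIso_inv_naturality (CommRingCat.ofHom (algebraMap k A))).hom c)

/-- functions on a product of affine schemes are sums of products -/
theorem exists_decomp {X Y : Over (Sk k)} [IsAffine X.left] [IsAffine Y.left] (f : Fn (X ⊗ Y)) :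
    ∃ (n : ℕ) (a : Fin n → Fn X) (b : Fin n → Fn Y),
      f = ∑ i, pull (fst X Y) (a i) * pull (snd X Y) (b i) := by
  let φ : Fn X ⊗[k] Fn Y →ₐ[k] Fn (X ⊗ Y) :=
    Algebra.TensorProduct.lift (pull (fst X Y)) (pull (snd X Y)) fun _ _ => Commute.all _ _
  let e := specAlg (k := k) (Fn X ⊗[k] Fn Y)
  let Z : Over (Sk k) := Over.mk (Spec.map (CommRingCat.ofHom (algebraMap k (Fn X ⊗[k] Fn Y))))
  haveI : IsAffine Z.left := inferInstanceAs (IsAffine (Spec _))
  obtain ⟨p, hp⟩ := exists_hom (X := Z) (e.toAlgHom.comp Algebra.TensorProduct.includeLeft)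
  obtain ⟨q, hq⟩ := exists_hom (X := Z) (e.toAlgHom.comp Algebra.TensorProduct.includeRight)
  obtain ⟨h, hh⟩ := exists_hom (X := X ⊗ Y) (Y := Z) (φ.comp e.symm.toAlgHom)
  have hid : h ≫ lift p q = 𝟙 (X ⊗ Y) := by
    refine CartesianMonoidalCategory.hom_ext _ _ (hom_ext (AlgHom.ext fun a => ?_)) (hom_ext (AlgHom.ext fun a => ?_))
    · rw [Category.assoc, lift_fst, Category.id_comp, pull_comp, hp, hh]
      simp [φ]
    · rw [Category.assoc, lift_snd, Category.id_comp, pull_comp, hq, hh]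
      simp [φ]
  obtain ⟨z, rfl⟩ : ∃ z, φ z = f := by
    refine ⟨e.symm (pull (lift p q) f), ?_⟩
    have h1 := AlgHom.congr_fun hh (pull (lift p q) f)
    refine h1.symm.trans ?_
    rw [pull_pull, hid, pull_id]
    rfl
  induction z using TensorProduct.induction_on with
  | zero => exact ⟨0, Fin.elim0, Fin.elim0, by simp⟩
  | tmul a b => exact ⟨1, fun _ => a, fun _ => b, by simp [φ]⟩
  | add z w hz hw =>
    obtain ⟨n, a, b, hz⟩ := hz
    obtain ⟨m, a', b', hw⟩ := hw
    exact ⟨n + m, Fin.append a a', Fin.append b b', by rw [map_add, hz, hw, Fin.sum_univ_add]; simp⟩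

end Fn

end Groth.Agent.H27Witt
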