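import Mathlib

/-!
# Multiplication by Teichmüller representatives
-/

set_option autoImplicit false
universe u

noncomputable section

open WittVector

namespace Groth.Agent.H27Witt

variable {p : ℕ} [hp : Fact p.Prime]

/-- The Witt vector with coordinates `v ^ (p ^ n) * x n`. -/
def scale {R : Type*} [CommRing R] (v : R) (x : WittVector p R) : WittVector p R :=
  WittVector.mk p fun n => v ^ (p ^ n) * x.coeff n

theorem map_scale {R S : Type*} [CommRing R] [CommRing S] (f : R →+* S) (v : R) (x : WittVector p R) :
    WittVector.map f (scale v x) = scale (f v) (WittVector.map f x) := by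
  ext n
  simp [scale, WittVector.map_coeff]

theorem ghostComponent_scale {R : Type*} [CommRing R] (v : R) (x : WittVector p R) (n : ℕ) :
    ghostComponent n (scale v x) = v ^ (p ^ n) * ghostComponent n x := by
  simp only [ghostComponent_apply, aeval_wittPolynomial, Finset.mul_sum, scale]
  refine Finset.sum_congr rfl fun i hi => ?_
  rw [Finset.mem_range] at hi
  rw [WittVector.coeff_mk, mul_pow, ← pow_mul, ← pow_add, show i + (n - i) = n by omega]
  ring

theorem teichmuller_mul_aux {σ : Type*} (v : MvPolynomial σ ℚ) (x : WittVector p (MvPolynomial σ ℚ)) :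
    teichmuller p v * x = scale v x := by
  apply (ghostMap.bijective_of_invertible p (MvPolynomial σ ℚ)).1
  funext n
  rw [ghostMap_apply, ghostMap_apply, map_mul, ghostComponent_teichmuller, ghostComponent_scale]

theorem teichmuller_mul {R : Type*} [CommRing R] (v : R) (x : WittVector p R) :
    teichmuller p v * x = scale v x := by
  let V : MvPolynomial (Option ℕ) ℤ := MvPolynomial.X none
  let Y : WittVector p (MvPolynomial (Option ℕ) ℤ) := WittVector.mk p fun n => MvPolynomial.X (some n)
  have h : teichmuller p V * Y = scale V Y := by
    refine map_injective (MvPolynomial.map (Int.castRingHom ℚ))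
      (MvPolynomial.map_injective _ Int.cast_injective) ?_
    rw [map_mul, map_teichmuller, teichmuller_mul_aux, map_scale]
  let φ : MvPolynomial (Option ℕ) ℤ →+* R :=
    MvPolynomial.eval₂Hom (Int.castRingHom R) (fun o => Option.elim o v x.coeff)
  have hY : WittVector.map φ Y = x := by
    ext n
    simp [Y, φ, WittVector.map_coeff]
  have hV : φ V = v := by simp [φ, V]
  have h' := congrArg (WittVector.map φ) h
  rwa [map_mul, map_teichmuller, map_scale, hY, hV] at h'

theorem teichmuller_mul_coeff {R : Type*} [CommRing R] (v : R) (x : WittVector p R) (n : ℕ) :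
    (teichmuller p v * x).coeff n = v ^ (p ^ n) * x.coeff n := by
  rw [teichmuller_mul]; rfl

theorem truncate_teichmuller_mul_coeff {R : Type*} [CommRing R] (m : ℕ) (v : R)
    (a : TruncatedWittVector p m R) (j : Fin m) :
    TruncatedWittVector.coeff j (WittVector.truncate m (teichmuller p v) * a) =
      v ^ (p ^ (j : ℕ)) * TruncatedWittVector.coeff j a := by
  obtain ⟨X, rfl⟩ := WittVector.truncate_surjective p m R a
  rw [← map_mul, WittVector.coeff_truncate, WittVector.coeff_truncate, teichmuller_mul_coeff]

theorem iterate_verschiebung_coeff_of_lt {R : Type*} [CommRing R] (x : WittVector p R) (s n : ℕ) (h : n < s) :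
    (verschiebung^[s] x).coeff n = 0 := by
  induction s generalizing n with
  | zero => omega
  | succ s ih =>
    rw [Function.iterate_succ_apply']
    cases n with
    | zero => exact verschiebung_coeff_zero _
    | succ n => rw [verschiebung_coeff_succ]; exact ih n (by omega)

theorem eq_teichmuller_add_verschiebung {R : Type*} [CommRing R] (X : WittVector p R) :
    X = teichmuller p (X.coeff 0) + verschiebung (X.shift 1) := by
  ext n
  rw [coeff_add_of_disjoint]
  · cases n with
    | zero => simp [teichmuller_coeff_zero, verschiebung_coeff_zero]
    | succ n =>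
      rw [teichmuller_coeff_pos p _ _ n.succ_pos, verschiebung_coeff_succ, shift_coeff, zero_add, add_comm 1 n]
  · intro i
    cases i with
    | zero => exact Or.inr (verschiebung_coeff_zero _)
    | succ i => exact Or.inl (teichmuller_coeff_pos p _ _ i.succ_pos)

end Groth.Agent.H27Witt
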