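import Groth.Agent.H27Witt.KillPow
import Groth.Agent.H27Witt.Ext
import Groth.Agent.H27PGrp.Main
import Mathlib

/-!
# Unipotent commutative groups embed into products of Witt groups
-/

set_option autoImplicit false
set_option linter.style.haveILetI false
universe u

open CategoryTheory CategoryTheory.Limits MonoidalCategory CartesianMonoidalCategory MonObj AlgebraicGeometry

noncomputable section

namespace Groth.Agent.H27Witt

variable {p : ℕ} [hp : Fact p.Prime] {k : Type u} [Field k] [IsAlgClosed k] [CharP k p]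

/-- finite products of affine groups over a field -/
theorem exists_finite_product : ∀ (r : ℕ) (X : Fin r → Over (Sk k)) [∀ i, GrpObj (X i)] [∀ i, IsAffine (X i).left],
    ∃ (P : Over (Sk k)) (_ : GrpObj P) (proj : ∀ i, P ⟶ X i), IsAffine P.left ∧ (∀ i, IsMonHom (proj i)) ∧
      ∀ (T : Over (Sk k)) (f : ∀ i, T ⟶ X i), ∃! g : T ⟶ P, ∀ i, g ≫ proj i = f i
  | 0, X, _, _ => by
    refine ⟨𝟙_ _, inferInstance, fun i => i.elim0, inferInstanceAs (IsAffine (Spec _)), fun i => i.elim0, fun T f => ?_⟩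
    exact ⟨toUnit T, fun i => i.elim0, fun g _ => toUnit_unique _ _⟩
  | r + 1, X, _, _ => by
    obtain ⟨P, hP, proj, haff, hproj, huniv⟩ := exists_finite_product r (fun i => X i.succ)
    refine ⟨X 0 ⊗ P, inferInstance, Fin.cases (fst _ _) (fun i => snd _ _ ≫ proj i),
      inferInstanceAs (IsAffine (pullback (X 0).hom P.hom)), fun i => ?_, fun T f => ?_⟩
    · induction i using Fin.cases with
      | zero => simp only [Fin.cases_zero]; infer_instance
      | succ i => haveI := hproj i; simp only [Fin.cases_succ]; infer_instance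
    · obtain ⟨g, hg, hu⟩ := huniv T (fun i => f i.succ)
      refine ⟨lift (f 0) g, fun i => ?_, fun g' hg' => ?_⟩
      · induction i using Fin.cases with
        | zero => simp
        | succ i => simp [hg i]
      · refine CartesianMonoidalCategory.hom_ext _ _ ?_ ?_
        · rw [lift_fst]
          simpa using hg' 0
        · rw [lift_snd]
          exact hu _ fun i => by simpa using hg' i.succ

variable (G : Over (Sk k)) [GrpObj G] [IsCommMonObj G] [IsAffine G.left] [Smooth G.hom]

/-- rational points and functions of an affine group -/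
def pgrp : H27PGrp.PGrp k (Fn G) where
  P := Additive (T0 k ⟶ G)
  pt := Equiv.ofBijective (fun x => Fn.ev x.toMul)
    ⟨fun x y h => Additive.toMul.injective (Fn.point_ext h), fun φ => by
      obtain ⟨x, hx⟩ := Fn.exists_point φ
      exact ⟨Additive.ofMul x, hx⟩⟩
  decomp a := by
    obtain ⟨n, b, c, h⟩ := Fn.exists_decomp_mul a
    refine ⟨n, b, c, fun x y => ?_⟩
    change Fn.gammaAlg (Fn.pull (x.toMul * y.toMul) a) = _
    rw [h, map_sum]
    exact Finset.sum_congr rfl fun i _ => map_mul _ _ _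
  negP a := ⟨Fn.pull (𝟙 G)⁻¹ a, fun x => by
    change Fn.ev (x.toMul)⁻¹ a = Fn.ev x.toMul (Fn.pull (𝟙 G)⁻¹ a)
    rw [Fn.ev_pull, GrpObj.comp_inv, Category.comp_id]⟩

theorem pgrp_kill [ConnectedSpace G.left] (hG : Red.HasNoSubtorus k G) :
    ∃ N, ∀ x : (pgrp G).P, p ^ N • x = 0 := by
  obtain ⟨N, hN⟩ := exists_pow_eq_one p G hG
  refine ⟨N, fun x => Additive.toMul.injective ?_⟩
  change (Additive.toMul x : T0 k ⟶ G) ^ p ^ N = 1
  rw [← Category.comp_id (Additive.toMul x : T0 k ⟶ G), ← MonObj.comp_pow, hN, MonObj.comp_one]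

/-- additive Witt-vector valued functions are homomorphisms -/
theorem exists_monHom {n : ℕ} (v : TruncatedWittVector p n (Fn G)) (hv : (pgrp G).IsAddW v) :
    ∃ φ : G ⟶ WittGrp.W p n (Sk k), IsMonHom φ ∧
      ∀ i, φ.left.appTop (WittGrp.coord p i) = v.coeff i := by
  let φ : G ⟶ WittGrp.W p n (Sk k) :=
    (WittGrp.ptsMul p G).symm (Multiplicative.ofAdd (v : TruncatedWittVector p n Γ(G.left, ⊤)))
  have hφ : WittGrp.pts p G (Additive.ofMul φ) = (v : TruncatedWittVector p n Γ(G.left, ⊤)) := by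
    change Multiplicative.toAdd (WittGrp.ptsMul p _ φ) = _
    rw [MulEquiv.apply_symm_apply, toAdd_ofAdd]
  have hpt : ∀ x : T0 k ⟶ G, x ≫ φ = pt (H27PGrp.tm (Fn.ev x) v) := by
    intro x
    refine WittGrp.pts_injective p _ ?_
    dsimp only
    rw [pts_pt, WittGrp.pts_comp, hφ]
    refine TruncatedWittVector.ext fun i => ?_
    rw [WittGrp.coeff_truncMap, WittGrp.coeff_truncMap]
    refine Eq.trans ?_ (congrArg (struct (T0 k)) (H27PGrp.coeff_tm (Fn.ev x) v i).symm)
    exact (struct_gamma _).symm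
  haveI : IsSeparated (WittGrp.W p n (Sk k)).hom := H19Grp.PointsDense.isSeparated_grp _
  refine ⟨φ, isMonHom_of_pts _ fun x y => ?_, fun i => ?_⟩
  · rw [hpt, hpt, hpt, ← pt_add]
    exact congrArg pt (hv (Additive.ofMul x) (Additive.ofMul y))
  · have := congrArg (TruncatedWittVector.coeff i) hφ
    rwa [WittGrp.pts_apply, TruncatedWittVector.coeff_mk] at this

/-- embedding into a product of Witt groups -/
theorem exists_closedImmersion_prod [ConnectedSpace G.left] (hG : Red.HasNoSubtorus k G) :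
    ∃ (r : ℕ) (nn : Fin r → ℕ) (P : Over (Sk k)) (_ : GrpObj P)
      (proj : ∀ j : Fin r, P ⟶ WittGrp.W p (nn j) (Sk k)),
      (∀ j, IsMonHom (proj j)) ∧ Nonempty (IsLimit (Fan.mk P proj)) ∧
      ∃ j : G ⟶ P, IsMonHom j ∧ IsClosedImmersion j.left := by
  haveI : Algebra.Smooth k (Fn G) := Fn.smooth G
  haveI : PerfectRing k p := PerfectField.toPerfectRing p
  obtain ⟨N, hN⟩ := pgrp_kill (p := p) G hG
  obtain ⟨r, nn, v, hv, hgen⟩ := (pgrp G).emb N hN
  choose φ hφ hcoord using fun i => exists_monHom G (v i) (hv i)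
  haveI : ∀ i, IsAffine (WittGrp.W p (nn i) (Sk k)).left := fun i =>
    inferInstanceAs (IsAffine 𝔸(ULift.{u} (Fin (nn i)); Sk k))
  obtain ⟨P, hP, proj, haff, hproj, huniv⟩ := exists_finite_product r (fun i => WittGrp.W p (nn i) (Sk k))
  refine ⟨r, nn, P, hP, proj, hproj, ⟨mkFanLimit _ (fun s => (huniv s.pt s.proj).choose)
    (fun s i => (huniv s.pt s.proj).choose_spec.1 i) (fun s m hm => (huniv s.pt s.proj).choose_spec.2 m hm)⟩, ?_⟩
  obtain ⟨j, hj, -⟩ := huniv G φ
  refine ⟨j, H21Diag.isMonHom_of_mul j fun {T} a b => ?_, ?_⟩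
  · have hext : ∀ g g' : T ⟶ P, (∀ i, g ≫ proj i = g' ≫ proj i) → g = g' := fun g g' h =>
      (huniv T fun i => g' ≫ proj i).unique h fun i => rfl
    refine hext _ _ fun i => ?_
    haveI := hproj i
    haveI := hφ i
    simp only [MonObj.mul_comp, Category.assoc, hj]
  · refine IsClosedImmersion.of_surjective_of_isAffine _ ?_
    have hrange : (Fn.pull j).range = ⊤ := by
      rw [eq_top_iff, ← hgen]
      refine Algebra.adjoin_le fun a ha => ?_
      obtain ⟨i, l, rfl⟩ := Set.mem_iUnion.mp ha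
      refine (AlgHom.mem_range _).mpr ⟨Fn.pull (proj i) (WittGrp.coord p l), ?_⟩
      rw [Fn.pull_pull, hj]
      exact hcoord i l
    intro a
    exact (AlgHom.mem_range _).mp (hrange.symm ▸ (Algebra.mem_top : (show Fn G from a) ∈ (⊤ : Subalgebra k (Fn G))))

end Groth.Agent.H27Witt
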