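import Groth.Agent.H27Witt.KillPow
import Groth.Agent.H27Witt.Subgroup
import Groth.Agent.H27Witt.Ext
import Groth.Agent.S0348
import Mathlib

/-!
# The images of multiplication by powers of `p`
-/

set_option autoImplicit false
set_option linter.style.haveILetI false
universe u

open CategoryTheory MonoidalCategory CartesianMonoidalCategory MonObj AlgebraicGeometry

noncomputable section

namespace Groth.Agent.H27Witt

variable {k : Type u} [Field k] [IsAlgClosed k]

/-- `p ^ n` kills a smooth connected group killed by a power of `p`, of dimension `n` -/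
theorem pow_pow_eq_one_of_dim (p : ℕ) (G : Over (Sk k)) [GrpObj G]
    [Smooth G.hom] [ConnectedSpace G.left] [IsSeparated G.hom] (hkill : ∃ N : ℕ, (𝟙 G) ^ p ^ N = 1) (n : ℕ)
    (hdim : topologicalKrullDim ↥G.left = n) : (𝟙 G) ^ p ^ n = 1 := by
  obtain ⟨N, hN⟩ := hkill
  haveI : IrreducibleSpace G.left := Groth.Agent.S0348.result k G
  let pw : ℕ → (G ⟶ G) := fun i => (𝟙 G) ^ p ^ i
  let e : G.left := (1 : T0 k ⟶ G).left (IsLocalRing.closedPoint k)
  let Z : ℕ → TopologicalSpace.IrreducibleCloseds G.left := fun i =>
    { carrier := closure (Set.range (pw i).left)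
      isIrreducible' := by
        have h := (IrreducibleSpace.isIrreducible_univ G.left).image (pw i).left
          (pw i).left.continuous.continuousOn
        rw [Set.image_univ] at h
        exact h.closure
      isClosed' := isClosed_closure }
  have hpt : ∀ (i : ℕ) (x : T0 k ⟶ G), (x ^ p ^ i).left (IsLocalRing.closedPoint k) =
      (pw i).left (x.left (IsLocalRing.closedPoint k)) := fun i x => by
    rw [show x ^ p ^ i = x ≫ pw i by rw [MonObj.comp_pow, Category.comp_id]]
    rfl
  -- trivial image gives trivial power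
  have htriv : ∀ i, (Z i : Set G.left) ⊆ {e} → pw i = 1 := by
    intro i hi
    refine hom_ext_pts fun x => ?_
    rw [MonObj.comp_one]
    refine closedPoint_eq_of_hom _ _ ?_
    exact hi (subset_closure ⟨_, rfl⟩)
  have hsucc : ∀ i, pw (i + 1) = pw i ≫ pw 1 ∧ pw (i + 1) = pw 1 ≫ pw i := fun i => by
    constructor
    · simp only [pw, pow_one]
      rw [MonObj.comp_pow, Category.comp_id, ← pow_mul, ← pow_succ]
    · simp only [pw, pow_one]
      rw [MonObj.comp_pow, Category.comp_id, ← pow_mul, ← pow_succ']
  have hle : ∀ i, (Z (i + 1) : Set G.left) ⊆ Z i := fun i => by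
    refine closure_mono ?_
    rintro _ ⟨y, rfl⟩
    refine ⟨(pw 1).left y, ?_⟩
    rw [(hsucc i).2]
    rfl
  have himg : ∀ i, (pw 1).left '' (Z i : Set G.left) ⊆ Z (i + 1) := fun i => by
    refine (image_closure_subset_closure_image (pw 1).left.continuous).trans (closure_mono ?_)
    rintro _ ⟨_, ⟨y, rfl⟩, rfl⟩
    refine ⟨y, ?_⟩
    rw [(hsucc i).1]
    rfl
  have hstrict : ∀ i, pw i ≠ 1 → Z (i + 1) < Z i := by
    intro i hi
    refine lt_of_le_of_ne (hle i) fun heq => hi (htriv i ?_)
    have hconst : ∀ j, (Z i : Set G.left) ⊆ Z (i + j) := by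
      intro j
      induction j with
      | zero => exact subset_rfl
      | succ j ih =>
        refine Eq.trans_le (congrArg SetLike.coe heq).symm ?_
        refine closure_minimal ?_ isClosed_closure
        rintro _ ⟨y, rfl⟩
        rw [(hsucc i).1]
        exact himg (i + j) ⟨_, ih (subset_closure ⟨y, rfl⟩), rfl⟩
    refine (hconst N).trans (closure_minimal ?_ ?_)
    · rintro _ ⟨y, rfl⟩
      have h1 : pw (i + N) = 1 := by
        simp only [pw]
        rw [pow_add, _root_.mul_comm, pow_mul, hN, one_pow]
      rw [h1, Hom.one_def]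
      change (η[G]).left ((toUnit G).left y) = (η[G]).left ((toUnit (T0 k)).left (IsLocalRing.closedPoint k))
      exact congrArg _ (Subsingleton.elim (α := (T0 k).left) _ _)
    · haveI : IsClosedImmersion ((1 : T0 k ⟶ G).left ≫ G.hom) := by
        rw [Over.w (1 : T0 k ⟶ G)]; exact inferInstanceAs (IsClosedImmersion (𝟙 (Sk k)))
      haveI : IsClosedImmersion (1 : T0 k ⟶ G).left := IsClosedImmersion.of_comp _ G.hom
      have h2 := (1 : T0 k ⟶ G).left.isClosedEmbedding.isClosed_range
      rwa [show Set.range (1 : T0 k ⟶ G).left = {e} from Set.range_unique] at h2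
  by_contra hne
  have hne' : ∀ i ≤ n, pw i ≠ 1 := fun i hi h => hne (by
    simp only [pw] at h
    rw [← Nat.add_sub_cancel' hi, pow_add, pow_mul, h, one_pow])
  let q : LTSeries (TopologicalSpace.IrreducibleCloseds G.left) :=
    { length := n + 1
      toFun := fun i => Z (n + 1 - i)
      step := fun i => by
        change Z (n + 1 - (i.castSucc : Fin _).val) < Z (n + 1 - (i.succ : Fin _).val)
        have h1 : n + 1 - (i.castSucc : Fin (n + 1 + 1)).val = (n + 1 - (i.succ : Fin (n + 1 + 1)).val) + 1 := by
          simp only [Fin.val_castSucc, Fin.val_succ]; omega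
        rw [h1]
        refine hstrict _ (hne' _ ?_)
        simp only [Fin.val_succ]; omega }
  have h3 := Order.LTSeries.length_le_krullDim q
  change _ ≤ topologicalKrullDim ↥G.left at h3
  rw [hdim] at h3
  have h4 : n + 1 ≤ n := by exact_mod_cast h3
  omega

end Groth.Agent.H27Witt
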