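import Groth.Agent.H27Witt.Ext
import Mathlib

/-!
# Auxiliary identities for extensions of Witt groups
-/

set_option autoImplicit false
universe u

noncomputable section

namespace Groth.Agent.H27Witt

variable {p : ℕ} [hp : Fact p.Prime] {k : Type u} [Field k] {n m N r r' : ℕ}

theorem pad_add_carry (hN : N = r + r') (h : r' ≤ N) (a b : TruncatedWittVector p r k) :
    (padEnd a : TruncatedWittVector p N k) + padEnd b = padEnd (a + b) + WittGrp.shift p h (carry r r' a b) := by
  subst hN
  exact carry_spec a b

theorem unshift_add (z w : TruncatedWittVector p (n + r') k) :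
    unshift (Nat.le_add_left r' n) (z + w) =
      unshift (Nat.le_add_left r' n) z + unshift (Nat.le_add_left r' n) w +
        carry n r' (TruncatedWittVector.truncate (Nat.le_add_right n r') z)
          (TruncatedWittVector.truncate (Nat.le_add_right n r') w) := by
  refine shift_injective' (Nat.le_add_left r' n) ?_
  have hs : ∀ x : TruncatedWittVector p (n + r') k,
      WittGrp.shift p (Nat.le_add_left r' n) (unshift (Nat.le_add_left r' n) x) =
        x - padEnd (TruncatedWittVector.truncate (Nat.le_add_right n r') x) := fun x =>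
    eq_sub_iff_add_eq'.mpr (split_eq _ _ rfl x)
  rw [map_add, map_add, shift_carry, hs, hs, hs, map_add]
  abel

variable [CharP k p] [PerfectRing k p]

theorem Gen.exists_ver_comm {Φ : WittVector p k →+ WittVector p k} (hΦ : Gen Φ) :
    ∃ Φ', Gen Φ' ∧ ∀ X, Φ (WittVector.verschiebung X) = WittVector.verschiebung (Φ' X) := by
  induction hΦ with
  | mul c =>
    refine ⟨_, .mul (WittVector.frobenius c), fun X => ?_⟩
    change c * _ = WittVector.verschiebung (WittVector.frobenius c * X)
    rw [mul_comm, ← WittVector.verschiebung_mul_frobenius, mul_comm X]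
  | frob => exact ⟨_, .frob, fun X => (WittVector.verschiebung_frobenius_comm X).symm⟩
  | ver => exact ⟨_, .ver, fun X => rfl⟩
  | zero => exact ⟨0, .zero, fun X => by simp⟩
  | add _ _ ih₁ ih₂ =>
    obtain ⟨φ, hφ, e⟩ := ih₁
    obtain ⟨ψ, hψ, e'⟩ := ih₂
    exact ⟨φ + ψ, hφ.add hψ, fun X => by simp [e, e']⟩
  | comp _ _ ih₁ ih₂ =>
    obtain ⟨φ, hφ, e⟩ := ih₁
    obtain ⟨ψ, hψ, e'⟩ := ih₂
    exact ⟨φ.comp ψ, hφ.comp hψ, fun X => by simp [e, e']⟩

end Groth.Agent.H27Witt
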