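import Groth.Agent.H27Witt.AlgMap
import Mathlib

/-!
# Witt group schemes over an algebraically closed field through their rational points
-/

set_option autoImplicit false
set_option linter.style.haveILetI false
universe u

open CategoryTheory MonoidalCategory CartesianMonoidalCategory MonObj AlgebraicGeometry

noncomputable section

namespace Groth.Agent.H27Witt

variable {p : ℕ} [hp : Fact p.Prime] {k : Type u} [Field k] {n m r : ℕ}

/-- the base -/
abbrev Sk (k : Type u) [Field k] : Scheme.{u} := Spec (CommRingCat.of k)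

/-- the terminal object -/
abbrev T0 (k : Type u) [Field k] : Over (Sk k) := Over.mk (𝟙 (Sk k))

/-- global functions form a `k`-algebra -/
def struct (T : Over (Sk k)) : k →+* Γ(T.left, ⊤) :=
  T.hom.appTop.hom.comp (Scheme.ΓSpecIso (CommRingCat.of k)).inv.hom

theorem struct_comp {T T' : Over (Sk k)} (g : T' ⟶ T) : g.left.appTop.hom.comp (struct T) = struct T' := by
  rw [struct, struct, ← RingHom.comp_assoc, ← CommRingCat.hom_comp, ← Scheme.Hom.comp_appTop, Over.w g]

/-- global functions on the base are scalars -/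
def gamma (k : Type u) [Field k] : Γ((T0 k).left, ⊤) →+* k :=
  (Scheme.ΓSpecIso (CommRingCat.of k)).hom.hom

theorem struct_gamma (c : Γ((T0 k).left, ⊤)) : struct (T0 k) (gamma k c) = c := by
  change ((Scheme.ΓSpecIso (CommRingCat.of k)).hom ≫ (Scheme.ΓSpecIso (CommRingCat.of k)).inv ≫
    Scheme.Hom.appTop (𝟙 (Sk k))) c = c
  simp only [Iso.hom_inv_id_assoc, Scheme.Hom.id_appTop]
  rfl

theorem gamma_struct (c : k) : gamma k (struct (T0 k) c) = c := by
  change ((Scheme.ΓSpecIso (CommRingCat.of k)).inv ≫ Scheme.Hom.appTop (𝟙 (Sk k)) ≫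
    (Scheme.ΓSpecIso (CommRingCat.of k)).hom) c = c
  simp only [Scheme.Hom.id_appTop, Category.id_comp, Iso.inv_hom_id]
  rfl

/-- the rational point with given components -/
def pt (a : TruncatedWittVector p n k) : T0 k ⟶ WittGrp.W p n (Sk k) :=
  (WittGrp.ptsMul p (T0 k)).symm (Multiplicative.ofAdd (WittGrp.truncMap p n (struct (T0 k)) a))

theorem pts_pt (a : TruncatedWittVector p n k) :
    WittGrp.pts p (T0 k) (Additive.ofMul (pt a)) = WittGrp.truncMap p n (struct (T0 k)) a := by
  change Multiplicative.toAdd (WittGrp.ptsMul p (T0 k) (pt a)) = _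
  rw [pt, MulEquiv.apply_symm_apply, toAdd_ofAdd]

/-- the action of a morphism on rational points -/
def act (f : WittGrp.W p n (Sk k) ⟶ WittGrp.W p m (Sk k)) (a : TruncatedWittVector p n k) :
    TruncatedWittVector p m k :=
  WittGrp.truncMap p m (gamma k) (WittGrp.pts p (T0 k) (Additive.ofMul (pt a ≫ f)))

theorem truncMap_struct_gamma (z : TruncatedWittVector p n Γ((T0 k).left, ⊤)) :
    WittGrp.truncMap p n (struct (T0 k)) (WittGrp.truncMap p n (gamma k) z) = z :=
  TruncatedWittVector.ext fun i => by rw [WittGrp.coeff_truncMap, WittGrp.coeff_truncMap, struct_gamma]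

theorem truncMap_gamma_struct (z : TruncatedWittVector p n k) :
    WittGrp.truncMap p n (gamma k) (WittGrp.truncMap p n (struct (T0 k)) z) = z :=
  TruncatedWittVector.ext fun i => by rw [WittGrp.coeff_truncMap, WittGrp.coeff_truncMap, gamma_struct]

theorem pt_act (f : WittGrp.W p n (Sk k) ⟶ WittGrp.W p m (Sk k)) (a : TruncatedWittVector p n k) :
    pt (act f a) = pt a ≫ f := by
  refine WittGrp.pts_injective p _ ?_
  dsimp only
  rw [pts_pt, act, truncMap_struct_gamma]

theorem act_comp (f : WittGrp.W p n (Sk k) ⟶ WittGrp.W p m (Sk k)) (g : WittGrp.W p m (Sk k) ⟶ WittGrp.W p r (Sk k))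
    (a : TruncatedWittVector p n k) : act (f ≫ g) a = act g (act f a) := by
  show WittGrp.truncMap p r (gamma k) _ = WittGrp.truncMap p r (gamma k) _
  rw [pt_act, Category.assoc]

theorem act_id (a : TruncatedWittVector p n k) : act (𝟙 (WittGrp.W p n (Sk k))) a = a := by
  rw [act, Category.comp_id, pts_pt, truncMap_gamma_struct]

theorem act_R (h : n ≤ m) (a : TruncatedWittVector p m k) :
    act (WittGrp.R p (Sk k) h) a = TruncatedWittVector.truncate h a := by
  rw [act, WittGrp.pts_R, pts_pt, WittGrp.truncMap_truncateLE, truncMap_gamma_struct]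

theorem act_V (h : n ≤ m) (a : TruncatedWittVector p n k) :
    act (WittGrp.V p (Sk k) h) a = WittGrp.shift p h a := by
  rw [act, WittGrp.pts_V, pts_pt, WittGrp.truncMap_shift, truncMap_gamma_struct]

theorem act_F (hpS : (p : Γ(Sk k, ⊤)) = 0) (hk : (p : k) = 0) (a : TruncatedWittVector p n k) :
    act (WittGrp.F p n (Sk k) hpS) a = WittGrp.frob p n hk a := by
  rw [act, WittGrp.pts_F, pts_pt, WittGrp.truncMap_frob p n _ hk, truncMap_gamma_struct]

theorem pt_add (a b : TruncatedWittVector p n k) : pt (a + b) = pt a * pt b := by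
  refine WittGrp.pts_injective p _ ?_
  dsimp only
  rw [WittGrp.pts_mul, pts_pt, pts_pt, pts_pt, map_add]

theorem act_add (f : WittGrp.W p n (Sk k) ⟶ WittGrp.W p m (Sk k)) [IsMonHom f] (a b : TruncatedWittVector p n k) :
    act f (a + b) = act f a + act f b := by
  rw [act, act, act, pt_add, MonObj.mul_comp, WittGrp.pts_mul, map_add]

/-- the additive map of a homomorphism on rational points -/
def actHom (f : WittGrp.W p n (Sk k) ⟶ WittGrp.W p m (Sk k)) [IsMonHom f] :
    TruncatedWittVector p n k →+ TruncatedWittVector p m k :=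
  AddMonoidHom.mk' (act f) (act_add f)

@[simp] theorem actHom_apply (f : WittGrp.W p n (Sk k) ⟶ WittGrp.W p m (Sk k)) [IsMonHom f]
    (a : TruncatedWittVector p n k) : actHom f a = act f a := rfl

/-- polynomials as global functions -/
def polyFn (p : ℕ) [Fact p.Prime] (k : Type u) [Field k] (n : ℕ) :
    MvPolynomial (Fin n) k →+* Γ((WittGrp.W p n (Sk k)).left, ⊤) :=
  MvPolynomial.eval₂Hom (struct (WittGrp.W p n (Sk k))) (WittGrp.coord p)

theorem appTop_comp_eval₂Hom {T : Over (Sk k)} (x : T ⟶ WittGrp.W p n (Sk k)) :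
    x.left.appTop.hom.comp (polyFn p k n) =
      MvPolynomial.eval₂Hom (struct T) fun i => (WittGrp.pts p T (Additive.ofMul x)).coeff i := by
  refine MvPolynomial.ringHom_ext (fun c => ?_) fun i => ?_
  · simp only [RingHom.comp_apply, polyFn, MvPolynomial.eval₂Hom_C]
    rw [← struct_comp x]
    rfl
  · simp only [RingHom.comp_apply, polyFn, MvPolynomial.eval₂Hom_X', WittGrp.coeff_pts]

theorem gamma_appTop_polyFn (a : TruncatedWittVector p n k) :
    (gamma k).comp ((pt a).left.appTop.hom.comp (polyFn p k n)) = MvPolynomial.eval fun i => a.coeff i := by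
  rw [appTop_comp_eval₂Hom, pts_pt]
  refine MvPolynomial.ringHom_ext (fun c => ?_) fun i => ?_
  · simpa using gamma_struct c
  · simpa using gamma_struct (a.coeff i)

theorem polyFn_surjective : Function.Surjective (polyFn p k n) := by
  let σ := ULift.{u} (Fin n)
  let R := CommRingCat.of k
  let e : MvPolynomial σ k →+* Γ(𝔸(σ; Spec R), ⊤) := MvPolynomial.eval₂Hom
    ((Scheme.ΓSpecIso R).inv ≫ (𝔸(σ; Spec R) ↘ Spec R).appTop).hom (AffineSpace.coord (Spec R))
  have he : Function.Surjective e := by
    haveI : IsIso (AffineSpace.SpecIso σ R).hom.appTop :=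
      inferInstanceAs (IsIso ((AffineSpace.SpecIso σ R).hom.app ⊤))
    have h1 : Function.Bijective (AffineSpace.SpecIso σ R).hom.appTop.hom :=
      ConcreteCategory.bijective_of_isIso (AffineSpace.SpecIso σ R).hom.appTop
    rw [AffineSpace.SpecIso_hom_appTop] at h1
    exact Function.Surjective.of_comp h1.2
  intro c
  obtain ⟨Q, hQ⟩ := he c
  refine ⟨MvPolynomial.rename ULift.down Q, ?_⟩
  rw [polyFn, MvPolynomial.eval₂Hom_rename]
  exact hQ

theorem act_eq_of_coord (f : WittGrp.W p n (Sk k) ⟶ WittGrp.W p m (Sk k)) (P : Fin m → MvPolynomial (Fin n) k)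
    (hP : ∀ i, polyFn p k n (P i) = f.left.appTop (WittGrp.coord p i)) (a : TruncatedWittVector p n k) (i : Fin m) :
    (act f a).coeff i = MvPolynomial.eval (fun j => a.coeff j) (P i) := by
  rw [act, WittGrp.coeff_truncMap, WittGrp.coeff_pts, ← gamma_appTop_polyFn]
  change _ = gamma k ((pt a).left.appTop (polyFn p k n (P i)))
  rw [hP]
  rfl

theorem isAlgMap_act (f : WittGrp.W p n (Sk k) ⟶ WittGrp.W p m (Sk k)) : IsAlgMap (act f) := by
  choose P hP using fun i => polyFn_surjective (p := p) (k := k) (f.left.appTop (WittGrp.coord p i))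
  exact IsAlgMap.of_coeff P fun a i => act_eq_of_coord f P hP a i

theorem act_injective [Infinite k] {f g : WittGrp.W p n (Sk k) ⟶ WittGrp.W p m (Sk k)}
    (h : ∀ a, act f a = act g a) : f = g := by
  choose P hP using fun i => polyFn_surjective (p := p) (k := k) (f.left.appTop (WittGrp.coord p i))
  choose Q hQ using fun i => polyFn_surjective (p := p) (k := k) (g.left.appTop (WittGrp.coord p i))
  refine WittGrp.pts_injective p _ (TruncatedWittVector.ext fun i => ?_)
  rw [WittGrp.coeff_pts, WittGrp.coeff_pts]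
  refine (hP i).symm.trans ((congrArg _ (MvPolynomial.funext fun v => ?_)).trans (hQ i))
  obtain ⟨a, rfl⟩ : ∃ a : TruncatedWittVector p n k, v = fun j => a.coeff j :=
    ⟨TruncatedWittVector.mk p v, funext fun j => (TruncatedWittVector.coeff_mk v j).symm⟩
  rw [← act_eq_of_coord f P hP, ← act_eq_of_coord g Q hQ, h]

/-- every algebraic additive map of rational points is a homomorphism of group schemes -/
theorem exists_hom [Infinite k] (φ : TruncatedWittVector p n k → TruncatedWittVector p m k) (hφ : IsAlgMap φ)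
    (hadd : ∀ a b, φ (a + b) = φ a + φ b) :
    ∃ f : WittGrp.W p n (Sk k) ⟶ WittGrp.W p m (Sk k), IsMonHom f ∧ ∀ a, act f a = φ a := by
  obtain ⟨P, hP⟩ := hφ
  let f : WittGrp.W p n (Sk k) ⟶ WittGrp.W p m (Sk k) :=
    (WittGrp.ptsMul p _).symm (Multiplicative.ofAdd (WittGrp.truncMap p m (polyFn p k n) P))
  have hf : WittGrp.pts p _ (Additive.ofMul f) = WittGrp.truncMap p m (polyFn p k n) P := by
    change Multiplicative.toAdd (WittGrp.ptsMul p _ f) = _
    rw [MulEquiv.apply_symm_apply, toAdd_ofAdd]
  have hnat : ∀ {T : Over (Sk k)} (x : T ⟶ WittGrp.W p n (Sk k)),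
      WittGrp.pts p T (Additive.ofMul (x ≫ f)) = WittGrp.truncMap p m
        (MvPolynomial.eval₂Hom (struct T) fun i => (WittGrp.pts p T (Additive.ofMul x)).coeff i) P := by
    intro T x
    rw [WittGrp.pts_comp, hf, ← appTop_comp_eval₂Hom, WittGrp.truncMap_comp]
    rfl
  have hact : ∀ a, act f a = φ a := by
    intro a
    rw [act, hnat, ← RingHom.comp_apply (WittGrp.truncMap p m (gamma k)), ← WittGrp.truncMap_comp, hP,
      ← appTop_comp_eval₂Hom, gamma_appTop_polyFn]
  let B := MvPolynomial (Fin n ⊕ Fin n) k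
  let xu : TruncatedWittVector p n B := TruncatedWittVector.mk p fun i => MvPolynomial.X (Sum.inl i)
  let yu : TruncatedWittVector p n B := TruncatedWittVector.mk p fun i => MvPolynomial.X (Sum.inr i)
  let e : TruncatedWittVector p n B → TruncatedWittVector p m B := fun v =>
    WittGrp.truncMap p m (MvPolynomial.eval₂Hom MvPolynomial.C fun i => v.coeff i) P
  have hcomp : ∀ {R : Type u} [CommRing R] (Φ : B →+* R) (v : TruncatedWittVector p n B),
      WittGrp.truncMap p m Φ (e v) = WittGrp.truncMap p m
        (MvPolynomial.eval₂Hom (Φ.comp MvPolynomial.C) fun i => (WittGrp.truncMap p n Φ v).coeff i) P := by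
    intro R _ Φ v
    rw [← RingHom.comp_apply (WittGrp.truncMap p m Φ), ← WittGrp.truncMap_comp, MvPolynomial.comp_eval₂Hom]
    simp only [WittGrp.coeff_truncMap]
  have huniv : e (xu + yu) = e xu + e yu := by
    refine TruncatedWittVector.ext fun i => MvPolynomial.funext fun v => ?_
    suffices h : WittGrp.truncMap p m (MvPolynomial.eval v) (e (xu + yu)) =
        WittGrp.truncMap p m (MvPolynomial.eval v) (e xu + e yu) by
      simpa only [WittGrp.coeff_truncMap] using congrArg (TruncatedWittVector.coeff i) h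
    rw [map_add, hcomp, hcomp, hcomp, map_add]
    have hC : (MvPolynomial.eval v).comp MvPolynomial.C = RingHom.id k := RingHom.ext fun c => by simp
    simp only [hC]
    exact ((hP _).symm.trans (hadd _ _)).trans (congrArg₂ (· + ·) (hP _) (hP _))
  have hmul : ∀ (T : Over (Sk k)) (x y : T ⟶ WittGrp.W p n (Sk k)), (x * y) ≫ f = (x ≫ f) * (y ≫ f) := by
    intro T x y
    refine WittGrp.pts_injective p _ ?_
    dsimp only
    rw [WittGrp.pts_mul, hnat, hnat, hnat, WittGrp.pts_mul]
    generalize WittGrp.pts p T (Additive.ofMul x) = u, WittGrp.pts p T (Additive.ofMul y) = w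
    let Φ : B →+* Γ(T.left, ⊤) := MvPolynomial.eval₂Hom (struct T) (Sum.elim (fun i => u.coeff i) fun i => w.coeff i)
    have hu : WittGrp.truncMap p n Φ xu = u := TruncatedWittVector.ext fun i => by simp [Φ, xu, B, TruncatedWittVector.coeff_mk]
    have hw : WittGrp.truncMap p n Φ yu = w := TruncatedWittVector.ext fun i => by simp [Φ, yu, B, TruncatedWittVector.coeff_mk]
    have h := congrArg (WittGrp.truncMap p m Φ) huniv
    rw [map_add, hcomp, hcomp, hcomp, map_add, hu, hw, MvPolynomial.eval₂Hom_comp_C] at h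
    exact h
  refine ⟨f, WittGrp.isMonHom_of_comp_mul f ?_ hmul, hact⟩
  have := hmul (𝟙_ (Over (Sk k))) 1 1
  rw [_root_.one_mul] at this
  exact left_eq_mul.mp this

end Groth.Agent.H27Witt
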