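import Groth.Prelude.Def_WittGrp
import Groth.Prelude.Def_AlgGrp
import Groth.Agent.H27Witt.KPts
import Mathlib

/-!
# Torsors under Witt groups over affine bases have sections
-/

set_option autoImplicit false
set_option linter.style.haveILetI false
universe u

open CategoryTheory CategoryTheory.Limits MonoidalCategory CartesianMonoidalCategory MonObj AlgebraicGeometry
open TensorProduct

noncomputable section

namespace Groth.Agent.H27Witt

section Amitsur

variable (B C : Type u) [CommRing B] [CommRing C] [Algebra B C]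

/-- `a ⊗ b ↦ a ⊗ b ⊗ 1` -/
abbrev f12 : C ⊗[B] C →ₐ[B] C ⊗[B] (C ⊗[B] C) :=
  Algebra.TensorProduct.map (AlgHom.id B C) Algebra.TensorProduct.includeLeft
/-- `a ⊗ b ↦ a ⊗ 1 ⊗ b` -/
abbrev f13 : C ⊗[B] C →ₐ[B] C ⊗[B] (C ⊗[B] C) :=
  Algebra.TensorProduct.map (AlgHom.id B C) Algebra.TensorProduct.includeRight
/-- `z ↦ 1 ⊗ z` -/
abbrev f23 : C ⊗[B] C →ₐ[B] C ⊗[B] (C ⊗[B] C) := Algebra.TensorProduct.includeRight

variable {B C}

theorem exists_amitsur_coboundary [Module.FaithfullyFlat B C] (d : C ⊗[B] C)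
    (hd : f12 B C d + f23 B C d = f13 B C d) : ∃ τ : C, (1 : C) ⊗ₜ[B] τ - τ ⊗ₜ[B] (1 : C) = d := by
  let δ : C →ₗ[B] C ⊗[B] C :=
    (Algebra.TensorProduct.includeRight : C →ₐ[B] C ⊗[B] C).toLinearMap -
      (Algebra.TensorProduct.includeLeft : C →ₐ[B] C ⊗[B] C).toLinearMap
  let M := (C ⊗[B] C) ⧸ LinearMap.range δ
  let q : C ⊗[B] C →ₗ[B] M := (LinearMap.range δ).mkQ
  have h : ∀ z : C ⊗[B] C, LinearMap.lTensor C q (f13 B C z - f12 B C z) = 0 := by
    intro z
    induction z using TensorProduct.induction_on with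
    | zero => simp
    | add x y hx hy => simp only [map_add, map_sub] at hx hy ⊢; linear_combination (norm := abel) hx + hy
    | tmul a b =>
      simp only [f13, f12, Algebra.TensorProduct.map_tmul, AlgHom.id_apply,
        Algebra.TensorProduct.includeLeft_apply, Algebra.TensorProduct.includeRight_apply, ← TensorProduct.tmul_sub,
        LinearMap.lTensor_tmul]
      rw [show q ((1 : C) ⊗ₜ[B] b - b ⊗ₜ[B] (1 : C)) = 0 from (Submodule.Quotient.mk_eq_zero _).mpr ⟨b, rfl⟩,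
        TensorProduct.tmul_zero]
  have h1 : (1 : C) ⊗ₜ[B] q d = 0 := by
    rw [← h d, ← hd, add_sub_cancel_left]
    rfl
  have h2 : q d = 0 := Module.FaithfullyFlat.tensorProduct_mk_injective (A := B) (B := C) M (by
    simpa using h1)
  obtain ⟨τ, hτ⟩ := (Submodule.Quotient.mk_eq_zero _).mp h2
  exact ⟨τ, hτ⟩

variable {p : ℕ} [hp : Fact p.Prime]

theorem exists_witt_coboundary [Module.FaithfullyFlat B C] : ∀ {n : ℕ} (d : TruncatedWittVector p n (C ⊗[B] C)),
    WittGrp.truncMap p n (f12 B C).toRingHom d + WittGrp.truncMap p n (f23 B C).toRingHom d =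
        WittGrp.truncMap p n (f13 B C).toRingHom d →
      ∃ τ : TruncatedWittVector p n C,
        WittGrp.truncMap p n (Algebra.TensorProduct.includeRight : C →ₐ[B] C ⊗[B] C).toRingHom τ -
          WittGrp.truncMap p n (Algebra.TensorProduct.includeLeft : C →ₐ[B] C ⊗[B] C).toRingHom τ = d
  | 0, d, _ => ⟨0, TruncatedWittVector.ext fun i => i.elim0⟩
  | n + 1, d, hd => by
    have hadd : ∀ {R : Type u} [CommRing R] (a b : TruncatedWittVector p (n + 1) R),
        (a + b).coeff 0 = a.coeff 0 + b.coeff 0 := by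
      intro R _ a b
      obtain ⟨A, rfl⟩ := WittVector.truncate_surjective p _ R a
      obtain ⟨A', rfl⟩ := WittVector.truncate_surjective p _ R b
      simp [← map_add, WittVector.coeff_truncate, WittVector.add_coeff_zero]
    have hsub : ∀ {R : Type u} [CommRing R] (a b : TruncatedWittVector p (n + 1) R),
        (a - b).coeff 0 = a.coeff 0 - b.coeff 0 := by
      intro R _ a b
      rw [eq_sub_iff_add_eq, ← hadd, sub_add_cancel]
    obtain ⟨τ₀, hτ₀⟩ := exists_amitsur_coboundary (d.coeff 0) (by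
      have := congrArg (TruncatedWittVector.coeff (0 : Fin (n + 1))) hd
      simpa [hadd] using this)
    let w : TruncatedWittVector p (n + 1) C := TruncatedWittVector.mk p fun i => if i = 0 then τ₀ else 0
    let iR := (Algebra.TensorProduct.includeRight : C →ₐ[B] C ⊗[B] C).toRingHom
    let iL := (Algebra.TensorProduct.includeLeft : C →ₐ[B] C ⊗[B] C).toRingHom
    let d' := d - (WittGrp.truncMap p (n + 1) iR w - WittGrp.truncMap p (n + 1) iL w)
    have hd0 : d'.coeff 0 = 0 := by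
      simp only [d', hsub, WittGrp.coeff_truncMap, w, TruncatedWittVector.coeff_mk, if_pos rfl]
      rw [sub_eq_zero]
      exact hτ₀.symm
    let e : TruncatedWittVector p n (C ⊗[B] C) := TruncatedWittVector.mk p fun i => d'.coeff i.succ
    have he : WittGrp.shift p (Nat.le_succ n) e = d' := TruncatedWittVector.ext fun i => by
      rw [WittGrp.coeff_shift]
      induction i using Fin.cases with
      | zero => rw [dif_neg (by simp), hd0]
      | succ i =>
        rw [dif_pos (by simp), TruncatedWittVector.coeff_mk]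
        exact congrArg (fun j => TruncatedWittVector.coeff (p := p) j d') (Fin.ext (by simp))
    have hinj : ∀ {R : Type u} [CommRing R], Function.Injective (WittGrp.shift p (Nat.le_succ n) (R := R)) := by
      intro R _ a b hab
      refine TruncatedWittVector.ext fun i => ?_
      have := congrArg (TruncatedWittVector.coeff i.succ) hab
      rw [WittGrp.coeff_shift, WittGrp.coeff_shift, dif_pos (by simp), dif_pos (by simp)] at this
      simpa using this
    have hcomp : ∀ (f : C ⊗[B] C →ₐ[B] C ⊗[B] (C ⊗[B] C)) (g : C →ₐ[B] C ⊗[B] C)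
        (x : TruncatedWittVector p (n + 1) C),
        WittGrp.truncMap p (n + 1) f.toRingHom (WittGrp.truncMap p (n + 1) g.toRingHom x) =
          WittGrp.truncMap p (n + 1) (f.comp g).toRingHom x := fun f g x => by
      rw [AlgHom.toRingHom_eq_coe, AlgHom.toRingHom_eq_coe, AlgHom.toRingHom_eq_coe, ← RingHom.comp_apply,
        ← WittGrp.truncMap_comp]
      rfl
    obtain ⟨σ, hσ⟩ := exists_witt_coboundary e (hinj (by
      rw [map_add, ← WittGrp.truncMap_shift, ← WittGrp.truncMap_shift, ← WittGrp.truncMap_shift, he]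
      simp only [d', iR, iL, map_sub, hcomp]
      have e1 : (f23 B C).comp (Algebra.TensorProduct.includeLeft) =
          (f12 B C).comp (Algebra.TensorProduct.includeRight : C →ₐ[B] C ⊗[B] C) := AlgHom.ext fun x => by simp
      have e2 : (f13 B C).comp (Algebra.TensorProduct.includeLeft) =
          (f12 B C).comp (Algebra.TensorProduct.includeLeft : C →ₐ[B] C ⊗[B] C) := AlgHom.ext fun x => by
        simp [Algebra.TensorProduct.one_def]
      have e3 : (f13 B C).comp (Algebra.TensorProduct.includeRight : C →ₐ[B] C ⊗[B] C) =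
          (f23 B C).comp (Algebra.TensorProduct.includeRight : C →ₐ[B] C ⊗[B] C) := AlgHom.ext fun x => by simp
      rw [e1, e2, e3, ← hd]
      abel))
    refine ⟨w + WittGrp.shift p (Nat.le_succ n) σ, ?_⟩
    rw [map_add, map_add, WittGrp.truncMap_shift, WittGrp.truncMap_shift, add_sub_add_comm, ← map_sub, hσ, he]
    simp only [d', iR, iL]
    abel

end Amitsur

section Section

variable {p : ℕ} [hp : Fact p.Prime] {S : Scheme.{u}} {n m : ℕ}

/-- Witt vector attached to a point with values in an affine scheme -/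
def specVal {R : CommRingCat.{u}} (g : Spec R ⟶ S) (x : Over.mk g ⟶ WittGrp.W p n S) : TruncatedWittVector p n R :=
  WittGrp.truncMap p n (Scheme.ΓSpecIso R).hom.hom (WittGrp.pts p (Over.mk g) (Additive.ofMul x))

theorem specVal_mul {R : CommRingCat.{u}} (g : Spec R ⟶ S) (x y : Over.mk g ⟶ WittGrp.W p n S) :
    specVal g (x * y) = specVal g x + specVal g y := by
  rw [specVal, WittGrp.pts_mul, map_add]
  rfl

theorem specVal_inv_mul {R : CommRingCat.{u}} (g : Spec R ⟶ S) (x y : Over.mk g ⟶ WittGrp.W p n S) :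
    specVal g (x⁻¹ * y) = specVal g y - specVal g x := by
  rw [eq_sub_iff_add_eq, ← specVal_mul, _root_.mul_comm, mul_inv_cancel_left]

theorem specVal_bijective {R : CommRingCat.{u}} (g : Spec R ⟶ S) :
    Function.Bijective (specVal (p := p) (n := n) g) := by
  have h : Function.Bijective (WittGrp.truncMap p n (Scheme.ΓSpecIso R).hom.hom) := by
    refine Function.bijective_iff_has_inverse.mpr ⟨WittGrp.truncMap p n (Scheme.ΓSpecIso R).inv.hom, ?_, ?_⟩
    · intro v
      rw [← RingHom.comp_apply, ← WittGrp.truncMap_comp, ← CommRingCat.hom_comp, Iso.hom_inv_id]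
      exact RingHom.congr_fun (WittGrp.truncMap_id p n) v
    · intro v
      rw [← RingHom.comp_apply, ← WittGrp.truncMap_comp, ← CommRingCat.hom_comp, Iso.inv_hom_id]
      exact RingHom.congr_fun (WittGrp.truncMap_id p n) v
  exact h.comp ((WittGrp.pts p (Over.mk g)).bijective.comp Additive.ofMul.bijective)

theorem specVal_comp {R R' : CommRingCat.{u}} (φ : R ⟶ R') {g : Spec R ⟶ S} {g' : Spec R' ⟶ S}
    (h : Over.mk g' ⟶ Over.mk g) (hh : h.left = Spec.map φ) (x : Over.mk g ⟶ WittGrp.W p n S) :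
    specVal g' (h ≫ x) = WittGrp.truncMap p n φ.hom (specVal g x) := by
  rw [specVal, specVal, WittGrp.pts_comp, ← RingHom.comp_apply, ← WittGrp.truncMap_comp,
    ← RingHom.comp_apply, ← WittGrp.truncMap_comp, hh, ← CommRingCat.hom_comp, ← CommRingCat.hom_comp,
    Scheme.ΓSpecIso_naturality]

/-- An extension of an affine scheme group by a Witt group has a section. -/
theorem exists_section {E Q : Over S} [GrpObj E] [IsCommMonObj E] [GrpObj Q] [IsAffine Q.left]
    [CompactSpace E.left] (i : WittGrp.W p n S ⟶ E) [IsMonHom i] [Mono i]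
    (π : E ⟶ Q) [IsMonHom π] [Surjective π.left] [Flat π.left] (hker : AlgGrp.IsKernel i π) :
    ∃ s : Q ⟶ E, s ≫ π = 𝟙 Q := by
  let 𝒰 : E.left.OpenCover := E.left.affineCover.finiteSubcover
  let C : CommRingCat.{u} := Γ(∐ 𝒰.X, ⊤)
  let u : Spec C ⟶ E.left := (∐ 𝒰.X).isoSpec.inv ≫ Sigma.desc 𝒰.f
  haveI : Flat u := inferInstanceAs (Flat ((∐ 𝒰.X).isoSpec.inv ≫ Sigma.desc 𝒰.f))
  haveI : Surjective u := inferInstanceAs (Surjective ((∐ 𝒰.X).isoSpec.inv ≫ Sigma.desc 𝒰.f))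
  let f : Spec C ⟶ Q.left := u ≫ π.left
  haveI : Flat f := inferInstanceAs (Flat (u ≫ π.left))
  haveI : Surjective f := inferInstanceAs (Surjective (u ≫ π.left))
  let B : CommRingCat.{u} := Γ(Q.left, ⊤)
  obtain ⟨φ, hφ⟩ := Spec.map_surjective (f ≫ Q.left.isoSpec.hom)
  letI : Algebra B C := φ.hom.toAlgebra
  haveI : Flat (Spec.map φ) := by rw [hφ]; infer_instance
  haveI : Surjective (Spec.map φ) := by rw [hφ]; infer_instance
  haveI : Module.Flat B C := (HasRingHomProperty.Spec_iff (P := @Flat)).mp (inferInstance : Flat (Spec.map φ))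
  haveI : Module.FaithfullyFlat B C :=
    Module.FaithfullyFlat.of_comap_surjective (inferInstance : Surjective (Spec.map φ)).surj
  let gY : Spec C ⟶ S := u ≫ E.hom
  let uo : Over.mk gY ⟶ E := Over.homMk u rfl
  let P : CommRingCat.{u} := CommRingCat.of (C ⊗[B] C)
  let T : CommRingCat.{u} := CommRingCat.of (C ⊗[B] (C ⊗[B] C))
  let a₁ : C ⟶ P := CommRingCat.ofHom (Algebra.TensorProduct.includeLeft : C →ₐ[B] C ⊗[B] C).toRingHom
  let a₂ : C ⟶ P := CommRingCat.ofHom (Algebra.TensorProduct.includeRight : C →ₐ[B] C ⊗[B] C).toRingHom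
  have hf : f ≫ Q.hom = gY := by
    simp only [f, gY, Category.assoc, Over.w π]
  have hfφ : f = Spec.map φ ≫ Q.left.isoSpec.inv := by rw [hφ, Category.assoc, Iso.hom_inv_id, Category.comp_id]
  have ha : φ ≫ a₁ = φ ≫ a₂ := CommRingCat.hom_ext (RingHom.ext fun b => by
    change (φ.hom b) ⊗ₜ[B] (1 : C) = (1 : C) ⊗ₜ[B] (φ.hom b)
    change (algebraMap B C b) ⊗ₜ[B] (1 : C) = (1 : C) ⊗ₜ[B] (algebraMap B C b)
    rw [Algebra.algebraMap_eq_smul_one, TensorProduct.smul_tmul])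
  have haf : Spec.map a₁ ≫ f = Spec.map a₂ ≫ f := by
    rw [hfφ, ← Spec.map_comp_assoc, ← Spec.map_comp_assoc, ha]
  let gP : Spec P ⟶ S := Spec.map a₁ ≫ gY
  let g₁ : Over.mk gP ⟶ Over.mk gY := Over.homMk (Spec.map a₁) rfl
  let g₂ : Over.mk gP ⟶ Over.mk gY := Over.homMk (Spec.map a₂) (by
    change Spec.map a₂ ≫ gY = Spec.map a₁ ≫ gY
    rw [← hf, ← Category.assoc, ← haf, Category.assoc])
  have hgπ : g₁ ≫ uo ≫ π = g₂ ≫ uo ≫ π := Over.OverMorphism.ext haf
  obtain ⟨x, hx, -⟩ : ∃ x : Over.mk gP ⟶ WittGrp.W p n S, x ≫ i = (g₁ ≫ uo)⁻¹ * (g₂ ≫ uo) ∧ True := by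
    have w : ((g₁ ≫ uo)⁻¹ * (g₂ ≫ uo)) ≫ π = toUnit _ ≫ η[Q] := by
      rw [MonObj.mul_comp, GrpObj.inv_comp, Category.assoc, Category.assoc, ← hgπ, inv_mul_cancel]
      exact Hom.one_def
    exact ⟨hker.lift _ (toUnit _) w, hker.lift_fst _ _ w, trivial⟩
  let b₁₂ : P ⟶ T := CommRingCat.ofHom (f12 B C).toRingHom
  let b₁₃ : P ⟶ T := CommRingCat.ofHom (f13 B C).toRingHom
  let b₂₃ : P ⟶ T := CommRingCat.ofHom (f23 B C).toRingHom
  have e1 : a₁ ≫ b₁₃ = a₁ ≫ b₁₂ := CommRingCat.hom_ext (RingHom.ext fun c => by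
    change f13 B C (c ⊗ₜ[B] (1 : C)) = f12 B C (c ⊗ₜ[B] (1 : C))
    simp [Algebra.TensorProduct.one_def])
  have e2 : a₁ ≫ b₂₃ = a₂ ≫ b₁₂ := CommRingCat.hom_ext (RingHom.ext fun c => by
    change f23 B C (c ⊗ₜ[B] (1 : C)) = f12 B C ((1 : C) ⊗ₜ[B] c)
    simp)
  have e3 : a₂ ≫ b₁₃ = a₂ ≫ b₂₃ := CommRingCat.hom_ext (RingHom.ext fun c => by
    change f13 B C ((1 : C) ⊗ₜ[B] c) = f23 B C ((1 : C) ⊗ₜ[B] c)
    simp)
  let gT : Spec T ⟶ S := Spec.map b₁₂ ≫ gP
  let q₁₂ : Over.mk gT ⟶ Over.mk gP := Over.homMk (Spec.map b₁₂) rfl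
  let q₁₃ : Over.mk gT ⟶ Over.mk gP := Over.homMk (Spec.map b₁₃) (by
    change Spec.map b₁₃ ≫ Spec.map a₁ ≫ gY = Spec.map b₁₂ ≫ Spec.map a₁ ≫ gY
    rw [← Spec.map_comp_assoc, ← Spec.map_comp_assoc, e1])
  let q₂₃ : Over.mk gT ⟶ Over.mk gP := Over.homMk (Spec.map b₂₃) (by
    change Spec.map b₂₃ ≫ Spec.map a₁ ≫ gY = Spec.map b₁₂ ≫ Spec.map a₁ ≫ gY
    rw [← Spec.map_comp_assoc, ← Spec.map_comp_assoc, e2, Spec.map_comp_assoc, Spec.map_comp_assoc,
      show Spec.map a₂ ≫ gY = Spec.map a₁ ≫ gY from Over.w g₂])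
  have r1 : q₁₃ ≫ g₁ = q₁₂ ≫ g₁ := Over.OverMorphism.ext (by
    change Spec.map b₁₃ ≫ Spec.map a₁ = Spec.map b₁₂ ≫ Spec.map a₁
    rw [← Spec.map_comp, ← Spec.map_comp, e1])
  have r2 : q₂₃ ≫ g₁ = q₁₂ ≫ g₂ := Over.OverMorphism.ext (by
    change Spec.map b₂₃ ≫ Spec.map a₁ = Spec.map b₁₂ ≫ Spec.map a₂
    rw [← Spec.map_comp, ← Spec.map_comp, e2])
  have r3 : q₁₃ ≫ g₂ = q₂₃ ≫ g₂ := Over.OverMorphism.ext (by
    change Spec.map b₁₃ ≫ Spec.map a₂ = Spec.map b₂₃ ≫ Spec.map a₂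
    rw [← Spec.map_comp, ← Spec.map_comp, e3])
  have hcoc : (q₁₂ ≫ x) * (q₂₃ ≫ x) = q₁₃ ≫ x := by
    rw [← cancel_mono i, MonObj.mul_comp]
    simp only [Category.assoc, hx, MonObj.comp_mul, GrpObj.comp_inv, reassoc_of% r1, reassoc_of% r2, reassoc_of% r3]
    rw [_root_.mul_assoc, mul_inv_cancel_left]
  have hval := congrArg (specVal gT) hcoc
  rw [specVal_mul, specVal_comp b₁₂ q₁₂ rfl, specVal_comp b₂₃ q₂₃ rfl, specVal_comp b₁₃ q₁₃ rfl] at hval
  obtain ⟨τ, hτ⟩ := exists_witt_coboundary (p := p) (B := B) (C := C) (specVal gP x) hval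
  obtain ⟨t, ht⟩ := (specVal_bijective (p := p) (n := n) gY).2 τ
  have hxt : x = (g₁ ≫ t)⁻¹ * (g₂ ≫ t) := (specVal_bijective gP).1 (by
    rw [specVal_inv_mul, specVal_comp a₂ g₂ rfl, specVal_comp a₁ g₁ rfl, ht]
    exact hτ.symm)
  let u' : Over.mk gY ⟶ E := uo * (t ≫ i)⁻¹
  have hu' : g₁ ≫ u' = g₂ ≫ u' := by
    have h2 : g₂ ≫ uo = (g₁ ≫ uo) * ((g₁ ≫ t ≫ i)⁻¹ * (g₂ ≫ t ≫ i)) := by
      have := hx
      rw [hxt, MonObj.mul_comp, GrpObj.inv_comp, Category.assoc, Category.assoc] at this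
      rw [this, mul_inv_cancel_left]
    simp only [u', MonObj.comp_mul, GrpObj.comp_inv, h2]
    rw [_root_.mul_assoc, _root_.mul_assoc, _root_.mul_inv_cancel, _root_.mul_one]
  have hdesc : ∀ {W : Scheme.{u}} (h₁ h₂ : W ⟶ Spec C), h₁ ≫ f = h₂ ≫ f → h₁ ≫ u'.left = h₂ ≫ u'.left := by
    intro W h₁ h₂ hh
    have hh' : h₁ ≫ Spec.map φ = h₂ ≫ Spec.map φ := by rw [hφ, ← Category.assoc, hh, Category.assoc]
    let l : W ⟶ Spec P := pullback.lift h₁ h₂ hh' ≫ (pullbackSpecIso B C C).hom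
    have l1 : l ≫ Spec.map a₁ = h₁ := by
      simp only [l, a₁, Category.assoc]
      exact (congrArg (pullback.lift h₁ h₂ hh' ≫ ·) (pullbackSpecIso_hom_fst' B C C)).trans (pullback.lift_fst _ _ _)
    have l2 : l ≫ Spec.map a₂ = h₂ := by
      simp only [l, a₂, Category.assoc]
      exact (congrArg (pullback.lift h₁ h₂ hh' ≫ ·) (pullbackSpecIso_hom_snd B C C)).trans (pullback.lift_snd _ _ _)
    rw [← l1, ← l2, Category.assoc, Category.assoc]
    exact congrArg (l ≫ ·) (congrArg Over.Hom.left hu')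
  let s₀ : Q.left ⟶ E.left := EffectiveEpi.desc f u'.left fun g h hh => hdesc g h hh
  have hs₀ : f ≫ s₀ = u'.left := EffectiveEpi.fac _ _ _
  have hw : s₀ ≫ E.hom = Q.hom := by
    rw [← cancel_epi f, ← Category.assoc, hs₀, hf]
    exact Over.w u'
  have hu'π : u' ≫ π = uo ≫ π := by
    rw [MonObj.mul_comp, GrpObj.inv_comp, Category.assoc, show i ≫ π = 1 by
      rw [hker.w]; exact Hom.one_def.symm, MonObj.comp_one, inv_one, _root_.mul_one]
  refine ⟨Over.homMk s₀ hw, Over.OverMorphism.ext ?_⟩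
  change s₀ ≫ π.left = 𝟙 _
  rw [← cancel_epi f, ← Category.assoc, hs₀, Category.comp_id]
  exact congrArg Over.Hom.left hu'π

end Section

end Groth.Agent.H27Witt
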