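import Groth.Prelude.Def_WittGrp
import Groth.Agent.S8226
import Mathlib

/-!
# Polynomial additive maps between truncated Witt vectors of an algebraically closed field
-/

set_option autoImplicit false
universe u

open WittVector MvPolynomial

noncomputable section

namespace Groth.Agent.H27Witt

variable {p : ℕ} [hp : Fact p.Prime] {k : Type u} [Field k] {n m r : ℕ}

/-- a map of truncated Witt vectors given by polynomials in the components -/
def IsAlgMap (φ : TruncatedWittVector p n k → TruncatedWittVector p m k) : Prop :=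
  ∃ P : TruncatedWittVector p m (MvPolynomial (Fin n) k),
    ∀ a, φ a = WittGrp.truncMap p m (MvPolynomial.eval fun j => a.coeff j) P

/-- the universal Witt vector -/
def univVec (p : ℕ) (n : ℕ) (k : Type u) [Field k] : TruncatedWittVector p n (MvPolynomial (Fin n) k) :=
  TruncatedWittVector.mk p fun i => MvPolynomial.X i

theorem truncMap_eval_univVec (a : TruncatedWittVector p n k) :
    WittGrp.truncMap p n (MvPolynomial.eval fun j => a.coeff j) (univVec p n k) = a :=
  TruncatedWittVector.ext fun i => by simp [univVec, TruncatedWittVector.coeff_mk]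

theorem IsAlgMap.of_coeff {φ : TruncatedWittVector p n k → TruncatedWittVector p m k}
    (P : Fin m → MvPolynomial (Fin n) k)
    (h : ∀ a i, (φ a).coeff i = MvPolynomial.eval (fun j => a.coeff j) (P i)) : IsAlgMap φ :=
  ⟨TruncatedWittVector.mk p P, fun a => TruncatedWittVector.ext fun i => by
    rw [WittGrp.coeff_truncMap, TruncatedWittVector.coeff_mk, h]⟩

theorem IsAlgMap.coeff_spec {φ : TruncatedWittVector p n k → TruncatedWittVector p m k} (h : IsAlgMap φ) :
    ∃ P : Fin m → MvPolynomial (Fin n) k,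
      ∀ a i, (φ a).coeff i = MvPolynomial.eval (fun j => a.coeff j) (P i) := by
  obtain ⟨P, hP⟩ := h
  exact ⟨fun i => P.coeff i, fun a i => by rw [hP, WittGrp.coeff_truncMap]⟩

theorem IsAlgMap.add {φ ψ : TruncatedWittVector p n k → TruncatedWittVector p m k}
    (hφ : IsAlgMap φ) (hψ : IsAlgMap ψ) : IsAlgMap fun a => φ a + ψ a := by
  obtain ⟨P, hP⟩ := hφ
  obtain ⟨Q, hQ⟩ := hψ
  exact ⟨P + Q, fun a => by rw [map_add, ← hP, ← hQ]⟩

theorem IsAlgMap.sub {φ ψ : TruncatedWittVector p n k → TruncatedWittVector p m k}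
    (hφ : IsAlgMap φ) (hψ : IsAlgMap ψ) : IsAlgMap fun a => φ a - ψ a := by
  obtain ⟨P, hP⟩ := hφ
  obtain ⟨Q, hQ⟩ := hψ
  exact ⟨P - Q, fun a => by rw [map_sub, ← hP, ← hQ]⟩

theorem IsAlgMap.comp {φ : TruncatedWittVector p n k → TruncatedWittVector p m k}
    {ψ : TruncatedWittVector p m k → TruncatedWittVector p r k}
    (hψ : IsAlgMap ψ) (hφ : IsAlgMap φ) : IsAlgMap fun a => ψ (φ a) := by
  obtain ⟨P, hP⟩ := hφ.coeff_spec
  obtain ⟨Q, hQ⟩ := hψ.coeff_spec
  refine IsAlgMap.of_coeff (fun i => MvPolynomial.bind₁ P (Q i)) fun a i => ?_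
  rw [hQ]
  simp only [hP]
  exact (MvPolynomial.eval₂Hom_bind₁ (RingHom.id k) (fun j => a.coeff j) P (Q i)).symm

theorem isAlgMap_const (c : TruncatedWittVector p m k) :
    IsAlgMap fun _ : TruncatedWittVector p n k => c :=
  IsAlgMap.of_coeff (fun i => MvPolynomial.C (c.coeff i)) fun a i => by simp

theorem isAlgMap_mul (c : TruncatedWittVector p n k) :
    IsAlgMap fun a : TruncatedWittVector p n k => c * a := by
  refine ⟨WittGrp.truncMap p n MvPolynomial.C c * univVec p n k, fun a => ?_⟩
  have hc : WittGrp.truncMap p n (MvPolynomial.eval fun j => a.coeff j)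
      (WittGrp.truncMap p n MvPolynomial.C c) = c :=
    TruncatedWittVector.ext fun i => by simp
  rw [map_mul, truncMap_eval_univVec, hc]

theorem isAlgMap_frob (hk : (p : k) = 0) :
    IsAlgMap (WittGrp.frob p n (R := k) hk) :=
  IsAlgMap.of_coeff (fun i => MvPolynomial.X i ^ p) fun a i => by simp

theorem isAlgMap_truncate (h : r ≤ n) :
    IsAlgMap (TruncatedWittVector.truncate h : TruncatedWittVector p n k →+* TruncatedWittVector p r k) :=
  IsAlgMap.of_coeff (fun i => MvPolynomial.X (Fin.castLE h i)) fun a i => by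
    simp [TruncatedWittVector.coeff_truncate]

theorem isAlgMap_shift (h : r ≤ n) : IsAlgMap (WittGrp.shift p h (R := k)) :=
  IsAlgMap.of_coeff
    (fun i => if hi : n - r ≤ (i : ℕ) then MvPolynomial.X ⟨i - (n - r), by omega⟩ else 0) fun a i => by
    rw [WittGrp.coeff_shift]
    split_ifs <;> simp

/-- zeros at the end -/
def padEnd (x : TruncatedWittVector p r k) : TruncatedWittVector p n k :=
  TruncatedWittVector.mk p fun i => if h : (i : ℕ) < r then x.coeff ⟨i, h⟩ else 0

theorem isAlgMap_padEnd : IsAlgMap (padEnd : TruncatedWittVector p r k → TruncatedWittVector p n k) :=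
  IsAlgMap.of_coeff (fun i => if h : (i : ℕ) < r then MvPolynomial.X ⟨i, h⟩ else 0) fun a i => by
    rw [padEnd, TruncatedWittVector.coeff_mk]
    split_ifs <;> simp

theorem truncate_padEnd (h : r ≤ n) (x : TruncatedWittVector p r k) :
    TruncatedWittVector.truncate h (padEnd x : TruncatedWittVector p n k) = x :=
  TruncatedWittVector.ext fun i => by
    rw [TruncatedWittVector.coeff_truncate, padEnd, TruncatedWittVector.coeff_mk,
      dif_pos (show ((Fin.castLE h i : Fin n) : ℕ) < r from i.2)]
    rfl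

/-- delete the first `n - r` components -/
def unshift (h : r ≤ n) (x : TruncatedWittVector p n k) : TruncatedWittVector p r k :=
  TruncatedWittVector.mk p fun i => x.coeff ⟨i + (n - r), by omega⟩

theorem isAlgMap_unshift (h : r ≤ n) : IsAlgMap (unshift h : TruncatedWittVector p n k → _) :=
  IsAlgMap.of_coeff (fun i => MvPolynomial.X ⟨i + (n - r), by omega⟩) fun a i => by
    simp [unshift, TruncatedWittVector.coeff_mk]

theorem unshift_shift (h : r ≤ n) (x : TruncatedWittVector p r k) :
    unshift h (WittGrp.shift p h x) = x :=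
  TruncatedWittVector.ext fun i => by
    rw [unshift, TruncatedWittVector.coeff_mk, WittGrp.coeff_shift, dif_pos (by simp)]
    exact congrArg (fun j : Fin r => x.coeff j) (Fin.ext (by simp))

theorem shift_injective' (h : r ≤ n) : Function.Injective (WittGrp.shift p h (R := k)) :=
  Function.LeftInverse.injective (unshift_shift h)

theorem shift_unshift (h : r ≤ n) (x : TruncatedWittVector p n k)
    (h0 : ∀ i : Fin n, (i : ℕ) < n - r → x.coeff i = 0) : WittGrp.shift p h (unshift h x) = x :=
  TruncatedWittVector.ext fun i => by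
    rw [WittGrp.coeff_shift]
    split_ifs with hi
    · rw [unshift, TruncatedWittVector.coeff_mk]
      exact congrArg (fun j : Fin n => x.coeff j) (Fin.ext (by simp; omega))
    · exact (h0 i (by omega)).symm

section CharP

variable [CharP k p]

theorem pow_nsmul_eq_zero (h : n ≤ r) (x : TruncatedWittVector p n k) : p ^ r • x = 0 := by
  obtain ⟨X, rfl⟩ := WittVector.truncate_surjective p n k x
  rw [← map_nsmul, ← RingHom.mem_ker, WittVector.mem_ker_truncate]
  intro i hi
  rw [nsmul_eq_mul, mul_comm, Nat.cast_pow]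
  exact WittVector.mul_pow_charP_coeff_zero _ (by omega)

theorem coeff_nsmul_prime_succ (x : TruncatedWittVector p n k) (i : Fin n) (hi : (i : ℕ) + 1 < n) :
    (p • x).coeff ⟨i + 1, hi⟩ = x.coeff i ^ p := by
  obtain ⟨X, rfl⟩ := WittVector.truncate_surjective p n k x
  rw [← map_nsmul, WittVector.coeff_truncate, WittVector.coeff_truncate, nsmul_eq_mul, mul_comm]
  exact WittVector.mul_charP_coeff_succ _ _

variable [PerfectRing k p]

theorem eq_pow_nsmul {x : WittVector p k} (h : ∀ i < r, x.coeff i = 0) : ∃ z, x = p ^ r • z := by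
  obtain ⟨z, hz⟩ := Ideal.mem_span_singleton.mp ((WittVector.mem_span_p_pow_iff_le_coeff_eq_zero x r).mpr h)
  exact ⟨z, by rw [hz, nsmul_eq_mul, Nat.cast_pow]⟩

/-- a homomorphism whose values are killed by `p^r` only depends on the first `r` components -/
theorem map_padEnd_truncate {G : Type*} [AddCommGroup G] (h : r ≤ n) (φ : TruncatedWittVector p n k →+ G)
    (hφ : ∀ z, p ^ r • φ z = 0) (x y : TruncatedWittVector p n k)
    (hxy : TruncatedWittVector.truncate h x = TruncatedWittVector.truncate h y) : φ x = φ y := by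
  obtain ⟨E, hE⟩ := WittVector.truncate_surjective p n k (x - y)
  have h0 : ∀ i < r, E.coeff i = 0 := by
    rw [← WittVector.mem_ker_truncate, RingHom.mem_ker,
      ← TruncatedWittVector.truncate_wittVector_truncate h, hE, map_sub, hxy, sub_self]
  obtain ⟨Z, rfl⟩ := eq_pow_nsmul h0
  rw [← sub_eq_zero, ← map_sub, ← hE, map_nsmul, map_nsmul]
  exact hφ _

/-- factorization through the restriction -/
theorem exists_factor_truncate {G : Type*} [AddCommGroup G] (h : r ≤ n) (φ : TruncatedWittVector p n k →+ G)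
    (hφ : ∀ z, p ^ r • φ z = 0) :
    ∃ ψ : TruncatedWittVector p r k →+ G,
      (∀ y, ψ y = φ (padEnd y)) ∧ ∀ x, ψ (TruncatedWittVector.truncate h x) = φ x := by
  refine ⟨AddMonoidHom.mk' (fun y => φ (padEnd y)) fun a b => ?_, fun y => rfl, fun x => ?_⟩
  · rw [← map_add]
    exact map_padEnd_truncate h φ hφ _ _ (by simp only [map_add, truncate_padEnd])
  · exact map_padEnd_truncate h φ hφ _ _ (by rw [truncate_padEnd])

end CharP

/-! ### Endomorphisms of `W(k)` that are defined at every level -/

section Gen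

variable [CharP k p]

/-- the endomorphisms generated by constants, Frobenius and Verschiebung -/
inductive Gen : (WittVector p k →+ WittVector p k) → Prop
  | mul (c : WittVector p k) : Gen (AddMonoidHom.mulLeft c)
  | frob : Gen (WittVector.frobenius : WittVector p k →+* WittVector p k).toAddMonoidHom
  | ver : Gen (WittVector.verschiebung : WittVector p k →+ WittVector p k)
  | zero : Gen 0
  | add {Φ Ψ} : Gen Φ → Gen Ψ → Gen (Φ + Ψ)
  | comp {Φ Ψ} : Gen Φ → Gen Ψ → Gen (Φ.comp Ψ)

theorem Gen.exists_level {Φ : WittVector p k →+ WittVector p k} (hΦ : Gen Φ) (N : ℕ) :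
    ∃ φ : TruncatedWittVector p N k →+ TruncatedWittVector p N k, IsAlgMap φ ∧
      ∀ X, WittVector.truncate N (Φ X) = φ (WittVector.truncate N X) := by
  induction hΦ with
  | mul c => exact ⟨AddMonoidHom.mulLeft (WittVector.truncate N c), isAlgMap_mul _, fun X => map_mul _ _ _⟩
  | frob =>
    have hk : (p : k) = 0 := CharP.cast_eq_zero k p
    exact ⟨(WittGrp.frob p N (R := k) hk).toAddMonoidHom, isAlgMap_frob hk,
      fun X => (WittGrp.frob_truncate p N hk X).symm⟩
  | ver =>
    refine ⟨(TruncatedWittVector.truncate (Nat.le_succ N) : TruncatedWittVector p (N + 1) k →+* _).toAddMonoidHom.comp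
      (WittGrp.shift p (Nat.le_succ N)), (isAlgMap_truncate (Nat.le_succ N)).comp (isAlgMap_shift _), fun X => ?_⟩
    change _ = TruncatedWittVector.truncate (Nat.le_succ N) (WittGrp.shift p (Nat.le_succ N) _)
    rw [WittGrp.shift_truncate, TruncatedWittVector.truncate_wittVector_truncate,
      show N.succ - N = 1 by omega, Function.iterate_one]
  | zero => exact ⟨0, isAlgMap_const 0, fun X => map_zero _⟩
  | add _ _ ih₁ ih₂ =>
    obtain ⟨φ, hφ, e⟩ := ih₁
    obtain ⟨ψ, hψ, e'⟩ := ih₂
    exact ⟨φ + ψ, hφ.add hψ, fun X => by simp [e, e']⟩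
  | comp _ _ ih₁ ih₂ =>
    obtain ⟨φ, hφ, e⟩ := ih₁
    obtain ⟨ψ, hψ, e'⟩ := ih₂
    exact ⟨φ.comp ψ, hφ.comp hψ, fun X => by simp [e, e']⟩

variable [PerfectRing k p]

/-- moving an endomorphism across the Verschiebung -/
theorem Gen.exists_comm_ver {Φ : WittVector p k →+ WittVector p k} (hΦ : Gen Φ) :
    ∃ Φ', Gen Φ' ∧ ∀ X, Φ' (WittVector.verschiebung X) = WittVector.verschiebung (Φ X) := by
  induction hΦ with
  | mul c =>
    obtain ⟨d, rfl⟩ := (WittVector.frobenius_bijective p k).2 c
    refine ⟨_, .mul d, fun X => ?_⟩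
    change d * _ = WittVector.verschiebung (WittVector.frobenius d * X)
    rw [mul_comm, ← WittVector.verschiebung_mul_frobenius, mul_comm X]
  | frob => exact ⟨_, .frob, fun X => (WittVector.verschiebung_frobenius_comm X).symm⟩
  | ver => exact ⟨_, .ver, fun X => rfl⟩
  | zero => exact ⟨0, .zero, fun X => by simp⟩
  | add _ _ ih₁ ih₂ =>
    obtain ⟨φ, hφ, e⟩ := ih₁
    obtain ⟨ψ, hψ, e'⟩ := ih₂
    exact ⟨φ + ψ, hφ.add hψ, fun X => by simp [e, e']⟩
  | comp _ _ ih₁ ih₂ =>
    obtain ⟨φ, hφ, e⟩ := ih₁
    obtain ⟨ψ, hψ, e'⟩ := ih₂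
    exact ⟨φ.comp ψ, hφ.comp hψ, fun X => by simp [e, e']⟩

end Gen

/-- exponents of an additive polynomial over an infinite field of characteristic `p` -/
theorem additive_exponent [CharP k p] [Infinite k] (P : Polynomial k)
    (hP : ∀ s t, P.eval (s + t) = P.eval s + P.eval t) {N : ℕ} (hN : P.coeff N ≠ 0) :
    ∃ v, N = p ^ v := by
  have h0 : P.coeff 0 = 0 := by
    have := hP 0 0
    rw [add_zero, left_eq_add] at this
    rwa [Polynomial.coeff_zero_eq_eval_zero]
  refine Groth.Agent.S8226.exponent_eq_pow (k := k) p (fun h => hN (h ▸ h0)) fun j hj hjN => ?_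
  have hd : Polynomial.hasseDeriv j P = Polynomial.C (P.coeff j) := by
    refine Polynomial.funext fun y => ?_
    rw [← Polynomial.taylor_coeff, Polynomial.eval_C]
    have : Polynomial.taylor y P = P + Polynomial.C (P.eval y) :=
      Polynomial.funext fun x => by simp [Polynomial.taylor_eval, hP]
    rw [this, Polynomial.coeff_add, Polynomial.coeff_C, if_neg hj.ne', add_zero]
  have := congrArg (fun Q => Polynomial.coeff Q (N - j)) hd
  simp only [Polynomial.hasseDeriv_coeff, Nat.sub_add_cancel hjN.le, Polynomial.coeff_C,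
    if_neg (show N - j ≠ 0 by omega)] at this
  exact (mul_eq_zero.mp this).resolve_right hN

theorem iterate_frobenius_coeff_zero [CharP k p] (v : ℕ) (X : WittVector p k) :
    ((WittVector.frobenius)^[v] X).coeff 0 = X.coeff 0 ^ p ^ v :=
  WittVector.iterate_frobenius_coeff X v 0

theorem gen_iterate_frobenius [CharP k p] (v : ℕ) :
    ∃ Φ : WittVector p k →+ WittVector p k, Gen Φ ∧ ∀ X, Φ X = (WittVector.frobenius)^[v] X := by
  induction v with
  | zero => exact ⟨_, .mul 1, fun X => one_mul X⟩
  | succ v ih =>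
    obtain ⟨Φ, hΦ, e⟩ := ih
    exact ⟨_, Gen.comp .frob hΦ, fun X => by rw [Function.iterate_succ_apply', ← e]; rfl⟩

theorem exists_gen_coeff_zero [CharP k p] [Infinite k] (P : Polynomial k)
    (hP : ∀ s t, P.eval (s + t) = P.eval s + P.eval t) :
    ∃ Φ : WittVector p k →+ WittVector p k, Gen Φ ∧ ∀ X, (Φ X).coeff 0 = P.eval (X.coeff 0) := by
  classical
  suffices h : ∀ s : Finset ℕ, (∀ N ∈ s, P.coeff N ≠ 0) → ∃ Φ : WittVector p k →+ WittVector p k,
      Gen Φ ∧ ∀ X, (Φ X).coeff 0 = ∑ N ∈ s, P.coeff N * X.coeff 0 ^ N by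
    obtain ⟨Φ, hΦ, e⟩ := h P.support fun N hN => Polynomial.mem_support_iff.mp hN
    exact ⟨Φ, hΦ, fun X => by rw [e, Polynomial.eval_eq_sum, Polynomial.sum_def]⟩
  intro s
  induction s using Finset.induction with
  | empty => exact fun _ => ⟨0, .zero, fun X => by simp⟩
  | insert N s hN ih =>
    intro hs
    obtain ⟨Φ, hΦ, e⟩ := ih fun M hM => hs M (Finset.mem_insert_of_mem hM)
    obtain ⟨v, hv⟩ := additive_exponent (p := p) P hP (hs N (Finset.mem_insert_self N s))
    obtain ⟨F, hF, eF⟩ := gen_iterate_frobenius (p := p) (k := k) v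
    refine ⟨_, Gen.add (Gen.comp (.mul (WittVector.teichmuller p (P.coeff N))) hF) hΦ, fun X => ?_⟩
    rw [AddMonoidHom.add_apply, WittVector.add_coeff_zero, e, Finset.sum_insert hN, AddMonoidHom.comp_apply, eF]
    change (_ * _ : WittVector p k).coeff 0 + _ = _
    rw [WittVector.mul_coeff_zero, WittVector.teichmuller_coeff_zero, iterate_frobenius_coeff_zero, hv]

theorem coeff_zero_add (a b : TruncatedWittVector p (n + 1) k) :
    (a + b).coeff 0 = a.coeff 0 + b.coeff 0 := by
  obtain ⟨A, rfl⟩ := WittVector.truncate_surjective p _ k a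
  obtain ⟨B, rfl⟩ := WittVector.truncate_surjective p _ k b
  simp [← map_add, WittVector.coeff_truncate, WittVector.add_coeff_zero]

theorem coeff_zero_sub (a b : TruncatedWittVector p (n + 1) k) :
    (a - b).coeff 0 = a.coeff 0 - b.coeff 0 := by
  rw [eq_sub_iff_add_eq, ← coeff_zero_add, sub_add_cancel]

/-- every algebraic endomorphism of `W_n(k)` comes from an endomorphism of `W(k)` defined at every level -/
theorem exists_gen [CharP k p] [IsAlgClosed k] : ∀ {n : ℕ}
    (φ : TruncatedWittVector p n k →+ TruncatedWittVector p n k), IsAlgMap φ →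
      ∃ Φ : WittVector p k →+ WittVector p k, Gen Φ ∧
        ∀ X, WittVector.truncate n (Φ X) = φ (WittVector.truncate n X)
  | 0, φ, _ => ⟨0, .zero, fun X => TruncatedWittVector.ext fun i => i.elim0⟩
  | n + 1, φ, hφ => by
    classical
    have h1 : (1 : ℕ) ≤ n + 1 := Nat.le_add_left 1 n
    obtain ⟨α, hα, eα⟩ := exists_factor_truncate h1
      ((TruncatedWittVector.truncate h1 : TruncatedWittVector p (n + 1) k →+* _).toAddMonoidHom.comp φ)
      fun z => pow_nsmul_eq_zero le_rfl _
    obtain ⟨P, hP⟩ := hφ.coeff_spec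
    let Q : Polynomial k := MvPolynomial.aeval (fun j => if j = 0 then Polynomial.X else 0) (P 0)
    have hQ : ∀ t : k, Q.eval t = (α (TruncatedWittVector.mk p fun _ => t)).coeff 0 := by
      intro t
      rw [hα]
      change _ = (TruncatedWittVector.truncate h1 (φ _)).coeff 0
      rw [TruncatedWittVector.coeff_truncate, show Fin.castLE h1 (0 : Fin 1) = 0 from rfl, hP,
        ← Polynomial.coe_evalRingHom]
      simp only [Q, MvPolynomial.aeval_def, MvPolynomial.eval₂_comp_left]
      refine congrArg₂ (fun f g => MvPolynomial.eval₂ f g (P 0)) ?_ (funext fun j => ?_)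
      · exact RingHom.ext fun c => by simp
      · by_cases hj : j = 0
        · subst hj
          simp [padEnd, TruncatedWittVector.coeff_mk]
        · have : ¬ (j : ℕ) < 1 := fun h => hj (Fin.ext (Nat.lt_one_iff.mp h))
          simp [padEnd, TruncatedWittVector.coeff_mk, hj, this]
    have hadd : ∀ s t, Q.eval (s + t) = Q.eval s + Q.eval t := by
      intro s t
      rw [hQ, hQ, hQ, ← coeff_zero_add, ← map_add]
      congr 2
      refine TruncatedWittVector.ext fun i => ?_
      rw [Subsingleton.elim i 0, coeff_zero_add]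
      simp [TruncatedWittVector.coeff_mk]
    obtain ⟨Ψ, hΨ, eΨ⟩ := exists_gen_coeff_zero (p := p) Q hadd
    obtain ⟨ψ, hψ, eψ⟩ := hΨ.exists_level (n + 1)
    have hzero : ∀ x, (φ x - ψ x).coeff 0 = 0 := by
      intro x
      obtain ⟨X, rfl⟩ := WittVector.truncate_surjective p (n + 1) k x
      rw [coeff_zero_sub, sub_eq_zero, ← eψ, WittVector.coeff_truncate, Fin.val_zero, eΨ, hQ]
      have he : (TruncatedWittVector.mk p fun _ => X.coeff 0 : TruncatedWittVector p 1 k) =
          TruncatedWittVector.truncate h1 (WittVector.truncate (n + 1) X) :=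
        TruncatedWittVector.ext fun i => by
          rw [Subsingleton.elim i 0]
          simp [TruncatedWittVector.coeff_mk, TruncatedWittVector.coeff_truncate]
      rw [he, eα]
      change _ = (TruncatedWittVector.truncate h1 (φ _)).coeff 0
      rw [TruncatedWittVector.coeff_truncate]
      rfl
    have hsh : ∀ x, WittGrp.shift p (Nat.le_succ n) (unshift (Nat.le_succ n) (φ x - ψ x)) = φ x - ψ x :=
      fun x => shift_unshift _ _ fun i hi => by
        obtain rfl : i = 0 := Fin.ext (by simp only [Fin.val_zero]; change (i : ℕ) < n + 1 - n at hi; omega)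
        exact hzero x
    let δ : TruncatedWittVector p (n + 1) k →+ TruncatedWittVector p n k :=
      AddMonoidHom.mk' (fun x => unshift (Nat.le_succ n) (φ x - ψ x)) fun a b =>
        shift_injective' (Nat.le_succ n) (by
          rw [map_add (WittGrp.shift p (Nat.le_succ n)), hsh, hsh, hsh, map_add, map_add]
          abel)
    obtain ⟨χ, hχ, eχ⟩ := exists_factor_truncate (Nat.le_succ n) δ fun z => pow_nsmul_eq_zero le_rfl _
    have hχalg : IsAlgMap χ := by
      rw [show (χ : TruncatedWittVector p n k → _) = fun y => δ (padEnd y) from funext hχ]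
      exact ((isAlgMap_unshift (Nat.le_succ n)).comp (hφ.sub hψ)).comp isAlgMap_padEnd
    obtain ⟨Φ, hΦ, eΦ⟩ := exists_gen χ hχalg
    refine ⟨_, hΨ.add (Gen.comp .ver hΦ), fun X => ?_⟩
    rw [AddMonoidHom.add_apply, map_add, eψ, AddMonoidHom.comp_apply]
    have hv : WittVector.truncate (n + 1) (WittVector.verschiebung (Φ X)) =
        WittGrp.shift p (Nat.le_succ n) (WittVector.truncate n (Φ X)) := by
      rw [WittGrp.shift_truncate, show n.succ - n = 1 by omega, Function.iterate_one]
    rw [hv, eΦ, ← TruncatedWittVector.truncate_wittVector_truncate (Nat.le_succ n), eχ]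
    have hd : ∀ x, WittGrp.shift p (Nat.le_succ n) (δ x) = φ x - ψ x := hsh
    rw [hd]
    exact add_sub_cancel _ _

end Groth.Agent.H27Witt
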