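import Groth.Agent.H27Witt.Trans
import Mathlib

/-!
# A power of multiplication by `p` factors through characters
-/

set_option autoImplicit false
set_option linter.style.haveILetI false
universe u

open CategoryTheory MonoidalCategory CartesianMonoidalCategory MonObj AlgebraicGeometry

noncomputable section

namespace Groth.Agent.H27Witt.Fn

variable {k : Type u} [Field k]

/-- multiplicative functions -/
def IsChar {G : Over (Sk k)} [GrpObj G] (g : Fn G) : Prop :=
  ev 1 g = 1 ∧ ∀ x y : T0 k ⟶ G, ev (x * y) g = ev x g * ev y g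

theorem sub_C_pow_char_pow (p : ℕ) [Fact p.Prime] [CharP k p] {E : Type*} [Ring E] [Algebra k E] (f : E) (c : k)
    (N : ℕ) : (f - algebraMap k E c) ^ p ^ N = f ^ p ^ N - algebraMap k E (c ^ p ^ N) := by
  have h := congrArg (Polynomial.aeval f) (sub_pow_char_pow (Polynomial.X : Polynomial k) (Polynomial.C c) (p := p) (n := N))
  simp only [map_pow, map_sub, Polynomial.aeval_X, Polynomial.aeval_C] at h
  rw [h, map_pow]

variable [IsAlgClosed k]

theorem exists_characters (p : ℕ) [Fact p.Prime] [CharP k p] (G : Over (Sk k)) [GrpObj G] [IsCommMonObj G]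
    [Smooth G.hom] [IsAffine G.left] :
    ∃ (N : ℕ) (F : Finset (Fn G)), (∀ g ∈ F, IsChar g ∧ g ∈ (pull ((𝟙 G) ^ p ^ N)).range) ∧
      (pull ((𝟙 G) ^ p ^ N)).range ≤ Algebra.adjoin k (F : Set (Fn G)) := by
  classical
  obtain ⟨V, hV, hgen, hstab⟩ := exists_stable (G := G)
  obtain ⟨N, hN⟩ : ∃ N, Module.finrank k V ≤ p ^ N :=
    ⟨_, (Nat.lt_pow_self (Fact.out : p.Prime).one_lt).le⟩
  let pw : G ⟶ G := (𝟙 G) ^ p ^ N
  have hpw : ∀ (x : T0 k ⟶ G) (a : Fn G), ev x (pull pw a) = ev (x ^ p ^ N) a := fun x a => by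
    rw [ev_pull, MonObj.comp_pow, Category.comp_id]
  let ρ : (T0 k ⟶ G) → Module.End k V := fun x => (R x).toLinearMap.restrict (hstab x)
  have hρ : ∀ (x y : T0 k ⟶ G), ρ (x * y) = ρ x * ρ y := fun x y => by
    refine LinearMap.ext fun v => Subtype.ext ?_
    change R (x * y) (v : Fn G) = R x (R y (v : Fn G))
    rw [R_mul, AlgHom.comp_apply]
  have hρ1 : ρ 1 = 1 := by
    refine LinearMap.ext fun v => Subtype.ext ?_
    change R 1 (v : Fn G) = (v : Fn G)
    rw [R_one, AlgHom.id_apply]
  let ρh : (T0 k ⟶ G) →* Module.End k V := ⟨⟨ρ, hρ1⟩, hρ⟩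
  have hcomm : ∀ x y, Commute (ρ x) (ρ y) := fun x y => by
    rw [Commute, SemiconjBy, ← hρ, ← hρ, _root_.mul_comm]
  have hsup := Module.End.iSup_iInf_maxGenEigenspace_eq_top_of_forall_mapsTo ρ
    (fun i j φ => Module.End.mapsTo_maxGenEigenspace_of_comm (hcomm j i) φ)
    (fun i => Module.End.iSup_maxGenEigenspace_eq_top (ρ i))
  -- the images of generators are combinations of multiplicative functions
  let S : Set (Fn G) := {g | IsChar g ∧ g ∈ (pull pw).range}
  have hkey : ∀ v : V, pull pw (v : Fn G) ∈ Submodule.span k S := by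
    intro v
    have hv : v ∈ ⨆ χ : (T0 k ⟶ G) → k, ⨅ i, (ρ i).maxGenEigenspace (χ i) := by rw [hsup]; trivial
    induction hv using Submodule.iSup_induction' with
    | mem χ v hv =>
      rw [Submodule.mem_iInf] at hv
      have heig : ∀ x, R (x ^ p ^ N) (v : Fn G) = χ x ^ p ^ N • (v : Fn G) := by
        intro x
        have h1 := hv x
        rw [Module.End.maxGenEigenspace_eq_genEigenspace_finrank, Module.End.mem_genEigenspace_nat,
          LinearMap.mem_ker] at h1
        have h2 : ((ρ x - χ x • 1) ^ p ^ N) v = 0 := by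
          rw [← Nat.sub_add_cancel hN, pow_add, Module.End.mul_apply, h1, map_zero]
        rw [← Algebra.algebraMap_eq_smul_one] at h2
        erw [sub_C_pow_char_pow p (ρ x) (χ x) N] at h2
        rw [LinearMap.sub_apply, sub_eq_zero] at h2
        have h3 : ρ x ^ p ^ N = ρ (x ^ p ^ N) := (map_pow ρh x _).symm
        rw [h3] at h2
        exact congrArg Subtype.val h2
      have hval : ∀ x, ev x (pull pw (v : Fn G)) = χ x ^ p ^ N * ev 1 (v : Fn G) := fun x => by
        rw [hpw, ← ev_one_R, heig, map_smul, smul_eq_mul]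
      by_cases hc : ev (1 : T0 k ⟶ G) (v : Fn G) = 0
      · rw [show pull pw (v : Fn G) = 0 from ext_points fun x => by rw [hval, hc, mul_zero, map_zero]]
        exact zero_mem _
      · have hu : (ev (1 : T0 k ⟶ G) (v : Fn G))⁻¹ • pull pw (v : Fn G) ∈ S := by
          have hval' : ∀ x, ev x ((ev (1 : T0 k ⟶ G) (v : Fn G))⁻¹ • pull pw (v : Fn G)) = χ x ^ p ^ N := fun x => by
            rw [map_smul, hval, smul_eq_mul, mul_comm (χ x ^ p ^ N), ← _root_.mul_assoc, inv_mul_cancel₀ hc,
              _root_.one_mul]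
          have hmul : ∀ x y, χ (x * y) ^ p ^ N = χ x ^ p ^ N * χ y ^ p ^ N := fun x y => by
            have h4 := congrArg (ev (1 : T0 k ⟶ G)) (heig (x * y))
            rw [_root_.mul_pow, R_mul, AlgHom.comp_apply, heig, map_smul, heig, map_smul, map_smul, map_smul] at h4
            simp only [smul_eq_mul] at h4
            refine mul_right_cancel₀ hc ?_
            rw [← h4]; ring
          refine ⟨⟨?_, fun x y => by rw [hval', hval', hval', hmul]⟩, ?_⟩
          · rw [map_smul, hpw, one_pow, smul_eq_mul, inv_mul_cancel₀ hc]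
          · exact (AlgHom.mem_range _).mpr ⟨(ev (1 : T0 k ⟶ G) (v : Fn G))⁻¹ • (v : Fn G), map_smul _ _ _⟩
        have h5 := Submodule.smul_mem _ (ev (1 : T0 k ⟶ G) (v : Fn G)) (Submodule.subset_span hu)
        rwa [smul_smul, mul_inv_cancel₀ hc, one_smul] at h5
    | zero => rw [Submodule.coe_zero, map_zero]; exact zero_mem _
    | add a b _ _ ha hb => rw [Submodule.coe_add, map_add]; exact add_mem ha hb
  -- finitely many of them suffice
  let B := Module.finBasis k V
  choose T hTS hT using fun i => Submodule.mem_span_finite_of_mem_span (hkey (B i))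
  refine ⟨N, Finset.univ.biUnion T, fun g hg => ?_, ?_⟩
  · obtain ⟨i, -, hi⟩ := Finset.mem_biUnion.mp hg
    exact hTS i hi
  · rw [← Algebra.map_top, ← hgen, AlgHom.map_adjoin, Algebra.adjoin_le_iff]
    rintro _ ⟨v, hv, rfl⟩
    have h6 : (⟨v, hv⟩ : V) ∈ Submodule.span k (Set.range B) := by rw [B.span_eq]; trivial
    have h7 : Submodule.span k (Set.range B) ≤ (Subalgebra.toSubmodule (Algebra.adjoin k
        ((Finset.univ.biUnion T : Finset (Fn G)) : Set (Fn G)))).comap ((pull pw).toLinearMap ∘ₗ V.subtype) := by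
      refine Submodule.span_le.mpr ?_
      rintro _ ⟨i, rfl⟩
      have h8 : Submodule.span k (T i : Set (Fn G)) ≤ Subalgebra.toSubmodule (Algebra.adjoin k
          ((Finset.univ.biUnion T : Finset (Fn G)) : Set (Fn G))) :=
        Submodule.span_le.mpr fun g hg => Algebra.subset_adjoin (R := k)
          (Finset.mem_biUnion.mpr ⟨i, Finset.mem_univ _, hg⟩)
      exact h8 (hT i)
    exact h7 h6

end Groth.Agent.H27Witt.Fn
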