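import Groth.Agent.H27Witt.TeichMul
import Groth.Prelude.Def_W4c6katofiltaWFil
import Mathlib

/-!
# The pole filtration on truncated Witt vectors
-/

set_option autoImplicit false
set_option linter.style.haveILetI false
set_option linter.unusedSectionVars false
universe u

open WittVector

noncomputable section

namespace Groth.Agent.H27Witt

variable {p : ℕ} [hp : Fact p.Prime]

section Basic

variable {A B : Type u} [CommRing A] [CommRing B] [Algebra A B]

theorem mem_fil_mul_iff (m : ℕ) (v : Bˣ) (c : B) (a : TruncatedWittVector p m B) :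
    WittVector.truncate m (teichmuller p (v : B)) * a ∈ WittFil.fil p m (A := A) c ↔
      a ∈ WittFil.fil p m (A := A) (((v : B) ^ (p ^ (m - 1))) * c) := by
  refine forall_congr' fun j => ?_
  rw [truncate_teichmuller_mul_coeff, mul_pow, ← pow_mul, ← pow_add,
    show (j : ℕ) + (m - 1 - j) = m - 1 by omega, mul_comm ((v : B) ^ _) (_ ^ _), mul_assoc]

theorem fil_shift (m : ℕ) (u : Bˣ) (n l : ℤ) :
    WittFil.fil p m (A := A) ((u ^ (n - (p : ℤ) ^ (m - 1) * l) : Bˣ) : B) =
      (fun a => WittVector.truncate m (WittVector.teichmuller p ((u ^ l : Bˣ) : B)) * a) ''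
        WittFil.fil p m (A := A) ((u ^ n : Bˣ) : B) := by
  have hc : ((u ^ l : Bˣ) : B) ^ (p ^ (m - 1)) * ((u ^ (n - (p : ℤ) ^ (m - 1) * l) : Bˣ) : B) =
      ((u ^ n : Bˣ) : B) := by
    rw [← Units.val_pow_eq_pow_val, ← Units.val_mul, ← zpow_natCast, ← zpow_mul, ← zpow_add]
    congr 2
    push_cast
    ring
  ext b
  constructor
  · intro hb
    refine ⟨WittVector.truncate m (teichmuller p (((u ^ l)⁻¹ : Bˣ) : B)) * b, ?_, ?_⟩
    · rw [mem_fil_mul_iff, ← hc, ← mul_assoc, ← mul_pow, ← Units.val_mul, inv_mul_cancel, Units.val_one,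
        one_pow, one_mul]
      exact hb
    · show _ * (_ * b) = b
      rw [← mul_assoc, ← map_mul, ← map_mul, ← Units.val_mul, mul_inv_cancel, Units.val_one, map_one, map_one,
        one_mul]
  · rintro ⟨a, ha, rfl⟩
    rw [mem_fil_mul_iff, hc]
    exact ha

end Basic

section Shift

variable {S B : Type u} [CommRing S] [CommRing B] [Algebra S B]

theorem vShiftTeich_coeff (m s : ℕ) (v : B) (c : WittVector p S) (j : Fin m) :
    TruncatedWittVector.coeff j (WittFil.vShiftTeich p m s v c) =
      if s ≤ (j : ℕ) then v ^ (p ^ ((j : ℕ) - s)) * algebraMap S B (c.coeff ((j : ℕ) - s)) else 0 := by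
  rw [WittFil.vShiftTeich, WittVector.coeff_truncate]
  split_ifs with h
  · have e : (j : ℕ) = ((j : ℕ) - s) + s := by omega
    conv_lhs => rw [e]
    rw [iterate_verschiebung_coeff, mul_comm, teichmuller_mul_coeff, map_coeff]
  · exact iterate_verschiebung_coeff_of_lt _ s _ (not_le.mp h)

theorem teichmuller_mul_vShiftTeich (m s : ℕ) (u : Bˣ) (i l : ℤ) (c : WittVector p S) :
    WittVector.truncate m (WittVector.teichmuller p ((u ^ l : Bˣ) : B)) *
        WittFil.vShiftTeich p m s ((u ^ i : Bˣ) : B) c =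
      WittFil.vShiftTeich p m s ((u ^ (i + (p : ℤ) ^ s * l) : Bˣ) : B) c := by
  refine TruncatedWittVector.ext fun j => ?_
  rw [truncate_teichmuller_mul_coeff, vShiftTeich_coeff, vShiftTeich_coeff]
  split_ifs with h
  · rw [← mul_assoc, ← Units.val_pow_eq_pow_val, ← Units.val_pow_eq_pow_val, ← Units.val_pow_eq_pow_val,
      ← Units.val_mul]
    congr 2
    simp only [← zpow_natCast, ← zpow_mul, ← zpow_add]
    congr 1
    push_cast
    have e : (p : ℤ) ^ (j : ℕ) = (p : ℤ) ^ s * (p : ℤ) ^ ((j : ℕ) - s) := by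
      rw [← pow_add]; congr 1; omega
    rw [e]; ring
  · rw [mul_zero]

end Shift

section Frobenius

variable {A B : Type u} [CommRing A] [CommRing B] [Algebra A B] [CharP B p]

theorem frobenius_verschiebung_mem_fil (c : B) (m : ℕ) :
    (∀ x : WittVector p B,
        WittVector.truncate (m + 1) x ∈ WittFil.fil p (m + 1) (A := A) c →
          WittVector.truncate m (WittVector.frobenius x) ∈ WittFil.fil p m (A := A) c) ∧
      (∀ x : WittVector p B,
        WittVector.truncate m x ∈ WittFil.fil p m (A := A) c →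
          WittVector.truncate (m + 1) (WittVector.verschiebung x) ∈
            WittFil.fil p (m + 1) (A := A) c) := by
  constructor
  · intro x hx j
    rw [WittVector.coeff_truncate, coeff_frobenius_charP, ← pow_mul, ← pow_succ',
      show m - 1 - (j : ℕ) + 1 = m + 1 - 1 - j by omega]
    simpa using hx ⟨j, by omega⟩
  · intro x hx j
    obtain ⟨j, hj⟩ := j
    rw [WittVector.coeff_truncate]
    cases j with
    | zero =>
      rw [verschiebung_coeff_zero, zero_pow (pow_ne_zero _ hp.out.ne_zero), zero_mul]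
      exact zero_mem _
    | succ j =>
      rw [verschiebung_coeff_succ, show m + 1 - 1 - (j + 1) = m - 1 - j by omega]
      simpa using hx ⟨j, by omega⟩

end Frobenius

section UFD

variable {A B : Type u} [CommRing A] [IsDomain A] [CommRing B] [Algebra A B] {r : ℕ} (x : Fin r → A)

theorem prod_ne_zero' (hx : ∀ i, Prime (x i)) : ∏ i, x i ≠ 0 :=
  Finset.prod_ne_zero_iff.mpr fun i _ => (hx i).ne_zero

theorem algebraMap_injective_away (hx : ∀ i, Prime (x i)) [IsLocalization.Away (∏ i, x i) B] :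
    Function.Injective (algebraMap A B) :=
  IsLocalization.injective B (M := Submonoid.powers (∏ i, x i))
    (powers_le_nonZeroDivisors_of_noZeroDivisors (prod_ne_zero' x hx))

theorem prod_dvd_of_forall_dvd (hx : ∀ i, Prime (x i)) (hxa : ∀ i j, Associated (x i) (x j) → i = j)
    {a : A} (h : ∀ i, x i ∣ a) : ∏ i, x i ∣ a := by
  classical
  suffices ∀ s : Finset (Fin r), ∏ i ∈ s, x i ∣ a from this Finset.univ
  intro s
  induction s using Finset.induction with
  | empty => simp
  | insert i s hi ih =>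
    obtain ⟨b, hb⟩ := ih
    rw [Finset.prod_insert hi]
    have hb' := h i
    rw [hb] at hb'
    rcases (hx i).dvd_or_dvd hb' with h1 | h1
    · obtain ⟨j, hj, hij⟩ := ((hx i).dvd_finsetProd_iff _).mp h1
      exact absurd (hxa i j ((hx i).associated_of_dvd (hx j) hij) ▸ hj) hi
    · rw [hb, mul_comm (x i)]
      exact mul_dvd_mul_left _ h1

theorem zmon_mul_zmon (u : Fin r → Bˣ) (a b : Fin r → ℤ) :
    WittFil.zmon u a * WittFil.zmon u b = WittFil.zmon u (fun i => a i + b i) := by
  simp only [WittFil.zmon, ← Units.val_mul, ← Finset.prod_mul_distrib, zpow_add]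

theorem zmon_pow (u : Fin r → Bˣ) (a : Fin r → ℤ) (N : ℕ) :
    WittFil.zmon u a ^ N = WittFil.zmon u (fun i => a i * N) := by
  simp only [WittFil.zmon, ← Units.val_pow_eq_pow_val, ← Finset.prod_pow, zpow_mul, zpow_natCast]

theorem zmon_zero (u : Fin r → Bˣ) : WittFil.zmon u (fun _ => (0 : ℤ)) = 1 := by
  simp [WittFil.zmon]

theorem zmon_natCast {u : Fin r → Bˣ} (hu : ∀ i, (u i : B) = algebraMap A B (x i)) (e : Fin r → ℕ) :
    WittFil.zmon u (fun i => (e i : ℤ)) = algebraMap A B (∏ i, x i ^ e i) := by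
  simp only [WittFil.zmon, zpow_natCast, map_prod, map_pow, ← hu]
  exact map_prod (Units.coeHom B) _ _

theorem zmon_eq_of_nonneg {u : Fin r → Bˣ} (hu : ∀ i, (u i : B) = algebraMap A B (x i)) (n : Fin r → ℤ)
    (hn : ∀ i, 0 ≤ n i) : WittFil.zmon u n ∈ (algebraMap A B).range := by
  have : n = fun i => ((n i).toNat : ℤ) := funext fun i => (Int.toNat_of_nonneg (hn i)).symm
  rw [this, zmon_natCast x hu]
  exact ⟨_, rfl⟩

/-- A root of an element with poles bounded by less than the exponent has no poles. -/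
theorem mem_range_of_pow_mul_mem (hx : ∀ i, Prime (x i)) (hxa : ∀ i j, Associated (x i) (x j) → i = j)
    [IsLocalization.Away (∏ i, x i) B] {u : Fin r → Bˣ} (hu : ∀ i, (u i : B) = algebraMap A B (x i))
    {z : B} {N : ℕ} {e : Fin r → ℤ} (he : ∀ i, e i < N)
    (h : z ^ N * WittFil.zmon u e ∈ (algebraMap A B).range) : z ∈ (algebraMap A B).range := by
  classical
  obtain ⟨e', he', h'⟩ : ∃ e' : Fin r → ℕ, (∀ i, e' i < N ∨ e' i = 0) ∧
      z ^ N * algebraMap A B (∏ i, x i ^ e' i) ∈ (algebraMap A B).range := by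
    refine ⟨fun i => (e i).toNat, fun i => by have := he i; dsimp only; omega, ?_⟩
    have hsplit : WittFil.zmon u (fun i => ((e i).toNat : ℤ)) =
        WittFil.zmon u e * WittFil.zmon u (fun i => ((-e i).toNat : ℤ)) := by
      rw [zmon_mul_zmon]
      congr 1
      funext i
      omega
    rw [← zmon_natCast x hu, hsplit, ← mul_assoc]
    exact Subring.mul_mem _ h (zmon_eq_of_nonneg x hu _ fun i => Int.natCast_nonneg _)
  obtain ⟨⟨a, s⟩, hs⟩ := IsLocalization.surj (Submonoid.powers (∏ i, x i)) z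
  obtain ⟨k, hk⟩ := s.2
  simp only at hs
  rw [← hk, map_pow] at hs
  clear hk s
  induction k generalizing a with
  | zero => exact ⟨a, by rw [← hs]; simp⟩
  | succ k ih =>
    obtain ⟨b, hb⟩ := h'
    have hinj := algebraMap_injective_away (B := B) x hx
    have heq : a ^ N * ∏ i, x i ^ e' i = b * (∏ i, x i) ^ ((k + 1) * N) := by
      apply hinj
      simp only [map_mul, map_pow, pow_mul]
      rw [hb, ← hs, mul_pow]
      ring
    have hdiv : ∀ i, x i ∣ a := by
      intro i
      have h1 : x i ^ ((k + 1) * N) ∣ a ^ N * ∏ j, x j ^ e' j := by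
        rw [heq]
        exact Dvd.dvd.mul_left (pow_dvd_pow_of_dvd (Finset.dvd_prod_of_mem _ (Finset.mem_univ i)) _) _
      by_cases hN : N = 0
      · have := he i
        have h0 : e' i = 0 := by have := he' i; omega
        exfalso
        subst hN
        have hsplit : z ^ 0 * WittFil.zmon u e ∈ (algebraMap A B).range := h
        obtain ⟨c, hc⟩ := hsplit
        rw [pow_zero, one_mul] at hc
        obtain ⟨f, hf⟩ : ∃ f : Fin r → ℕ, ∀ j, (f j : ℤ) = -e j :=
          ⟨fun j => (-e j).toNat, fun j => by have := he j; dsimp only; omega⟩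
        have hone : c * ∏ j, x j ^ f j = 1 := by
          apply hinj
          rw [map_mul, hc, ← zmon_natCast x hu, zmon_mul_zmon, map_one, ← zmon_zero u]
          congr 1
          funext j
          rw [hf]; ring
        have hfi : f i ≠ 0 := by have := hf i; omega
        exact (hx i).not_isUnit (isUnit_of_dvd_one (hone ▸ Dvd.dvd.mul_left
          ((dvd_pow_self (x i) hfi).trans (Finset.dvd_prod_of_mem (fun j => x j ^ f j) (Finset.mem_univ i))) _))
      rw [← Finset.mul_prod_erase _ _ (Finset.mem_univ i), mul_left_comm] at h1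
      have hlt : e' i < (k + 1) * N := by
        have := he' i
        have : N ≤ (k + 1) * N := Nat.le_mul_of_pos_left _ k.succ_pos
        omega
      rw [show (k + 1) * N = e' i + ((k + 1) * N - e' i) by omega, pow_add,
        mul_dvd_mul_iff_left (pow_ne_zero _ (hx i).ne_zero)] at h1
      rcases (hx i).dvd_or_dvd ((dvd_pow_self _ (by omega)).trans h1) with h2 | h2
      · exact (hx i).dvd_of_dvd_pow h2
      · obtain ⟨j, hj, hij⟩ := ((hx i).dvd_finsetProd_iff _).mp h2
        exact absurd (hxa i j ((hx i).associated_of_dvd (hx j) ((hx i).dvd_of_dvd_pow hij)))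
          (Finset.ne_of_mem_erase hj).symm
    obtain ⟨a', ha'⟩ := prod_dvd_of_forall_dvd x hx hxa hdiv
    refine ih a' ((IsLocalization.Away.algebraMap_isUnit (S := B) (∏ i, x i)).mul_left_cancel ?_)
    rw [← map_mul, ← ha', ← hs, pow_succ']
    ring

theorem mem_fil_pow_iff (hx : ∀ i, Prime (x i)) (hxa : ∀ i j, Associated (x i) (x j) → i = j)
    [IsLocalization.Away (∏ i, x i) B] {u : Fin r → Bˣ} (hu : ∀ i, (u i : B) = algebraMap A B (x i))
    (n : Fin r → ℤ) (m : ℕ) (a : TruncatedWittVector p m B) :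
    a ∈ WittFil.fil p m (A := A) ((WittFil.zmon u n) ^ (p ^ (m - 1))) ↔
      ∀ j : Fin m, TruncatedWittVector.coeff j
          (a * WittVector.truncate m (WittVector.teichmuller p (WittFil.zmon u n))) ∈
        (algebraMap A B).range := by
  refine forall_congr' fun j => ?_
  rw [mul_comm a, truncate_teichmuller_mul_coeff]
  set c := WittFil.zmon u n
  have e : TruncatedWittVector.coeff j a ^ p ^ (m - 1 - (j : ℕ)) * c ^ p ^ (m - 1) =
      (c ^ p ^ (j : ℕ) * TruncatedWittVector.coeff j a) ^ p ^ (m - 1 - (j : ℕ)) := by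
    rw [mul_pow, ← pow_mul, ← pow_add, show (j : ℕ) + (m - 1 - j) = m - 1 by omega, mul_comm]
  rw [e]
  refine ⟨fun h => mem_range_of_pow_mul_mem x hx hxa hu (N := p ^ (m - 1 - (j : ℕ))) (e := fun _ => 0)
    (fun _ => by exact_mod_cast pow_pos hp.out.pos _) (by rwa [zmon_zero, mul_one]), fun h => Subring.pow_mem _ h _⟩

theorem truncate_image_fil (hx : ∀ i, Prime (x i)) (hxa : ∀ i j, Associated (x i) (x j) → i = j)
    [IsLocalization.Away (∏ i, x i) B] {u : Fin r → Bˣ} (hu : ∀ i, (u i : B) = algebraMap A B (x i))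
    (n : Fin r → ℤ) (m : ℕ) :
    (TruncatedWittVector.truncate (Nat.le_succ m)) '' WittFil.fil p (m + 1) (A := A) (WittFil.zmon u n) =
      WittFil.fil p m (A := A) (WittFil.zmon u (fun i => n i / (p : ℤ))) := by
  have hp0 : (0 : ℤ) < p := by exact_mod_cast hp.out.pos
  have key : ∀ (y : B) (j : ℕ), j < m →
      (y ^ p ^ (m - 1 - j) * WittFil.zmon u (fun i => n i / (p : ℤ))) ^ p *
        WittFil.zmon u (fun i => n i % (p : ℤ)) = y ^ p ^ (m - j) * WittFil.zmon u n := fun y j hj => by
    rw [mul_pow, ← pow_mul, ← pow_succ, show m - 1 - j + 1 = m - j by omega, zmon_pow, mul_assoc, zmon_mul_zmon]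
    congr 2
    funext i
    rw [mul_comm, Int.mul_ediv_add_emod]
  ext b
  constructor
  · rintro ⟨a, ha, rfl⟩ j
    rw [TruncatedWittVector.coeff_truncate]
    refine mem_range_of_pow_mul_mem x hx hxa hu (N := p) (e := fun i => n i % (p : ℤ))
      (fun i => Int.emod_lt_of_pos _ hp0) ?_
    rw [key _ _ j.2]
    have h := ha (Fin.castLE (Nat.le_succ m) j)
    simpa using h
  · intro hb
    refine ⟨TruncatedWittVector.mk p fun j => if h : (j : ℕ) < m then TruncatedWittVector.coeff ⟨j, h⟩ b else 0,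
      fun j => ?_, TruncatedWittVector.ext fun j => ?_⟩
    · rw [TruncatedWittVector.coeff_mk]
      split_ifs with h
      · rw [show m + 1 - 1 - (j : ℕ) = m - j by omega, ← key _ _ h]
        exact Subring.mul_mem _ (Subring.pow_mem _ (hb ⟨j, h⟩) _)
          (zmon_eq_of_nonneg x hu _ fun i => Int.emod_nonneg _ hp0.ne')
      · rw [zero_pow (pow_ne_zero _ hp.out.ne_zero), zero_mul]
        exact zero_mem _
    · rw [TruncatedWittVector.coeff_truncate, TruncatedWittVector.coeff_mk, dif_pos (show ((Fin.castLE (Nat.le_succ m) j : Fin (m + 1)) : ℕ) < m from j.2)]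
      rfl

theorem coeff_mem_of_neg (hx : ∀ i, Prime (x i)) (hxa : ∀ i j, Associated (x i) (x j) → i = j)
    [IsLocalization.Away (∏ i, x i) B] {u : Fin r → Bˣ} (hu : ∀ i, (u i : B) = algebraMap A B (x i))
    (m : ℕ) (n : Fin r → ℤ) (hn : ∀ i, n i < 0) (a : TruncatedWittVector p m B)
    (ha : a ∈ WittFil.fil p m (A := A) (WittFil.zmon u n)) (j : Fin m) :
    ∃ b : A, TruncatedWittVector.coeff j a = algebraMap A B ((∏ i, x i) * b) := by
  obtain ⟨y, hy⟩ := mem_range_of_pow_mul_mem x hx hxa hu (N := p ^ (m - 1 - (j : ℕ))) (e := n)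
    (fun i => lt_of_lt_of_le (hn i) (Int.natCast_nonneg _)) (ha j)
  obtain ⟨c, hc⟩ := ha j
  rw [← hy, ← map_pow] at hc
  obtain ⟨f, hf⟩ : ∃ f : Fin r → ℕ, ∀ i, (f i : ℤ) = -n i := ⟨fun i => (-n i).toNat, fun i => by have := hn i; dsimp only; omega⟩
  have heq : c * ∏ i, x i ^ f i = y ^ p ^ (m - 1 - (j : ℕ)) := by
    apply algebraMap_injective_away (B := B) x hx
    rw [map_mul, hc, ← zmon_natCast x hu, mul_assoc, zmon_mul_zmon]
    rw [show (fun i => n i + (f i : ℤ)) = fun _ => (0 : ℤ) from funext fun i => by rw [hf]; ring, zmon_zero, mul_one]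
  obtain ⟨b, hb⟩ := prod_dvd_of_forall_dvd x hx hxa (a := y) fun i =>
    (hx i).dvd_of_dvd_pow (n := p ^ (m - 1 - (j : ℕ))) (heq ▸ Dvd.dvd.mul_left
      ((dvd_pow_self (x i) (show f i ≠ 0 from fun h0 => (hn i).ne (by simpa [h0, eq_comm] using hf i))).trans
        (Finset.dvd_prod_of_mem (fun j => x j ^ f j) (Finset.mem_univ i))) _)
  exact ⟨b, by rw [← hy, hb]⟩

end UFD

theorem fil_succ_decomp {A B : Type u} [CommRing A] [IsDomain A] [CommRing B] [Algebra A B] {x : A}
    (hx : Prime x) [IsLocalization.Away x B] (u : Bˣ) (hu : (u : B) = algebraMap A B x) (m : ℕ) (n : ℤ)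
    (hn : ¬ ((p : ℤ) ^ m ∣ n)) :
    ∀ a ∈ WittFil.fil p (m + 1) (A := A) ((u ^ n : Bˣ) : B),
      ∃ b ∈ WittFil.fil p (m + 1) (A := A) ((u ^ (n - 1) : Bˣ) : B),
        ∃ y : WittVector p B,
          WittVector.truncate m y ∈ WittFil.fil p m (A := A) ((u ^ n : Bˣ) : B) ∧
            a = b + WittVector.truncate (m + 1) (WittVector.verschiebung y) := by
  intro a ha
  obtain ⟨X, rfl⟩ := WittVector.truncate_surjective p (m + 1) B a
  refine ⟨WittVector.truncate (m + 1) (teichmuller p (X.coeff 0)), ?_, X.shift 1, ?_, ?_⟩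
  · intro j
    rw [WittVector.coeff_truncate]
    obtain ⟨j, hj⟩ := j
    cases j with
    | succ j =>
      rw [teichmuller_coeff_pos p _ _ j.succ_pos, zero_pow (pow_ne_zero _ hp.out.ne_zero), zero_mul]
      exact zero_mem _
    | zero =>
      rw [teichmuller_coeff_zero]
      have h0 := ha ⟨0, hj⟩
      rw [WittVector.coeff_truncate] at h0
      change X.coeff 0 ^ p ^ m * _ ∈ _ at h0
      change X.coeff 0 ^ p ^ m * _ ∈ _
      set N : ℤ := ((p ^ m : ℕ) : ℤ)
      have hN : 0 < N := Int.natCast_pos.mpr (pow_pos hp.out.pos m)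
      have hr : 0 < n % N := lt_of_le_of_ne (Int.emod_nonneg _ hN.ne') fun h => hn (by
        simpa [N] using Int.dvd_of_emod_eq_zero h.symm)
      have hqr : n = N * (n / N) + n % N := (Int.mul_ediv_add_emod n N).symm
      haveI : IsLocalization.Away (∏ _i : Fin 1, x) B := by simpa using (inferInstance : IsLocalization.Away x B)
      have hz : X.coeff 0 * ((u ^ (n / N) : Bˣ) : B) ∈ (algebraMap A B).range := by
        refine mem_range_of_pow_mul_mem (fun _ : Fin 1 => x) (fun _ => hx) (fun i j _ => Subsingleton.elim i j)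
          (u := fun _ => u) (fun _ => hu) (N := p ^ m) (e := fun _ => n % N) (fun _ => Int.emod_lt_of_pos _ hN) ?_
        have e : (X.coeff 0 * ((u ^ (n / N) : Bˣ) : B)) ^ p ^ m * WittFil.zmon (fun _ : Fin 1 => u) (fun _ => n % N) =
            X.coeff 0 ^ p ^ m * ((u ^ n : Bˣ) : B) := by
          rw [mul_pow, mul_assoc, WittFil.zmon, Finset.prod_const, Finset.card_univ, Fintype.card_fin, pow_one,
            ← Units.val_pow_eq_pow_val, ← Units.val_mul, ← zpow_natCast, ← zpow_mul, ← zpow_add,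
            mul_comm (n / N), ← hqr]
        rw [e]; exact h0
      have e : X.coeff 0 ^ p ^ m * ((u ^ (n - 1) : Bˣ) : B) =
          (X.coeff 0 * ((u ^ (n / N) : Bˣ) : B)) ^ p ^ m * ((u : B) ^ ((n % N - 1).toNat)) := by
        rw [mul_pow, mul_assoc, ← Units.val_pow_eq_pow_val, ← Units.val_pow_eq_pow_val, ← Units.val_mul,
          ← zpow_natCast, ← zpow_mul, ← zpow_natCast, ← zpow_add, Int.toNat_of_nonneg (by omega)]
        congr 3
        linear_combination hqr
      rw [e]
      exact Subring.mul_mem _ (Subring.pow_mem _ hz _) (Subring.pow_mem _ (show (u : B) ∈ (algebraMap A B).range from ⟨x, hu.symm⟩) _)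
  · intro j
    rw [WittVector.coeff_truncate, WittVector.shift_coeff]
    have h := ha ⟨(j : ℕ) + 1, by omega⟩
    rw [WittVector.coeff_truncate] at h
    change X.coeff ((j : ℕ) + 1) ^ p ^ (m - ((j : ℕ) + 1)) * _ ∈ _ at h
    rwa [add_comm 1 (j : ℕ), show m - 1 - (j : ℕ) = m - ((j : ℕ) + 1) by omega]
  · rw [← map_add, ← eq_teichmuller_add_verschiebung]

end Groth.Agent.H27Witt
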