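import Groth.Agent.H27Witt.TeichMul
import Groth.Prelude.Def_W4c6katofiltaWFil
import Mathlib

/-! The pole filtration on truncated Witt vectors: additive subgroups and multiplicativity. -/

set_option autoImplicit false
set_option linter.style.haveILetI false
universe u

open WittVector

noncomputable section

namespace Groth.Agent.H27Witt.FilRing

variable {p : ℕ} [hp : Fact p.Prime] {A B : Type u} [CommRing A] [CommRing B] [Algebra A B] [IsDomain A]
  {P : A}

theorem exists_lift {K : Type u} [CommRing K] [Algebra A K] (φ : B →+* K)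
    (hφ : φ.comp (algebraMap A B) = algebraMap A K) (m : ℕ) (c : B) (t : K) (ht : t ^ p ^ (m - 1) = φ c)
    (a : TruncatedWittVector p m B) (ha : a ∈ WittFil.fil p m (A := A) c) :
    ∃ (X : WittVector p B) (X₀ : WittVector p (integralClosure A K)), truncate m X = a ∧
      WittVector.map (integralClosure A K).val.toRingHom X₀ = teichmuller p t * WittVector.map φ X := by
  classical
  let X : WittVector p B := WittVector.mk p fun i => if h : i < m then a.coeff ⟨i, h⟩ else 0
  have hint : ∀ i, IsIntegral A ((teichmuller p t * WittVector.map φ X).coeff i) := by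
    intro i
    rw [teichmuller_mul_coeff, WittVector.map_coeff, WittVector.coeff_mk]
    by_cases h : i < m
    · rw [dif_pos h]
      refine IsIntegral.of_pow (n := p ^ (m - 1 - i)) (pow_pos hp.out.pos _) ?_
      obtain ⟨r, hr⟩ := ha ⟨i, h⟩
      rw [mul_pow, ← pow_mul, ← pow_add, show i + (m - 1 - i) = m - 1 by omega, ht, ← map_pow, ← map_mul,
        mul_comm c, ← hr, ← RingHom.comp_apply, hφ]
      exact isIntegral_algebraMap
    · rw [dif_neg h, map_zero, mul_zero]
      exact isIntegral_zero
  refine ⟨X, WittVector.mk p fun i => ⟨_, hint i⟩, ?_, ?_⟩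
  · ext i
    rw [WittVector.coeff_truncate, WittVector.coeff_mk, dif_pos i.2]
  · refine WittVector.ext fun i => ?_
    rw [WittVector.map_coeff, WittVector.coeff_mk]
    rfl

theorem mem_of_lift [IsIntegrallyClosed A] [IsLocalization.Away P B] (hP : P ≠ 0) {K : Type u} [Field K]
    [Algebra A K] [Algebra (FractionRing A) K] [IsScalarTower A (FractionRing A) K] (φ : B →+* K)
    (hφ : φ.comp (algebraMap A B) = algebraMap A K) (m : ℕ) (c : B) (t : K) (ht : t ^ p ^ (m - 1) = φ c)
    (Z : WittVector p B) (Z₀ : WittVector p (integralClosure A K))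
    (hZ : WittVector.map (integralClosure A K).val.toRingHom Z₀ = teichmuller p t * WittVector.map φ Z) :
    truncate m Z ∈ WittFil.fil p m (A := A) c := by
  intro j
  rw [WittVector.coeff_truncate]
  set b := (Z.coeff j) ^ p ^ (m - 1 - (j : ℕ)) * c
  have hi : IsIntegral A ((teichmuller p t * WittVector.map φ Z).coeff j ^ p ^ (m - 1 - (j : ℕ))) := by
    rw [← hZ, WittVector.map_coeff]
    exact (show IsIntegral A ((integralClosure A K).val (Z₀.coeff j)) from (Z₀.coeff j).2).pow _
  rw [teichmuller_mul_coeff, WittVector.map_coeff, mul_pow, ← pow_mul, ← pow_add,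
    show (j : ℕ) + (m - 1 - (j : ℕ)) = m - 1 by omega, ht, ← map_pow, ← map_mul, mul_comm] at hi
  let ψ : B →+* FractionRing A := IsLocalization.Away.lift P (g := algebraMap A (FractionRing A))
    (IsUnit.mk0 _ ((map_ne_zero_iff _ (IsFractionRing.injective A (FractionRing A))).mpr hP))
  have hψ : ψ.comp (algebraMap A B) = algebraMap A (FractionRing A) := IsLocalization.Away.lift_comp _ _
  have hφψ : φ = (algebraMap (FractionRing A) K).comp ψ := by
    refine IsLocalization.ringHom_ext (Submonoid.powers P) ?_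
    rw [hφ, RingHom.comp_assoc, hψ, ← IsScalarTower.algebraMap_eq]
  rw [hφψ, RingHom.comp_apply, isIntegral_algebraMap_iff (algebraMap (FractionRing A) K).injective,
    IsIntegrallyClosed.isIntegral_iff] at hi
  obtain ⟨r, hr⟩ := hi
  refine ⟨r, ?_⟩
  have hinj : Function.Injective ψ := by
    refine (IsLocalization.lift_injective_iff _).mpr fun x y => ?_
    rw [(IsLocalization.injective B (powers_le_nonZeroDivisors_of_noZeroDivisors hP)).eq_iff,
      (IsFractionRing.injective A (FractionRing A)).eq_iff]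
  apply hinj
  rw [← RingHom.comp_apply, hψ, hr]

theorem sub_mem [IsIntegrallyClosed A] [IsLocalization.Away P B] (hP : P ≠ 0) (m : ℕ) (c : B)
    (a b : TruncatedWittVector p m B) (ha : a ∈ WittFil.fil p m (A := A) c)
    (hb : b ∈ WittFil.fil p m (A := A) c) : a - b ∈ WittFil.fil p m (A := A) c := by
  let K := AlgebraicClosure (FractionRing A)
  let φ : B →+* K := IsLocalization.Away.lift P (g := algebraMap A K) (IsUnit.mk0 _ (by
    rw [IsScalarTower.algebraMap_apply A (FractionRing A) K]
    exact (map_ne_zero _).mpr ((map_ne_zero_iff _ (IsFractionRing.injective A (FractionRing A))).mpr hP)))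
  have hφ : φ.comp (algebraMap A B) = algebraMap A K := IsLocalization.Away.lift_comp _ _
  obtain ⟨t, ht⟩ := IsAlgClosed.exists_pow_nat_eq (φ c) (pow_pos hp.out.pos (m - 1))
  obtain ⟨X, X₀, rfl, hX⟩ := exists_lift φ hφ m c t ht a ha
  obtain ⟨Y, Y₀, rfl, hY⟩ := exists_lift φ hφ m c t ht b hb
  rw [← map_sub]
  exact mem_of_lift hP φ hφ m c t ht (X - Y) (X₀ - Y₀) (by rw [map_sub, hX, hY, map_sub, mul_sub])

theorem mul_mem [IsIntegrallyClosed A] [IsLocalization.Away P B] (hP : P ≠ 0) (m : ℕ) (c c' : B)
    (a b : TruncatedWittVector p m B) (ha : a ∈ WittFil.fil p m (A := A) c)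
    (hb : b ∈ WittFil.fil p m (A := A) c') : a * b ∈ WittFil.fil p m (A := A) (c * c') := by
  let K := AlgebraicClosure (FractionRing A)
  let φ : B →+* K := IsLocalization.Away.lift P (g := algebraMap A K) (IsUnit.mk0 _ (by
    rw [IsScalarTower.algebraMap_apply A (FractionRing A) K]
    exact (map_ne_zero _).mpr ((map_ne_zero_iff _ (IsFractionRing.injective A (FractionRing A))).mpr hP)))
  have hφ : φ.comp (algebraMap A B) = algebraMap A K := IsLocalization.Away.lift_comp _ _
  obtain ⟨t, ht⟩ := IsAlgClosed.exists_pow_nat_eq (φ c) (pow_pos hp.out.pos (m - 1))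
  obtain ⟨t', ht'⟩ := IsAlgClosed.exists_pow_nat_eq (φ c') (pow_pos hp.out.pos (m - 1))
  obtain ⟨X, X₀, rfl, hX⟩ := exists_lift φ hφ m c t ht a ha
  obtain ⟨Y, Y₀, rfl, hY⟩ := exists_lift φ hφ m c' t' ht' b hb
  rw [← map_mul]
  exact mem_of_lift hP φ hφ m (c * c') (t * t') (by rw [mul_pow, ht, ht', map_mul]) (X * Y) (X₀ * Y₀)
    (by rw [map_mul, hX, hY, map_mul, map_mul]; ring)

end Groth.Agent.H27Witt.FilRing
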