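import Groth.Agent.H27Witt.TeichMul
import Groth.Prelude.Def_W4c6katofiltaWFil
import Mathlib

/-! Graded pieces of the pole filtration over `S[[π]]`. -/

set_option autoImplicit false
set_option linter.style.haveILetI false
universe u

open WittVector

noncomputable section

namespace Groth.Agent.H27Witt.GrFil

variable {S B : Type u} [CommRing S] [IsDomain S] [CommRing B] [Algebra (PowerSeries S) B]
  [IsLocalization.Away (PowerSeries.X : PowerSeries S) B]

local notation "ε" => PowerSeries.constantCoeff

theorem inj : Function.Injective (algebraMap (PowerSeries S) B) :=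
  IsLocalization.injective B (powers_le_nonZeroDivisors_of_noZeroDivisors (PowerSeries.X_ne_zero (R := S)))

variable (u : Bˣ) (hu : (u : B) = algebraMap (PowerSeries S) B PowerSeries.X)

include hu in
theorem root_closed {w : B} {q : ℕ} (hq : 0 < q) (h : w ^ q ∈ (algebraMap (PowerSeries S) B).range) :
    w ∈ (algebraMap (PowerSeries S) B).range := by
  obtain ⟨k, a, hka⟩ := IsLocalization.Away.surj (PowerSeries.X : PowerSeries S) w
  rw [← hu] at hka
  induction k generalizing a with
  | zero => exact ⟨a, by simpa using hka.symm⟩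
  | succ k ih =>
    obtain ⟨r, hr⟩ := h
    have e : a ^ q = r * PowerSeries.X ^ ((k + 1) * q) := inj (B := B) (by
      rw [map_pow, map_mul, map_pow, ← hka, hr, ← hu, mul_pow, ← pow_mul])
    have h0 : ε a = 0 := by
      have := congrArg ε e
      rw [map_pow, map_mul, map_pow, PowerSeries.constantCoeff_X, zero_pow (Nat.mul_pos k.succ_pos hq).ne', mul_zero] at this
      exact (pow_eq_zero_iff hq.ne').mp this
    obtain ⟨b, rfl⟩ := PowerSeries.X_dvd_iff.mpr h0
    refine ih b ?_
    rw [map_mul, ← hu, pow_succ] at hka
    apply u.isUnit.mul_right_cancel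
    linear_combination hka

variable {p : ℕ} [hp : Fact p.Prime] [CharP S p] [Algebra S B] {m : ℕ}

/-- Raising coordinates to the power `p ^ (m - 1)` and scaling by `c`. -/
def twist (c : B) (hB : CharP B p) : WittVector p B → WittVector p B := fun X =>
  teichmuller p c * (haveI := hB; WittVector.map (iterateFrobenius B p (m - 1)) X)

omit [Algebra (PowerSeries S) B] [IsLocalization.Away (PowerSeries.X : PowerSeries S) B] in
theorem twist_coeff [hB : CharP B p] (c : B) (X : WittVector p B) (j : ℕ) (hj : j < m) :
    (twist (m := m) c hB X).coeff j = (X.coeff j ^ p ^ (m - 1 - j) * c) ^ p ^ j := by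
  rw [twist, teichmuller_mul_coeff, WittVector.map_coeff, iterateFrobenius_def, mul_pow (X.coeff j ^ _), ← pow_mul,
    ← pow_add, show m - 1 - j + j = m - 1 by omega, mul_comm]

/-- `y` lies in the piece and its scaled twist reduces to `d`. -/
def Red (c : B) (y : TruncatedWittVector p m B) (d : TruncatedWittVector p m S) : Prop :=
  ∀ j : Fin m, ∃ w : PowerSeries S,
    algebraMap (PowerSeries S) B w = TruncatedWittVector.coeff j y ^ p ^ (m - 1 - (j : ℕ)) * c ∧
      TruncatedWittVector.coeff j d = ε w ^ p ^ (j : ℕ)

include hu in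
theorem Red.sub [hB : CharP B p] {c : B} {y z : TruncatedWittVector p m B} {d e : TruncatedWittVector p m S}
    (hy : Red c y d) (hz : Red c z e) : Red c (y - z) (d - e) := by
  choose wy hwy hdy using hy
  choose wz hwz hez using hz
  obtain ⟨Y, rfl⟩ := WittVector.truncate_surjective p m B y
  obtain ⟨Z, rfl⟩ := WittVector.truncate_surjective p m B z
  let lift : (Fin m → PowerSeries S) → WittVector p (PowerSeries S) := fun w =>
    WittVector.mk p fun j => if h : j < m then w ⟨j, h⟩ ^ p ^ j else 0
  have hlift : ∀ (X : WittVector p B) (w : Fin m → PowerSeries S),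
      (∀ j, algebraMap (PowerSeries S) B (w j) = TruncatedWittVector.coeff j (truncate m X) ^ p ^ (m - 1 - (j : ℕ)) * c) →
      truncate m (WittVector.map (algebraMap (PowerSeries S) B) (lift w)) = truncate m (twist (m := m) c hB X) := by
    intro X w hw
    ext j
    rw [WittVector.coeff_truncate, WittVector.coeff_truncate, WittVector.map_coeff, twist_coeff c X j j.2,
      WittVector.coeff_mk, dif_pos j.2, map_pow, hw, WittVector.coeff_truncate]
  have hred : ∀ (w : Fin m → PowerSeries S) (d' : TruncatedWittVector p m S),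
      (∀ j, TruncatedWittVector.coeff j d' = ε (w j) ^ p ^ (j : ℕ)) →
      truncate m (WittVector.map ε (lift w)) = d' := by
    intro w d' hd
    ext j
    rw [WittVector.coeff_truncate, WittVector.map_coeff, WittVector.coeff_mk, dif_pos j.2, map_pow, hd]
  let D := lift wy - lift wz
  have hD : truncate m (WittVector.map (algebraMap (PowerSeries S) B) D) = truncate m (twist (m := m) c hB (Y - Z)) := by
    rw [map_sub, map_sub, hlift Y wy hwy, hlift Z wz hwz]
    simp only [twist, map_sub, mul_sub]
  intro j
  have hj := congrArg (TruncatedWittVector.coeff j) hD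
  rw [WittVector.coeff_truncate, WittVector.coeff_truncate, WittVector.map_coeff, twist_coeff c (Y - Z) j j.2] at hj
  obtain ⟨w, hw⟩ := root_closed u hu (pow_pos hp.out.pos (j : ℕ)) ⟨D.coeff j, hj⟩
  refine ⟨w, by rw [hw, ← map_sub, WittVector.coeff_truncate], ?_⟩
  rw [← hw, ← map_pow] at hj
  rw [← hred wy d hdy, ← hred wz e hez, ← map_sub, ← map_sub, WittVector.coeff_truncate, WittVector.map_coeff,
    inj hj, map_pow]

theorem Red.mem {c : B} {y : TruncatedWittVector p m B} {d : TruncatedWittVector p m S} (hy : Red c y d) :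
    y ∈ WittFil.fil p m (A := PowerSeries S) c := fun j => by
  obtain ⟨w, hw, -⟩ := hy j
  exact ⟨w, hw⟩

include hu in
theorem Red.mem_next_iff {c : B} {y : TruncatedWittVector p m B} {d : TruncatedWittVector p m S} (hy : Red c y d) :
    y ∈ WittFil.fil p m (A := PowerSeries S) (c * ((u⁻¹ : Bˣ) : B)) ↔ d = 0 := by
  constructor
  · intro h
    ext j
    obtain ⟨w, hw, hd⟩ := hy j
    obtain ⟨v, hv⟩ := h j
    rw [hd, ← map_zero (WittVector.truncate (p := p) (R := S) m), WittVector.coeff_truncate, WittVector.zero_coeff]
    have : w = v * PowerSeries.X := inj (B := B) (by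
      rw [map_mul, ← hu, hv, hw, mul_assoc, mul_assoc, Units.inv_mul, mul_one])
    rw [this, map_mul, PowerSeries.constantCoeff_X, mul_zero, zero_pow (pow_ne_zero _ hp.out.ne_zero)]
  · intro h j
    obtain ⟨w, hw, hd⟩ := hy j
    rw [h, ← map_zero (WittVector.truncate (p := p) (R := S) m), WittVector.coeff_truncate, WittVector.zero_coeff] at hd
    obtain ⟨v, rfl⟩ := PowerSeries.X_dvd_iff.mpr ((pow_eq_zero_iff (pow_ne_zero _ hp.out.ne_zero)).mp hd.symm)
    refine ⟨v, ?_⟩
    rw [← mul_assoc, ← hw, map_mul, ← hu, mul_comm (u : B), mul_assoc, Units.mul_inv, mul_one]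

end Groth.Agent.H27Witt.GrFil
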