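import Groth.Agent.H27Witt.KPts
import Groth.Prelude.Def_AlgGrp
import Mathlib

/-!
# Isogenies among the endomorphisms of `W_n`
-/

set_option autoImplicit false
set_option linter.style.haveILetI false
universe u

open CategoryTheory MonoidalCategory CartesianMonoidalCategory MonObj AlgebraicGeometry

noncomputable section

namespace Groth.Agent.H27Witt

variable {p : ℕ} [hp : Fact p.Prime] {k : Type u} [Field k] [CharP k p] [IsAlgClosed k]

/-- the component `r` of a multiple of `p^r` -/
theorem coeff_add_pow_nsmul [PerfectRing k p] (A B : WittVector p k) (i : ℕ) :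
    (A + p ^ i • B).coeff i = A.coeff i + B.coeff 0 ^ p ^ i := by
  have hco : ∀ (Z : WittVector p k), (p ^ i • Z).coeff i = Z.coeff 0 ^ p ^ i := fun Z => by
    rw [nsmul_eq_mul, mul_comm, Nat.cast_pow]
    simpa using WittVector.mul_pow_charP_coeff_succ (p := p) Z (m := 0) (n := i)
  have hlow : ∀ (Z : WittVector p k) (j : ℕ), j < i → (p ^ i • Z).coeff j = 0 := fun Z j hj => by
    rw [nsmul_eq_mul, mul_comm, Nat.cast_pow]
    exact WittVector.mul_pow_charP_coeff_zero _ hj
  obtain ⟨A', hA'⟩ := eq_pow_nsmul (r := i) (x := WittVector.tail i A) fun j hj => by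
    simp [WittVector.tail, WittVector.select, hj.not_ge]
  have hAi : A'.coeff 0 ^ p ^ i = A.coeff i := by
    rw [← hco, ← hA']
    simp [WittVector.tail, WittVector.select]
  conv_lhs => rw [← WittVector.init_add_tail A i, hA', add_assoc, ← nsmul_add]
  rw [WittVector.coeff_add_of_disjoint, hco, WittVector.add_coeff_zero, add_pow_char_pow, hAi]
  · simp [WittVector.init, WittVector.select]
  · intro j
    rcases lt_or_ge j i with h | h
    · exact Or.inr (hlow _ j h)
    · exact Or.inl (by simp [WittVector.init, WittVector.select, h.not_gt])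

variable {n : ℕ}

/-- the leading component of an endomorphism is an additive polynomial in the leading variable -/
theorem exists_leading [PerfectRing k p] (φ : TruncatedWittVector p (n + 1) k →+ TruncatedWittVector p (n + 1) k)
    (hφ : IsAlgMap φ) :
    ∃ Q : Polynomial k, (∀ s t, Q.eval (s + t) = Q.eval s + Q.eval t) ∧
      ∀ x, (φ x).coeff 0 = Q.eval (x.coeff 0) := by
  obtain ⟨Φ, hΦ, e⟩ := exists_gen φ hφ
  obtain ⟨χ, hχ, eχ⟩ := hΦ.exists_level 1
  obtain ⟨P, hP⟩ := hχ.coeff_spec
  let Q : Polynomial k := MvPolynomial.aeval (fun _ : Fin 1 => (Polynomial.X : Polynomial k)) (P 0)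
  have hQ : ∀ t : k, Q.eval t = (χ (TruncatedWittVector.mk p fun _ => t)).coeff 0 := by
    intro t
    rw [hP, ← Polynomial.coe_evalRingHom]
    simp only [Q, MvPolynomial.aeval_def, MvPolynomial.eval₂_comp_left]
    refine congrArg₂ (fun f g => MvPolynomial.eval₂ f g (P 0)) (RingHom.ext fun c => by simp) (funext fun j => ?_)
    simp [TruncatedWittVector.coeff_mk]
  refine ⟨Q, fun s t => ?_, fun x => ?_⟩
  · rw [hQ, hQ, hQ, ← coeff_zero_add, ← map_add]
    refine congrArg (fun z => TruncatedWittVector.coeff (p := p) (0 : Fin 1) (χ z)) (TruncatedWittVector.ext fun i => ?_)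
    rw [Subsingleton.elim i 0, coeff_zero_add]
    simp [TruncatedWittVector.coeff_mk]
  · obtain ⟨X, rfl⟩ := WittVector.truncate_surjective p _ k x
    rw [← e, hQ, WittVector.coeff_truncate, WittVector.coeff_truncate, Fin.val_zero]
    rw [show (TruncatedWittVector.mk p fun _ => X.coeff 0 : TruncatedWittVector p 1 k) = WittVector.truncate 1 X from
      TruncatedWittVector.ext fun i => by
        rw [Subsingleton.elim i 0]
        simp [TruncatedWittVector.coeff_mk], ← eχ, WittVector.coeff_truncate, Fin.val_zero]

/-- the triangular form of an endomorphism -/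
theorem coeff_triangular [PerfectRing k p] (φ : TruncatedWittVector p n k →+ TruncatedWittVector p n k)
    (Q : Polynomial k) (hQ : ∀ (i : Fin n) x, (φ x).coeff ⟨0, i.pos⟩ = Q.eval (x.coeff ⟨0, i.pos⟩))
    (i : Fin n) (x : TruncatedWittVector p n k) :
    (φ x).coeff i = (φ (TruncatedWittVector.mk p fun j => if j < i then x.coeff j else 0)).coeff i +
      (Q.map (iterateFrobenius k p i)).eval (x.coeff i) := by
  obtain ⟨X, rfl⟩ := WittVector.truncate_surjective p n k x
  obtain ⟨Z, hZ⟩ := eq_pow_nsmul (r := (i : ℕ)) (x := WittVector.tail i X) fun j hj => by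
    simp [WittVector.tail, WittVector.select, hj.not_ge]
  have hXi : Z.coeff 0 ^ p ^ (i : ℕ) = X.coeff i := by
    have := coeff_add_pow_nsmul (p := p) 0 Z i
    rw [zero_add, WittVector.zero_coeff, zero_add, ← hZ] at this
    rw [← this]
    simp [WittVector.tail, WittVector.select]
  have hinit : WittVector.truncate n (WittVector.init i X) =
      TruncatedWittVector.mk p fun j => if j < i then (WittVector.truncate n X).coeff j else 0 :=
    TruncatedWittVector.ext fun j => by
      simp only [TruncatedWittVector.coeff_mk, WittVector.coeff_truncate, WittVector.init, WittVector.select,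
        WittVector.coeff_mk, Fin.lt_def]
      split_ifs <;> simp_all
  obtain ⟨A, hA⟩ := WittVector.truncate_surjective p n k (φ (WittVector.truncate n (WittVector.init i X)))
  obtain ⟨B, hB⟩ := WittVector.truncate_surjective p n k (φ (WittVector.truncate n Z))
  have hB0 : B.coeff 0 = Q.eval (Z.coeff 0) := by
    have h0 := hQ i (WittVector.truncate n Z)
    rw [← hB, WittVector.coeff_truncate, WittVector.coeff_truncate] at h0
    exact h0
  have h1 : φ (WittVector.truncate n X) = WittVector.truncate n (A + p ^ (i : ℕ) • B) := by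
    conv_lhs => rw [← WittVector.init_add_tail X i, hZ, map_add, map_nsmul, map_add, map_nsmul, ← hA, ← hB]
    rw [map_add, map_nsmul]
  rw [← hinit, ← hA, h1, WittVector.coeff_truncate, WittVector.coeff_truncate, coeff_add_pow_nsmul, hB0,
    WittVector.coeff_truncate, ← hXi, ← iterateFrobenius_def, ← iterateFrobenius_def,
    Polynomial.eval_map_apply]

theorem natDegree_ne_zero_of_additive (Q : Polynomial k) (hadd : ∀ s t, Q.eval (s + t) = Q.eval s + Q.eval t)
    (hne : Q ≠ 0) : Q.natDegree ≠ 0 := by
  intro h
  rw [Polynomial.natDegree_eq_zero] at h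
  obtain ⟨c, rfl⟩ := h
  have := hadd 0 0
  simp at this
  exact hne (by rw [this, map_zero])

/-- an endomorphism with nonzero leading component is onto on rational points -/
theorem surjective_of_leading [PerfectRing k p] (φ : TruncatedWittVector p (n + 1) k →+ TruncatedWittVector p (n + 1) k)
    (Q : Polynomial k) (hadd : ∀ s t, Q.eval (s + t) = Q.eval s + Q.eval t) (hne : Q ≠ 0)
    (hQ : ∀ x, (φ x).coeff 0 = Q.eval (x.coeff 0)) : Function.Surjective φ := by
  intro b
  suffices h : ∀ i, i ≤ n + 1 → ∃ a Z, b - φ a = p ^ i • Z by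
    obtain ⟨a, Z, e⟩ := h (n + 1) le_rfl
    rw [pow_nsmul_eq_zero le_rfl, sub_eq_zero] at e
    exact ⟨a, e.symm⟩
  intro i
  induction i with
  | zero => exact fun _ => ⟨0, b, by simp⟩
  | succ i ih =>
    intro hi
    obtain ⟨a, Z, e⟩ := ih (by omega)
    obtain ⟨s, hs⟩ := IsAlgClosed.exists_root (Q - Polynomial.C (Z.coeff 0)) (by
      intro hd
      have := natDegree_ne_zero_of_additive Q hadd hne
      rw [← Polynomial.natDegree_sub_C (p := Q) (a := Z.coeff 0),
        Polynomial.natDegree_eq_zero_iff_degree_le_zero.mpr hd.le] at this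
      exact this rfl)
    rw [Polynomial.IsRoot, Polynomial.eval_sub, Polynomial.eval_C, sub_eq_zero] at hs
    let y : TruncatedWittVector p (n + 1) k := WittVector.truncate (n + 1) (WittVector.teichmuller p s)
    obtain ⟨R, hR⟩ := WittVector.truncate_surjective p (n + 1) k (Z - φ y)
    have hR0 : R.coeff 0 = 0 := by
      have h0 := congrArg (TruncatedWittVector.coeff (0 : Fin (n + 1))) hR
      rw [WittVector.coeff_truncate, Fin.val_zero, coeff_zero_sub, hQ] at h0
      rw [h0, sub_eq_zero, ← hs]
      simp [y, WittVector.coeff_truncate]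
    obtain ⟨R', hR'⟩ := eq_pow_nsmul (r := 1) (x := R) fun j hj => by
      rw [Nat.lt_one_iff.mp hj]; exact hR0
    refine ⟨a + p ^ i • y, WittVector.truncate (n + 1) R', ?_⟩
    rw [map_add, map_nsmul, ← sub_sub, e, ← nsmul_sub, ← hR, hR', map_nsmul, smul_smul, pow_one, ← pow_succ]

section Scheme

/-- the endomorphism of the polynomial ring attached to a polynomial map -/
def polyEnd (P : Fin n → MvPolynomial (Fin n) k) : MvPolynomial (Fin n) k →ₐ[k] MvPolynomial (Fin n) k :=
  MvPolynomial.bind₁ P

theorem eval_polyEnd (P : Fin n → MvPolynomial (Fin n) k) (v : Fin n → k) (G : MvPolynomial (Fin n) k) :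
    MvPolynomial.eval v (polyEnd P G) = MvPolynomial.eval (fun i => MvPolynomial.eval v (P i)) G :=
  MvPolynomial.eval₂Hom_bind₁ (RingHom.id k) v P G

theorem polyEnd_finite (φ : TruncatedWittVector p n k →+ TruncatedWittVector p n k)
    (P : Fin n → MvPolynomial (Fin n) k)
    (hP : ∀ a i, (φ a).coeff i = MvPolynomial.eval (fun j => a.coeff j) (P i))
    (a : Fin n → Polynomial k) (ha : ∀ i, (a i).natDegree ≠ 0)
    (htri : ∀ i x, (φ x).coeff i =
      (φ (TruncatedWittVector.mk p fun j => if j < i then x.coeff j else 0)).coeff i + (a i).eval (x.coeff i)) :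
    (polyEnd P).toRingHom.Finite := by
  classical
  let R := (polyEnd P).range
  have hP' : ∀ i, P i ∈ R := fun i => ⟨MvPolynomial.X i, MvPolynomial.bind₁_X_right P i⟩
  have hint : ∀ i, IsIntegral R (MvPolynomial.X i : MvPolynomial (Fin n) k) := by
    intro i
    induction hi : (i : ℕ) using Nat.strong_induction_on generalizing i with
    | _ m ih =>
      subst hi
      let T : MvPolynomial (Fin n) k :=
        MvPolynomial.aeval (fun j => if j < i then (MvPolynomial.X j : MvPolynomial (Fin n) k) else 0) (P i)
      have hT : IsIntegral R T := by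
        refine MvPolynomial.induction_on (P i) ?_ ?_ ?_
          (motive := fun G => IsIntegral R (MvPolynomial.aeval
            (fun j => if j < i then (MvPolynomial.X j : MvPolynomial (Fin n) k) else 0) G))
        · intro c
          rw [MvPolynomial.aeval_C]
          exact isIntegral_algebraMap (R := R) (x := algebraMap k R c)
        · intro G H hG hH
          rw [map_add]
          exact hG.add hH
        · intro G j hG
          rw [map_mul, MvPolynomial.aeval_X]
          refine hG.mul ?_
          split_ifs with hj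
          · exact ih j hj j rfl
          · exact isIntegral_zero
      have heq : P i = T + Polynomial.aeval (MvPolynomial.X i : MvPolynomial (Fin n) k) (a i) := by
        refine MvPolynomial.funext fun v => ?_
        obtain ⟨x, rfl⟩ : ∃ x : TruncatedWittVector p n k, v = fun j => x.coeff j :=
          ⟨TruncatedWittVector.mk p v, funext fun j => (TruncatedWittVector.coeff_mk v j).symm⟩
        rw [map_add, ← hP, htri, hP]
        congr 1
        · simp only [T, MvPolynomial.aeval_def, MvPolynomial.eval₂_comp_left]
          rw [← MvPolynomial.eval₂_id]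
          refine congrArg₂ (fun f g => MvPolynomial.eval₂ f g (P i)) (RingHom.ext fun c => by simp)
            (funext fun j => ?_)
          simp only [Function.comp_apply, TruncatedWittVector.coeff_mk]
          split_ifs <;> simp
        · rw [Polynomial.aeval_def, Polynomial.hom_eval₂, MvPolynomial.eval_X,
            show (MvPolynomial.eval fun j => x.coeff j).comp (algebraMap k (MvPolynomial (Fin n) k)) = RingHom.id k from
              RingHom.ext fun c => by simp]
          rfl
      have hlc : (a i).leadingCoeff ≠ 0 :=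
        Polynomial.leadingCoeff_ne_zero.mpr fun h0 => ha i (by rw [h0, Polynomial.natDegree_zero])
      let q : Polynomial R := ((a i * Polynomial.C (a i).leadingCoeff⁻¹).map (algebraMap k R))
      have hq : q.Monic := (Polynomial.monic_mul_leadingCoeff_inv (fun h => hlc (by rw [h, Polynomial.leadingCoeff_zero]))).map _
      refine IsIntegral.of_aeval_monic hq ?_ ?_
      · rw [Polynomial.natDegree_map_eq_of_injective (algebraMap k R).injective,
          Polynomial.natDegree_mul_C (inv_ne_zero hlc)]
        exact ha i
      · rw [Polynomial.aeval_map_algebraMap, map_mul, Polynomial.aeval_C,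
          show Polynomial.aeval (MvPolynomial.X i : MvPolynomial (Fin n) k) (a i) = P i - T from
            eq_sub_of_add_eq' heq.symm]
        exact ((isIntegral_algebraMap (R := R) (x := ⟨P i, hP' i⟩)).sub hT).mul
          (isIntegral_algebraMap (R := R) (x := algebraMap k R (a i).leadingCoeff⁻¹))
  have hi : Algebra.IsIntegral R (MvPolynomial (Fin n) k) := ⟨fun x => by
    induction x using MvPolynomial.induction_on with
    | C c => exact isIntegral_algebraMap (R := R) (x := algebraMap k R c)
    | add G H hG hH => exact hG.add hH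
    | mul_X G j hG => exact hG.mul (hint j)⟩
  haveI : Algebra.FiniteType R (MvPolynomial (Fin n) k) :=
    Algebra.FiniteType.of_restrictScalars_finiteType k R _
  have hfin : Module.Finite R (MvPolynomial (Fin n) k) := Algebra.IsIntegral.finite
  have hc : (polyEnd P).toRingHom = (algebraMap R (MvPolynomial (Fin n) k)).comp (polyEnd P).rangeRestrict.toRingHom :=
    RingHom.ext fun x => rfl
  rw [hc]
  exact RingHom.Finite.comp (RingHom.finite_algebraMap.mpr hfin)
    (RingHom.Finite.of_surjective _ (polyEnd P).rangeRestrict_surjective)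

theorem polyFn_bijective (n : ℕ) : Function.Bijective (polyFn p k n) := by
  refine ⟨fun G G' h => MvPolynomial.funext fun v => ?_, polyFn_surjective⟩
  obtain ⟨a, rfl⟩ : ∃ a : TruncatedWittVector p n k, v = fun j => a.coeff j :=
    ⟨TruncatedWittVector.mk p v, funext fun j => (TruncatedWittVector.coeff_mk v j).symm⟩
  rw [← gamma_appTop_polyFn, RingHom.comp_apply, RingHom.comp_apply, RingHom.comp_apply, RingHom.comp_apply, h]

instance (n : ℕ) : IsAffine (WittGrp.W p n (Sk k)).left :=
  inferInstanceAs (IsAffine 𝔸(ULift.{u} (Fin n); Sk k))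

/-- an endomorphism with nonzero leading component is a finite surjection -/
theorem isFinite_surjective_of_leading [PerfectRing k p]
    (f : WittGrp.W p (n + 1) (Sk k) ⟶ WittGrp.W p (n + 1) (Sk k)) [IsMonHom f]
    (hne : ∃ a, (act f a).coeff 0 ≠ 0) : IsFinite f.left ∧ Surjective f.left := by
  obtain ⟨Q, hadd, hQ⟩ := exists_leading (actHom f) (isAlgMap_act f)
  have hQ0 : Q ≠ 0 := by
    obtain ⟨a, ha⟩ := hne
    intro h
    exact ha (by rw [← actHom_apply, hQ, h, Polynomial.eval_zero])
  choose P hP using fun i => polyFn_surjective (p := p) (k := k) (f.left.appTop (WittGrp.coord p i))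
  have hPa : ∀ a i, (actHom f a).coeff i = MvPolynomial.eval (fun j => a.coeff j) (P i) :=
    fun a i => act_eq_of_coord f P hP a i
  have hfin := polyEnd_finite (actHom f) P hPa
    (fun i => Q.map (iterateFrobenius k p i)) (fun i => by
      rw [Polynomial.natDegree_map_eq_of_injective (RingHom.injective _)]
      exact natDegree_ne_zero_of_additive Q hadd hQ0)
    (coeff_triangular (actHom f) Q fun i x => hQ x)
  have hinj : Function.Injective (polyEnd P) := fun G G' hG => MvPolynomial.funext fun v => by
    obtain ⟨a, ha⟩ := surjective_of_leading (actHom f) Q hadd hQ0 hQ (TruncatedWittVector.mk p v)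
    have hv : v = fun i => MvPolynomial.eval (fun j => a.coeff j) (P i) := funext fun i => by
      rw [← hPa, ha, TruncatedWittVector.coeff_mk]
    rw [hv, ← eval_polyEnd, hG, eval_polyEnd]
  let e := RingEquiv.ofBijective (polyFn p k (n + 1)) (polyFn_bijective (n + 1))
  have he : f.left.appTop.hom = (e.toRingHom.comp (polyEnd P).toRingHom).comp e.symm.toRingHom := by
    have h1 : f.left.appTop.hom.comp (polyFn p k (n + 1)) = e.toRingHom.comp (polyEnd P).toRingHom := by
      refine MvPolynomial.ringHom_ext (fun c => ?_) fun i => ?_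
      · change f.left.appTop (polyFn p k (n + 1) (MvPolynomial.C c)) = polyFn p k (n + 1) (MvPolynomial.bind₁ P (MvPolynomial.C c))
        rw [MvPolynomial.bind₁_C_right]
        simp only [polyFn, MvPolynomial.eval₂Hom_C]
        exact RingHom.congr_fun (struct_comp f) c
      · change f.left.appTop (polyFn p k (n + 1) (MvPolynomial.X i)) = polyFn p k (n + 1) (MvPolynomial.bind₁ P (MvPolynomial.X i))
        rw [MvPolynomial.bind₁_X_right, hP]
        simp [polyFn]
    rw [← h1, RingHom.comp_assoc]
    ext x
    exact congrArg f.left.appTop.hom (e.apply_symm_apply x).symm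
  have hf1 : f.left.appTop.hom.Finite := by
    rw [he]
    exact ((RingHom.Finite.of_surjective _ e.surjective).comp hfin).comp (RingHom.Finite.of_surjective _ e.symm.surjective)
  have hf2 : Function.Injective f.left.appTop.hom := by
    rw [he]
    exact (e.injective.comp hinj).comp e.symm.injective
  have hiso : f.left = (WittGrp.W p (n + 1) (Sk k)).left.isoSpec.hom ≫ Spec.map f.left.appTop ≫
      (WittGrp.W p (n + 1) (Sk k)).left.isoSpec.inv := by
    rw [← Category.assoc, Scheme.isoSpec_hom_naturality, Category.assoc, Iso.hom_inv_id, Category.comp_id]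
  have hS : IsFinite (Spec.map f.left.appTop) := (IsFinite.SpecMap_iff _).mpr hf1
  have hT : Surjective (Spec.map f.left.appTop) := ⟨hf1.to_isIntegral.comap_surjective hf2⟩
  rw [hiso]
  exact ⟨(MorphismProperty.cancel_left_of_respectsIso @IsFinite _ _).mpr
      ((MorphismProperty.cancel_right_of_respectsIso @IsFinite _ _).mpr hS),
    (MorphismProperty.cancel_left_of_respectsIso @Surjective _ _).mpr
      ((MorphismProperty.cancel_right_of_respectsIso @Surjective _ _).mpr hT)⟩

/-- a map killing the leading component is not surjective -/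
theorem not_surjective_of_leading_eq_zero (f : WittGrp.W p (n + 1) (Sk k) ⟶ WittGrp.W p (n + 1) (Sk k))
    (h0 : ∀ a, (act f a).coeff 0 = 0) : ¬ Surjective f.left := by
  intro hs
  let c := WittGrp.coord (S := Sk k) p (0 : Fin (n + 1))
  have hc : f.left.appTop c = 0 := by
    obtain ⟨P, hP⟩ := polyFn_surjective (p := p) (k := k) (f.left.appTop c)
    have : P = 0 := MvPolynomial.funext fun v => by
      obtain ⟨a, rfl⟩ : ∃ a : TruncatedWittVector p (n + 1) k, v = fun j => a.coeff j :=
        ⟨TruncatedWittVector.mk p v, funext fun j => (TruncatedWittVector.coeff_mk v j).symm⟩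
      rw [← gamma_appTop_polyFn, map_zero]
      change gamma k ((pt a).left.appTop (polyFn p k (n + 1) P)) = 0
      rw [hP, ← h0 a, act, WittGrp.coeff_truncMap, WittGrp.coeff_pts]
      rfl
    rw [← hP, this, map_zero]
  have hD : (WittGrp.W p (n + 1) (Sk k)).left.basicOpen c = ⊥ := by
    rw [eq_bot_iff]
    intro x hx
    obtain ⟨y, rfl⟩ := hs.surj x
    have : y ∈ f.left ⁻¹ᵁ (WittGrp.W p (n + 1) (Sk k)).left.basicOpen c := hx
    rw [Scheme.preimage_basicOpen] at this
    change y ∈ (WittGrp.W p (n + 1) (Sk k)).left.basicOpen (f.left.appTop c) at this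
    rwa [hc, Scheme.basicOpen_zero] at this
  let q : T0 k ⟶ WittGrp.W p (n + 1) (Sk k) := pt (TruncatedWittVector.mk p fun _ => 1)
  have hq : q.left.appTop c = 1 := by
    rw [← WittGrp.coeff_pts, pts_pt, WittGrp.coeff_truncMap, TruncatedWittVector.coeff_mk, map_one]
  have hne : Nonempty (T0 k).left := inferInstanceAs (Nonempty (PrimeSpectrum k))
  obtain ⟨y⟩ := hne
  have : y ∈ (T0 k).left.basicOpen (q.left.appTop c) := by
    rw [hq, Scheme.basicOpen_of_isUnit _ isUnit_one]
    trivial
  have h2 : y ∈ q.left ⁻¹ᵁ (WittGrp.W p (n + 1) (Sk k)).left.basicOpen c := by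
    rw [Scheme.preimage_basicOpen]
    exact this
  rw [hD] at h2
  exact h2

end Scheme

/-- iterated transport across the Verschiebung -/
theorem Gen.exists_comm_iterate [PerfectRing k p] {Φ : WittVector p k →+ WittVector p k} (hΦ : Gen Φ) (m : ℕ) :
    ∃ Φ', Gen Φ' ∧ ∀ X, Φ' ((WittVector.verschiebung)^[m] X) = (WittVector.verschiebung)^[m] (Φ X) := by
  induction m with
  | zero => exact ⟨Φ, hΦ, fun X => rfl⟩
  | succ m ih =>
    obtain ⟨Ψ, hΨ, e⟩ := ih
    obtain ⟨Ψ', hΨ', e'⟩ := hΨ.exists_comm_ver
    exact ⟨Ψ', hΨ', fun X => by rw [Function.iterate_succ_apply', e', e, Function.iterate_succ_apply']⟩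

/-- an endomorphism killing the leading component is a Verschiebung -/
theorem exists_gen_ver [PerfectRing k p] (φ : TruncatedWittVector p (n + 1) k →+ TruncatedWittVector p (n + 1) k)
    (hφ : IsAlgMap φ) (h0 : ∀ a, (φ a).coeff 0 = 0) :
    ∃ Φ : WittVector p k →+ WittVector p k, Gen Φ ∧
      ∀ X, WittVector.truncate (n + 1) (WittVector.verschiebung (Φ X)) = φ (WittVector.truncate (n + 1) X) := by
  have hsh : ∀ x, WittGrp.shift p (Nat.le_succ n) (unshift (Nat.le_succ n) (φ x)) = φ x :=
    fun x => shift_unshift _ _ fun i hi => by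
      obtain rfl : i = 0 := Fin.ext (by simp only [Fin.val_zero]; change (i : ℕ) < n + 1 - n at hi; omega)
      exact h0 x
  let δ : TruncatedWittVector p (n + 1) k →+ TruncatedWittVector p n k :=
    AddMonoidHom.mk' (fun x => unshift (Nat.le_succ n) (φ x)) fun a b =>
      shift_injective' (Nat.le_succ n) (by
        rw [map_add (WittGrp.shift p (Nat.le_succ n)), hsh, hsh, hsh, map_add])
  obtain ⟨χ, hχ, eχ⟩ := exists_factor_truncate (Nat.le_succ n) δ fun z => pow_nsmul_eq_zero le_rfl _
  have hχalg : IsAlgMap χ := by
    rw [show (χ : TruncatedWittVector p n k → _) = fun y => δ (padEnd y) from funext hχ]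
    exact ((isAlgMap_unshift (Nat.le_succ n)).comp hφ).comp isAlgMap_padEnd
  obtain ⟨Φ, hΦ, eΦ⟩ := exists_gen χ hχalg
  refine ⟨Φ, hΦ, fun X => ?_⟩
  have hv : WittVector.truncate (n + 1) (WittVector.verschiebung (Φ X)) =
      WittGrp.shift p (Nat.le_succ n) (WittVector.truncate n (Φ X)) := by
    rw [WittGrp.shift_truncate, show n.succ - n = 1 by omega, Function.iterate_one]
  rw [hv, eΦ, ← TruncatedWittVector.truncate_wittVector_truncate (Nat.le_succ n), eχ]
  exact hsh _

end Groth.Agent.H27Witt
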