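import Groth.Agent.H27Witt.Chars
import Groth.Agent.H27Witt.DiagFn
import Mathlib

/-!
# A smooth connected commutative affine group without subtori is killed by a power of `p`
-/

set_option autoImplicit false
set_option linter.style.haveILetI false
universe u

open CategoryTheory MonoidalCategory CartesianMonoidalCategory MonObj AlgebraicGeometry

noncomputable section

namespace Groth.Agent.H27Witt

variable {k : Type u} [Field k] [IsAlgClosed k]

open Fn

/-- the multiplicative function `g` composed with inversion is its inverse -/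
theorem IsChar_mul_inv {G : Over (Sk k)} [GrpObj G] [IsAffine G.left] [Smooth G.hom] {g : Fn G} (hg : IsChar g) :
    g * pull (𝟙 G)⁻¹ g = 1 := by
  refine ext_points fun x => ?_
  rw [map_mul, map_one, ev_pull, ← hg.2, GrpObj.comp_inv, Category.comp_id, mul_inv_cancel, hg.1]

/-- characters inside the functions pulled back along a homomorphism form a torus -/
theorem exists_chars_group {G : Over (Sk k)} [GrpObj G] [IsCommMonObj G] [IsAffine G.left] [Smooth G.hom]
    [ConnectedSpace G.left] (pw : G ⟶ G) (hinv : pw ≫ (𝟙 G)⁻¹ = (𝟙 G)⁻¹ ≫ pw) (F : Finset (Fn G))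
    (hF : ∀ g ∈ F, IsChar g ∧ g ∈ (pull pw).range) :
    ∃ (r : ℕ) (χ : Multiplicative (Fin r → ℤ) →* Fn G), Function.Injective χ ∧
      (∀ m, IsChar (χ m) ∧ χ m ∈ (pull pw).range) ∧ ∀ g ∈ F, g ∈ Set.range χ := by
  classical
  haveI := isDomain G
  have hinvRange : ∀ g ∈ (pull pw).range, pull (𝟙 G)⁻¹ g ∈ (pull pw).range := by
    intro g hg
    obtain ⟨a, rfl⟩ := (AlgHom.mem_range _).mp hg
    exact (AlgHom.mem_range _).mpr ⟨pull (𝟙 G)⁻¹ a, by rw [pull_pull, pull_pull, hinv]⟩
  let u₀ : {g // g ∈ F} → (Fn G)ˣ := fun g =>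
    ⟨g.1, pull (𝟙 G)⁻¹ g.1, IsChar_mul_inv (hF _ g.2).1,
      (mul_comm _ _).trans (IsChar_mul_inv (hF _ g.2).1)⟩
  let H : Subgroup (Fn G)ˣ := Subgroup.closure (Set.range u₀)
  let P : (Fn G)ˣ → Prop := fun h => IsChar (h : Fn G) ∧ (h : Fn G) ∈ (pull pw).range
  have hHP : ∀ h ∈ H, P h := by
    intro h hh
    induction hh using Subgroup.closure_induction with
    | mem x hx =>
      obtain ⟨g, rfl⟩ := hx
      exact hF _ g.2
    | one => exact ⟨⟨map_one _, fun x y => by simp⟩, one_mem _⟩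
    | mul x y _ _ hx hy =>
      refine ⟨⟨?_, fun a b => ?_⟩, ?_⟩
      · rw [Units.val_mul, map_mul, hx.1.1, hy.1.1, _root_.one_mul]
      · simp only [Units.val_mul, map_mul, hx.1.2, hy.1.2]; ring
      · rw [Units.val_mul]; exact mul_mem hx.2 hy.2
    | inv x _ hx =>
      have e : ((x⁻¹ : (Fn G)ˣ) : Fn G) = pull (𝟙 G)⁻¹ (x : Fn G) := by
        calc ((x⁻¹ : (Fn G)ˣ) : Fn G) = (x⁻¹ : (Fn G)ˣ) * ((x : Fn G) * pull (𝟙 G)⁻¹ (x : Fn G)) := by
              rw [IsChar_mul_inv hx.1, _root_.mul_one]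
          _ = _ := by rw [← _root_.mul_assoc, Units.inv_mul, _root_.one_mul]
      refine ⟨⟨?_, fun a b => ?_⟩, ?_⟩
      · rw [e, ev_pull, GrpObj.comp_inv, Category.comp_id, inv_one, hx.1.1]
      · rw [e, ev_pull, ev_pull, ev_pull, GrpObj.comp_inv, GrpObj.comp_inv, GrpObj.comp_inv, Category.comp_id,
          Category.comp_id, Category.comp_id, mul_inv, hx.1.2]
      · rw [e]; exact hinvRange _ hx.2
  haveI : Group.FG H := (Group.fg_iff_subgroup_fg H).mpr ((Subgroup.fg_iff _).mpr ⟨_, rfl, Set.finite_range u₀⟩)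
  have htf : ∀ (n : ℕ), n ≠ 0 → ∀ h : H, h ^ n = 1 → h = 1 := by
    intro n hn h hh
    have h1 : ((h : (Fn G)ˣ) : Fn G) ^ n = 1 := by
      rw [← Units.val_pow_eq_pow_val, ← SubgroupClass.coe_pow, hh]; rfl
    have hint : IsIntegral k ((h : (Fn G)ˣ) : Fn G) :=
      IsIntegral.of_pow (Nat.pos_of_ne_zero hn) (by rw [h1]; exact isIntegral_one)
    obtain ⟨c, hc⟩ := minpoly.mem_range_of_degree_eq_one k ((h : (Fn G)ˣ) : Fn G)
      (IsAlgClosed.degree_eq_one_of_irreducible k (minpoly.irreducible hint))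
    have hc1 : c = 1 := by
      have h2 := (hHP h h.2).1.1
      rw [← hc, AlgHom.commutes] at h2
      exact h2
    refine Subtype.ext (Units.ext ?_)
    rw [← hc, hc1, map_one]; rfl
  haveI : IsMulTorsionFree H := ⟨fun n hn a b hab => by
    refine div_eq_one.mp (htf n hn (a / b) ?_)
    simp only at hab
    rw [div_pow, hab, div_self']⟩
  haveI : AddMonoid.FG (Additive H) := AddGroup.fg_iff_addMonoid_fg.mp inferInstance
  haveI : Module.Finite ℤ (Additive H) := Module.Finite.iff_addGroup_fg.mpr inferInstance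
  haveI : Module.IsTorsionFree ℤ (Additive H) := inferInstance
  let b := Module.finBasis ℤ (Additive H)
  let e : Multiplicative (Fin (Module.finrank ℤ (Additive H)) → ℤ) ≃* H :=
    (AddEquiv.toMultiplicativeLeft (b.equivFun.symm.toAddEquiv))
  refine ⟨_, (Units.coeHom (Fn G)).comp (H.subtype.comp e.toMonoidHom), ?_, fun m => hHP _ (e m).2, fun g hg => ?_⟩
  · intro a c hac
    exact e.injective (Subtype.ext (Units.ext hac))
  · refine ⟨e.symm ⟨u₀ ⟨g, hg⟩, Subgroup.subset_closure ⟨⟨g, hg⟩, rfl⟩⟩, ?_⟩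
    simp [u₀]

/-- a group without subtori has no nontrivial characters on images -/
theorem eq_one_of_characters {G : Over (Sk k)} [GrpObj G] [IsCommMonObj G] [IsAffine G.left] [Smooth G.hom]
    [ConnectedSpace G.left] (hG : Red.HasNoSubtorus k G) (pw : G ⟶ G)
    (hpw : ∀ x y : T0 k ⟶ G, (x * y) ≫ pw = (x ≫ pw) * (y ≫ pw))
    (hinv : pw ≫ (𝟙 G)⁻¹ = (𝟙 G)⁻¹ ≫ pw) (F : Finset (Fn G))
    (hF : ∀ g ∈ F, IsChar g ∧ g ∈ (pull pw).range) (hle : (pull pw).range ≤ Algebra.adjoin k (F : Set (Fn G))) :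
    pw = 1 := by
  classical
  obtain ⟨r, χ, hχinj, hχ, hFχ⟩ := exists_chars_group pw hinv F hF
  let Ψ : (MonoidAlgebra k (Multiplicative (Fin r → ℤ))) →ₐ[k] Fn G := MonoidAlgebra.lift k (Fn G) (Multiplicative (Fin r → ℤ)) χ
  -- characters are independent
  let σ : (Multiplicative (Fin r → ℤ)) → ((T0 k ⟶ G) →* k) := fun m =>
    { toFun := fun x => ev x (χ m), map_one' := (hχ m).1.1, map_mul' := (hχ m).1.2 }
  have hσ : Function.Injective σ := fun m m' h => hχinj (ext_points fun x => DFunLike.congr_fun h x)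
  have hli : LinearIndependent k (fun m => (σ m : (T0 k ⟶ G) → k)) :=
    (linearIndependent_monoidHom (T0 k ⟶ G) k).comp σ hσ
  have hli2 : LinearIndependent k (fun mm : (Multiplicative (Fin r → ℤ)) × (Multiplicative (Fin r → ℤ)) =>
      (fun xy : (T0 k ⟶ G) × (T0 k ⟶ G) => σ mm.1 xy.1 * σ mm.2 xy.2)) := by
    refine (linearIndependent_monoidHom ((T0 k ⟶ G) × (T0 k ⟶ G)) k).comp
      (fun mm : Multiplicative (Fin r → ℤ) × Multiplicative (Fin r → ℤ) => ((σ mm.1).comp (MonoidHom.fst _ _)) * ((σ mm.2).comp (MonoidHom.snd _ _))) ?_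
    intro a b hab
    refine Prod.ext (hσ (MonoidHom.ext fun x => ?_)) (hσ (MonoidHom.ext fun x => ?_))
    · simpa using DFunLike.congr_fun hab (x, 1)
    · simpa using DFunLike.congr_fun hab (1, x)
  have hΨsingle : ∀ m, Ψ (MonoidAlgebra.single m 1) = χ m := fun m => by simp [Ψ]
  have hΨinj : Function.Injective Ψ := by
    refine (injective_iff_map_eq_zero _).mpr fun z hz => ?_
    have h1 : Finsupp.linearCombination k (fun m => (σ m : (T0 k ⟶ G) → k)) z.coeff = 0 := by
      funext x
      have h2 := congrArg (ev x) hz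
      rw [map_zero, MonoidAlgebra.lift_apply, map_finsuppSum] at h2
      rw [Finsupp.linearCombination_apply, Finsupp.sum, Finset.sum_apply, Pi.zero_apply]
      refine Eq.trans ?_ h2
      refine Finset.sum_congr rfl fun m _ => ?_
      simp [σ]
    exact MonoidAlgebra.coeff_injective (linearIndependent_iff.mp hli _ h1)
  have hrange : Ψ.range = (pull pw).range := by
    refine le_antisymm ?_ (hle.trans (Algebra.adjoin_le fun g hg => ?_))
    · intro y hy
      obtain ⟨z, rfl⟩ := (AlgHom.mem_range _).mp hy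
      clear hy
      induction z using MonoidAlgebra.induction_on with
      | of m => exact (hΨsingle m).symm ▸ (hχ m).2
      | add a b ha hb => rw [map_add]; exact add_mem ha hb
      | smul c a ha => rw [map_smul]; exact Subalgebra.smul_mem _ ha c
    · obtain ⟨m, rfl⟩ := hFχ g hg
      exact (AlgHom.mem_range _).mpr ⟨MonoidAlgebra.single m 1, hΨsingle m⟩
  have hlift : ∀ a : Fn G, ∃ z : (MonoidAlgebra k (Multiplicative (Fin r → ℤ))), Ψ z = pull pw a := fun a =>
    (AlgHom.mem_range _).mp (hrange ▸ (AlgHom.mem_range (pull pw)).mpr ⟨a, rfl⟩)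
  choose v hv using hlift
  let vA : Fn G →ₐ[k] (MonoidAlgebra k (Multiplicative (Fin r → ℤ))) :=
    { toFun := v
      map_one' := hΨinj (by simp [hv])
      map_mul' := fun a b => hΨinj (by simp [hv])
      map_zero' := hΨinj (by simp [hv])
      map_add' := fun a b => hΨinj (by simp [hv])
      commutes' := fun c => hΨinj ((hv _).trans ((AlgHom.commutes (pull pw) c).trans (Ψ.commutes c).symm)) }
  have hvsurj : Function.Surjective vA := fun z => by
    obtain ⟨a, ha⟩ := (AlgHom.mem_range _).mp (hrange ▸ (AlgHom.mem_range Ψ).mpr ⟨z, rfl⟩ :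
      Ψ z ∈ (pull pw).range)
    exact ⟨a, hΨinj ((hv a).trans ha)⟩
  let E := diagFn (k := k) (Fin r → ℤ)
  obtain ⟨j₀, hj₀⟩ := Fn.exists_hom (X := Red.diag k (Fin r → ℤ)) (E.toAlgHom.comp vA)
  haveI : IsAffine (Red.diag k (Fin r → ℤ)).left := inferInstanceAs (IsAffine (Spec _))
  haveI : IsMonHom j₀ := by
    refine H21Diag.isMonHom_of_mul (G := Red.diag k (Fin r → ℤ)) j₀ fun {T} a b => hom_ext (AlgHom.ext fun f => ?_)
    obtain ⟨n, c, d, hdec⟩ := exists_decomp_mul f
    rw [hdec T (a ≫ j₀) (b ≫ j₀), pull_comp, AlgHom.comp_apply, hj₀]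
    simp only [pull_comp, AlgHom.comp_apply, hj₀]
    -- the universal identity
    let dg : (MonoidAlgebra k (Multiplicative (Fin r → ℤ))) →ₐ[k] MonoidAlgebra k ((Multiplicative (Fin r → ℤ)) × (Multiplicative (Fin r → ℤ))) := MonoidAlgebra.lift k _ (Multiplicative (Fin r → ℤ))
      ((MonoidAlgebra.of k ((Multiplicative (Fin r → ℤ)) × (Multiplicative (Fin r → ℤ)))).comp ((MonoidHom.id (Multiplicative (Fin r → ℤ))).prod (MonoidHom.id (Multiplicative (Fin r → ℤ)))))
    let dl : (MonoidAlgebra k (Multiplicative (Fin r → ℤ))) →ₐ[k] MonoidAlgebra k ((Multiplicative (Fin r → ℤ)) × (Multiplicative (Fin r → ℤ))) := MonoidAlgebra.lift k _ (Multiplicative (Fin r → ℤ))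
      ((MonoidAlgebra.of k ((Multiplicative (Fin r → ℤ)) × (Multiplicative (Fin r → ℤ)))).comp (MonoidHom.inl (Multiplicative (Fin r → ℤ)) (Multiplicative (Fin r → ℤ))))
    let dr : (MonoidAlgebra k (Multiplicative (Fin r → ℤ))) →ₐ[k] MonoidAlgebra k ((Multiplicative (Fin r → ℤ)) × (Multiplicative (Fin r → ℤ))) := MonoidAlgebra.lift k _ (Multiplicative (Fin r → ℤ))
      ((MonoidAlgebra.of k ((Multiplicative (Fin r → ℤ)) × (Multiplicative (Fin r → ℤ)))).comp (MonoidHom.inr (Multiplicative (Fin r → ℤ)) (Multiplicative (Fin r → ℤ))))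
    let E2 : MonoidAlgebra k ((Multiplicative (Fin r → ℤ)) × (Multiplicative (Fin r → ℤ))) →ₐ[k] ((T0 k ⟶ G) × (T0 k ⟶ G) → k) :=
      MonoidAlgebra.lift k _ ((Multiplicative (Fin r → ℤ)) × (Multiplicative (Fin r → ℤ)))
        { toFun := fun mm xy => σ mm.1 xy.1 * σ mm.2 xy.2
          map_one' := funext fun xy => by simp [σ]
          map_mul' := fun a b => funext fun xy => by simp [σ]; ring }
    have hE2 : Function.Injective E2 := by
      refine (injective_iff_map_eq_zero _).mpr fun z hz => ?_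
      refine MonoidAlgebra.coeff_injective (linearIndependent_iff.mp hli2 _ ?_)
      rw [Finsupp.linearCombination_apply]
      rw [MonoidAlgebra.lift_apply] at hz
      exact hz
    have hl : ∀ (z : (MonoidAlgebra k (Multiplicative (Fin r → ℤ)))) xy, E2 (dl z) xy = ev xy.1 (Ψ z) := by
      intro z xy
      induction z using MonoidAlgebra.induction_on with
      | of m => simp [E2, dl, Ψ, σ, (hχ 1).1]
      | add a b ha hb => simp [ha, hb]
      | smul c a ha => simp [ha]
    have hr' : ∀ (z : (MonoidAlgebra k (Multiplicative (Fin r → ℤ)))) xy, E2 (dr z) xy = ev xy.2 (Ψ z) := by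
      intro z xy
      induction z using MonoidAlgebra.induction_on with
      | of m => simp [E2, dr, Ψ, σ, (hχ 1).1]
      | add a b ha hb => simp [ha, hb]
      | smul c a ha => simp [ha]
    have hd : ∀ (z : (MonoidAlgebra k (Multiplicative (Fin r → ℤ)))) xy, E2 (dg z) xy = ev (xy.1 * xy.2) (Ψ z) := by
      intro z xy
      induction z using MonoidAlgebra.induction_on with
      | of m => simp [E2, dg, Ψ, σ, (hχ m).1.2]
      | add a b ha hb => simp [ha, hb]
      | smul c a ha => simp [ha]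
    have hid : dg (vA f) = ∑ i, dl (vA (c i)) * dr (vA (d i)) := by
      refine hE2 (funext fun xy => ?_)
      rw [map_sum, Finset.sum_apply, hd, show Ψ (vA f) = pull pw f from hv f, ev_pull, hpw]
      have h3 := congrArg gammaAlg (hdec (T0 k) (xy.1 ≫ pw) (xy.2 ≫ pw))
      rw [map_sum] at h3
      refine h3.trans (Finset.sum_congr rfl fun i _ => ?_)
      rw [map_mul, map_mul, Pi.mul_apply, hl, hr', show Ψ (vA (c i)) = pull pw (c i) from hv _,
        show Ψ (vA (d i)) = pull pw (d i) from hv _, ev_pull, ev_pull]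
      rfl
    let μf : (Multiplicative (Fin r → ℤ)) →* Fn T :=
      ((pull a).comp E.toAlgHom).toMonoidHom.comp (MonoidAlgebra.of k (Multiplicative (Fin r → ℤ)))
    let νf : (Multiplicative (Fin r → ℤ)) →* Fn T :=
      ((pull b).comp E.toAlgHom).toMonoidHom.comp (MonoidAlgebra.of k (Multiplicative (Fin r → ℤ)))
    let LL : MonoidAlgebra k ((Multiplicative (Fin r → ℤ)) × (Multiplicative (Fin r → ℤ))) →ₐ[k] Fn T :=
      MonoidAlgebra.lift k _ ((Multiplicative (Fin r → ℤ)) × (Multiplicative (Fin r → ℤ))) (μf.coprod νf)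
    have hLg : LL.comp dg = (pull (a * b)).comp E.toAlgHom := by
      refine MonoidAlgebra.algHom_ext (fun m => ?_) (Subsingleton.elim _ _)
      refine Eq.trans ?_ (diagFn_mul a b m).symm
      simp [LL, dg, μf, νf, E]
    have hLl : LL.comp dl = (pull a).comp E.toAlgHom := by
      refine MonoidAlgebra.algHom_ext (fun m => ?_) (Subsingleton.elim _ _)
      simp [LL, dl, μf, νf, ← MonoidAlgebra.one_def]
    have hLr : LL.comp dr = (pull b).comp E.toAlgHom := by
      refine MonoidAlgebra.algHom_ext (fun m => ?_) (Subsingleton.elim _ _)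
      simp [LL, dr, μf, νf, ← MonoidAlgebra.one_def]
    have h4 := congrArg LL hid
    rw [map_sum] at h4
    refine ((AlgHom.congr_fun hLg (vA f)).symm.trans h4).trans (Finset.sum_congr rfl fun i _ => ?_)
    rw [map_mul]
    exact congrArg₂ (· * ·) (AlgHom.congr_fun hLl _) (AlgHom.congr_fun hLr _)
  haveI : IsClosedImmersion j₀.left := by
    refine IsClosedImmersion.of_surjective_of_isAffine _ ?_
    intro z
    obtain ⟨w, hw⟩ := E.surjective z
    obtain ⟨a, ha⟩ := hvsurj w
    exact ⟨a, by rw [← hw, ← ha]; exact AlgHom.congr_fun hj₀ a⟩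
  haveI : Mono j₀ := (Over.forget _).mono_of_mono_map (show Mono j₀.left from inferInstance)
  haveI := H21Diag.isIso_diagToDS k (Fin r → ℤ)
  haveI := H21Diag.isMonHom_diagToDS k (Fin r → ℤ)
  haveI : IsMonHom (inv (H21Diag.diagToDS k (Fin r → ℤ))) :=
    inferInstanceAs (IsMonHom (asIso (H21Diag.diagToDS k (Fin r → ℤ))).inv)
  have hr : r = 0 := by
    by_contra hr
    exact not_isTrivialGrp_DS hr (hG (Red.DS (Sk k) (Fin r → ℤ))
      (inv (H21Diag.diagToDS k (Fin r → ℤ)) ≫ j₀) (isTorus_DS _ r))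
  obtain rfl : r = 0 := hr
  refine hom_ext (AlgHom.ext fun a => ext_points fun x => ?_)
  have h1 : ∀ y : T0 k ⟶ G, ev y (pull pw a) = ev 1 (pull pw a) := by
    intro y
    rw [← hv a]
    have hz : ∀ z : (MonoidAlgebra k (Multiplicative (Fin 0 → ℤ))), ev y (Ψ z) = ev 1 (Ψ z) := by
      intro z
      induction z using MonoidAlgebra.induction_on with
      | of m => rw [Subsingleton.elim m 1, map_one, map_one, map_one, map_one]
      | add p q hp hq => simp [hp, hq]
      | smul c p hp => simp [hp]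
    exact hz _
  rw [h1 x, ev_pull, ev_pull, MonObj.comp_one]
  have h1' : (1 : T0 k ⟶ G) ≫ pw = 1 := by
    have := hpw 1 1
    rw [_root_.one_mul] at this
    exact left_eq_mul.mp this
  rw [h1']

/-- a smooth connected commutative affine group without subtori is killed by a power of `p` -/
theorem exists_pow_eq_one (p : ℕ) [Fact p.Prime] [CharP k p] (G : Over (Sk k)) [GrpObj G] [IsCommMonObj G]
    [Smooth G.hom] [ConnectedSpace G.left] [IsAffine G.left] (hG : Red.HasNoSubtorus k G) :
    ∃ N : ℕ, (𝟙 G) ^ p ^ N = 1 := by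
  obtain ⟨N, F, hF, hle⟩ := exists_characters p G
  refine ⟨N, eq_one_of_characters hG _ (fun x y => ?_) ?_ F hF hle⟩
  · rw [MonObj.comp_pow, MonObj.comp_pow, MonObj.comp_pow, Category.comp_id, Category.comp_id, Category.comp_id,
      _root_.mul_pow]
  · rw [GrpObj.comp_inv, Category.comp_id, MonObj.comp_pow, Category.comp_id, inv_pow]

end Groth.Agent.H27Witt
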